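import Mathlib
import Cfsg.Prelude.Def_Characters
import Cfsg.Agent.H4.Chars
import Cfsg.Agent.H4.RealClasses
import Cfsg.Agent.H82.Irr
import Cfsg.Agent.H82.PermChar
import Cfsg.Agent.H82.Triv

/-!
# The coset average of `|χ|²` over a normal subgroup

For an irreducible character `χ` of `G` and a normal subgroup `N`, the function
`g ↦ |N|⁻¹ ∑_{x ∈ N} |χ (x g)|²` is a character of `G` (the part of `χ χ̄` with `N` in the
kernel), containing the trivial character exactly once.
-/

set_option autoImplicit false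

namespace Cfsg.Agent.H82

open Cfsg.Agent.H4
open scoped ComplexConjugate

section CosetAvg

variable {G : Type*} [Group G] [Fintype G]

theorem sum_coset_swap (N : Subgroup G) [Fintype N] (θ ψ : G → ℂ) :
    ∑ g : G, (∑ x : N, θ ((x : G) * g)) * ψ g = ∑ g : G, θ g * ∑ x : N, ψ ((x : G) * g) := by
  calc ∑ g : G, (∑ x : N, θ ((x : G) * g)) * ψ g
      = ∑ x : N, ∑ g : G, θ ((x : G) * g) * ψ g := by
        simp only [Finset.sum_mul]; exact Finset.sum_comm
    _ = ∑ x : N, ∑ g : G, θ g * ψ ((x : G)⁻¹ * g) := by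
        refine Finset.sum_congr rfl fun x _ => ?_
        rw [← Equiv.sum_comp (Equiv.mulLeft (x : G)) (fun g => θ g * ψ ((x : G)⁻¹ * g))]
        refine Finset.sum_congr rfl fun g _ => ?_
        simp
    _ = ∑ x : N, ∑ g : G, θ g * ψ ((x : G) * g) := by
        rw [← Equiv.sum_comp (Equiv.inv N) (fun x : N => ∑ g : G, θ g * ψ ((x : G) * g))]
        simp
    _ = ∑ g : G, θ g * ∑ x : N, ψ ((x : G) * g) := by
        simp only [Finset.mul_sum]; exact Finset.sum_comm

/-- The average of `|χ|²` over the coset `N g`. -/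
noncomputable def cosetAvg (N : Subgroup G) [Fintype N] (χ : G → ℂ) (g : G) : ℂ :=
  (Nat.card N : ℂ)⁻¹ * ∑ x : N, χ ((x : G) * g) * conj (χ ((x : G) * g))

theorem cosetAvg_eq_ofReal (N : Subgroup G) [Fintype N] (χ : G → ℂ) (g : G) :
    cosetAvg N χ g = (((Nat.card N : ℝ)⁻¹ * ∑ x : N, ‖χ ((x : G) * g)‖ ^ 2 : ℝ) : ℂ) := by
  unfold cosetAvg
  push_cast
  congr 1
  refine Finset.sum_congr rfl fun x _ => ?_
  rw [Complex.mul_conj, Complex.normSq_eq_norm_sq]
  push_cast
  rfl

theorem cosetAvg_one (N : Subgroup G) [Fintype N] (χ : G → ℂ) :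
    cosetAvg N χ 1 = Cfsg.classInner (fun n : N => χ n) (fun n : N => χ n) := by
  unfold cosetAvg Cfsg.classInner
  simp only [mul_one]

theorem cosetAvg_isClassFunction (N : Subgroup G) [N.Normal] [Fintype N] {χ : G → ℂ}
    (hχ : Cfsg.IsClassFunction G χ) : Cfsg.IsClassFunction G (cosetAvg N χ) := by
  intro g h
  unfold cosetAvg
  congr 1
  refine ((Equiv.sum_comp (MulAut.conjNormal h : MulAut N).toEquiv
    (fun x : N => χ ((x : G) * (h * g * h⁻¹)) * conj (χ ((x : G) * (h * g * h⁻¹))))).symm).trans ?_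
  refine Finset.sum_congr rfl fun x _ => ?_
  have h1 : (((MulAut.conjNormal h : MulAut N).toEquiv x : N) : G) * (h * g * h⁻¹) =
      h * ((x : G) * g) * h⁻¹ := by
    change ((MulAut.conjNormal h x : N) : G) * (h * g * h⁻¹) = h * ((x : G) * g) * h⁻¹
    rw [MulAut.conjNormal_apply]
    group
  rw [h1, hχ]

theorem classInner_cosetAvg_aux (N : Subgroup G) [N.Normal] [Fintype N]
    (χ ψ : Cfsg.IrrCharacter G) :
    Cfsg.classInner (cosetAvg N χ.1) ψ.1 =
      (Nat.card G : ℂ)⁻¹ * ((Nat.card N : ℂ)⁻¹ *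
        ∑ g : G, (χ.1 g * conj (χ.1 g)) * ∑ x : N, conj (ψ.1 ((x : G) * g))) := by
  have hswap := sum_coset_swap N (fun y => χ.1 y * conj (χ.1 y)) (fun g => conj (ψ.1 g))
  rw [← hswap]
  unfold Cfsg.classInner cosetAvg
  congr 1
  rw [Finset.mul_sum]
  refine Finset.sum_congr rfl fun g _ => ?_
  ring

theorem classInner_cosetAvg_of_ker (N : Subgroup G) [N.Normal] [Fintype N]
    (χ ψ : Cfsg.IrrCharacter G) (hker : ∀ x ∈ N, ψ.1 x = ψ.1 1) :
    Cfsg.classInner (cosetAvg N χ.1) ψ.1 =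
      Cfsg.classInner (χ.1 * fun g => conj (χ.1 g)) ψ.1 := by
  have hN0 : (Nat.card N : ℂ) ≠ 0 := by
    have : 0 < Nat.card N := Nat.card_pos
    exact_mod_cast this.ne'
  rw [classInner_cosetAvg_aux]
  have h2 : ∀ g : G, ∑ x : N, conj (ψ.1 ((x : G) * g)) = (Nat.card N : ℂ) * conj (ψ.1 g) := by
    intro g
    have : ∀ x : N, conj (ψ.1 ((x : G) * g)) = conj (ψ.1 g) := by
      intro x
      rw [(irr_mul_of_mem_irrKer ψ ((mem_irrKer ψ _).mpr (hker x x.2)) g).1]
    simp only [this, Finset.sum_const, Finset.card_univ, nsmul_eq_mul, Nat.card_eq_fintype_card]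
  simp only [h2]
  unfold Cfsg.classInner
  congr 1
  rw [Finset.mul_sum]
  refine Finset.sum_congr rfl fun g _ => ?_
  rw [Pi.mul_apply]
  field_simp

theorem classInner_cosetAvg_of_not_ker (N : Subgroup G) [N.Normal] [Fintype N]
    (χ ψ : Cfsg.IrrCharacter G) (hker : ∃ x ∈ N, ψ.1 x ≠ ψ.1 1) :
    Cfsg.classInner (cosetAvg N χ.1) ψ.1 = 0 := by
  classical
  rw [classInner_cosetAvg_aux]
  have h2 : ∀ g : G, ∑ x : N, conj (ψ.1 ((x : G) * g)) = 0 := by
    intro g
    rw [← map_sum]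
    have h3 := irr_sum_normal_mul_eq_zero ψ N hker g
    rw [Finset.sum_subtype (Finset.univ.filter (· ∈ N)) (p := (· ∈ N)) (fun x => by simp)
      (fun n => ψ.1 (n * g))] at h3
    rw [h3, map_zero]
  simp [h2]

theorem isCharacter_cosetAvg (N : Subgroup G) [N.Normal] [Fintype N] (χ : Cfsg.IrrCharacter G) :
    Cfsg.IsCharacter G (cosetAvg N χ.1) := by
  apply isCharacter_of_classFunction_of_nat (cosetAvg_isClassFunction N (irr_isClassFunction χ))
  intro ψ
  by_cases hker : ∀ x ∈ N, ψ.1 x = ψ.1 1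
  · rw [classInner_cosetAvg_of_ker N χ ψ hker]
    exact classInner_isCharacter_nat
      (isCharacter_mul (isCharacter_of_isIrrCharacter χ.2)
        (isCharacter_conj (isCharacter_of_isIrrCharacter χ.2)))
      (isCharacter_of_isIrrCharacter ψ.2)
  · push Not at hker
    rw [classInner_cosetAvg_of_not_ker N χ ψ hker]
    exact ⟨0, by simp⟩

theorem sum_cosetAvg (N : Subgroup G) [Fintype N] (χ : Cfsg.IrrCharacter G) :
    ∑ g : G, cosetAvg N χ.1 g = (Nat.card G : ℂ) := by
  have hN0 : (Nat.card N : ℂ) ≠ 0 := by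
    have : 0 < Nat.card N := Nat.card_pos
    exact_mod_cast this.ne'
  have hswap := sum_coset_swap N (fun y => χ.1 y * conj (χ.1 y)) (fun _ => 1)
  simp only [mul_one, Finset.sum_const, Finset.card_univ, nsmul_eq_mul] at hswap
  unfold cosetAvg
  rw [← Finset.mul_sum, hswap, ← Finset.sum_mul, irr_norm_sq χ, ← Nat.card_eq_fintype_card]
  field_simp

theorem isCharacter_eq_zero_of_one {R : G → ℂ} (hR : Cfsg.IsCharacter G R) (h1 : R 1 = 0) :
    R = 0 := by
  obtain ⟨n, ρ, rfl⟩ := hR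
  rw [Representation.char_one, Module.finrank_fin_fun] at h1
  have hn : n = 0 := by exact_mod_cast h1
  subst hn
  exact character_of_subsingleton ρ

end CosetAvg

end Cfsg.Agent.H82
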