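import Mathlib
import Cfsg.Prelude.Def_Solvable

/-!
# Frobenius groups with kernel of prime order: group theory (helper82)
-/

set_option autoImplicit false

namespace Cfsg.Agent.H82

open scoped Pointwise

section

variable {G : Type*} [Group G]

/-- A non-identity element of a subgroup of prime order generates it. -/
theorem zpowers_eq_of_prime_card [Finite G] {p : ℕ} (hp : p.Prime) {P : Subgroup G}
    (hP : Nat.card P = p) {u : G} (hu : u ∈ P) (hu1 : u ≠ 1) : Subgroup.zpowers u = P := by
  have hfP : Finite P := inferInstance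
  refine Subgroup.eq_of_le_of_card_ge (Subgroup.zpowers_le.mpr hu) ?_
  have h1 : Nat.card (Subgroup.zpowers u) ∣ Nat.card P :=
    Subgroup.card_dvd_of_le (Subgroup.zpowers_le.mpr hu)
  rw [hP] at h1
  rcases (Nat.dvd_prime hp).mp h1 with h2 | h2
  · exfalso
    apply hu1
    rw [Nat.card_zpowers] at h2
    exact orderOf_eq_one_iff.mp h2
  · rw [h2, hP]

/-- If `x` commutes with a non-identity element of a subgroup of prime order, it commutes with
the whole subgroup. -/
theorem commute_of_prime_card [Finite G] {p : ℕ} (hp : p.Prime) {P : Subgroup G}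
    (hP : Nat.card P = p) {u : G} (hu : u ∈ P) (hu1 : u ≠ 1) {x : G} (hx : x * u = u * x) :
    ∀ y ∈ P, x * y = y * x := by
  intro y hy
  rw [← zpowers_eq_of_prime_card hp hP hu hu1] at hy
  obtain ⟨k, rfl⟩ := Subgroup.mem_zpowers_iff.mp hy
  have : Commute x u := hx
  exact (this.zpow_right k)

/-- A group of order `p * n` with `0 < n < p` has a normal subgroup of order `p`. -/
theorem exists_normal_prime_of_card [Finite G] {p n : ℕ} (hp : p.Prime) (hn : 0 < n)
    (hnp : n < p) (hcard : Nat.card G = p * n) :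
    ∃ P : Subgroup G, P.Normal ∧ Nat.card P = p := by
  have hpf : Fact p.Prime := ⟨hp⟩
  have hpn : ¬ p ∣ n := fun hd => absurd (Nat.le_of_dvd hn hd) (not_le.mpr hnp)
  obtain ⟨P⟩ : Nonempty (Sylow p G) := inferInstance
  have hPcard : Nat.card P = p := by
    rw [Sylow.card_eq_multiplicity, hcard, Nat.factorization_mul hp.ne_zero hn.ne']
    simp [hp.factorization_self, Nat.factorization_eq_zero_of_not_dvd hpn]
  have hPidx : (P : Subgroup G).index = n := by
    have h := Subgroup.card_mul_index (P : Subgroup G)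
    rw [hPcard, hcard] at h
    exact Nat.eq_of_mul_eq_mul_left hp.pos h
  have hsyl1 : Nat.card (Sylow p G) = 1 := by
    have hd := Sylow.card_dvd_index P
    rw [hPidx] at hd
    have hle := Nat.le_of_dvd hn hd
    have hmod := card_sylow_modEq_one p G
    have hpos : 0 < Nat.card (Sylow p G) := Nat.card_pos
    unfold Nat.ModEq at hmod
    rw [Nat.mod_eq_of_lt (lt_of_le_of_lt hle hnp), Nat.mod_eq_of_lt hp.one_lt] at hmod
    exact hmod
  have hsub : Subsingleton (Sylow p G) := (Nat.card_eq_one_iff_unique.mp hsyl1).1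
  exact ⟨P, Sylow.normal_of_subsingleton P, hPcard⟩

/-- A complement `H ≠ 1` of a self-centralizing normal subgroup `P` of prime order is a
Frobenius complement, with Frobenius kernel `P`. -/
theorem frobenius_of_prime_kernel [Finite G] {p : ℕ} (hp : p.Prime) (P : Subgroup G)
    [hPn : P.Normal] (hP : Nat.card P = p) (H : Subgroup G) (hcompl : Subgroup.IsComplement' P H)
    (hC : ∀ c : G, (∀ x ∈ P, c * x = x * c) → c ∈ P) (hH : H ≠ ⊥) :
    Cfsg.IsFrobeniusComplement H ∧ Cfsg.frobeniusKernel H = (P : Set G) := by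
  have hdisj : ∀ x : G, x ∈ P → x ∈ H → x = 1 := by
    intro x hxP hxH
    have := hcompl.disjoint
    rw [disjoint_iff] at this
    have hx : x ∈ P ⊓ H := ⟨hxP, hxH⟩
    rw [this] at hx
    exact Subgroup.mem_bot.mp hx
  have hdecomp : ∀ g : G, ∃ u ∈ P, ∃ h ∈ H, g = u * h := by
    intro g
    obtain ⟨⟨u, h⟩, huh⟩ := hcompl.2 g
    exact ⟨u.1, u.2, h.1, h.2, huh.symm⟩
  have hmem : ∀ (g x : G), x ∈ MulAut.conj g • H ↔ ∃ y ∈ H, g * y * g⁻¹ = x := by
    intro g x
    rw [Subgroup.mem_smul_pointwise_iff_exists]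
    simp only [MulAut.smul_def, MulAut.conj_apply]
  have hPne : P ≠ ⊥ := by
    intro h
    rw [h, Subgroup.card_bot] at hP
    exact hp.one_lt.ne hP
  have key : ∀ u ∈ P, u ≠ 1 → ∀ x ∈ H, x * u = u * x → x = 1 := by
    intro u hu hu1 x hx hxu
    exact hdisj x (hC x (commute_of_prime_card hp hP hu hu1 hxu)) hx
  refine ⟨⟨hH, ?_, ?_⟩, ?_⟩
  · intro htop
    apply hPne
    rw [Subgroup.eq_bot_iff_forall]
    intro x hx
    exact hdisj x hx (htop ▸ Subgroup.mem_top x)
  · intro g hg
    rw [Subgroup.eq_bot_iff_forall]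
    rintro x ⟨hxH, hxc⟩
    obtain ⟨y, hyH, hy⟩ := (hmem g x).mp hxc
    obtain ⟨u, hu, h, hh, rfl⟩ := hdecomp g
    have hu1 : u ≠ 1 := by
      rintro rfl
      apply hg
      rw [one_mul]
      exact hh
    have hy'H : h * y * h⁻¹ ∈ H := H.mul_mem (H.mul_mem hh hyH) (H.inv_mem hh)
    have hx_eq : x = u * (h * y * h⁻¹) * u⁻¹ := by
      rw [← hy]
      group
    have h1 : x * (h * y * h⁻¹)⁻¹ ∈ P := by
      have e : x * (h * y * h⁻¹)⁻¹ = u * ((h * y * h⁻¹) * u⁻¹ * (h * y * h⁻¹)⁻¹) := by
        rw [hx_eq]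
        group
      rw [e]
      exact P.mul_mem hu (hPn.conj_mem _ (P.inv_mem hu) _)
    have h2 : x * (h * y * h⁻¹)⁻¹ ∈ H := H.mul_mem hxH (H.inv_mem hy'H)
    have h3 : x = h * y * h⁻¹ := mul_inv_eq_one.mp (hdisj _ h1 h2)
    have h4 : x * u = u * x := by
      have : x = u * x * u⁻¹ := by
        conv_lhs => rw [hx_eq]
        rw [← h3]
      calc x * u = (u * x * u⁻¹) * u := by rw [← this]
        _ = u * x := by group
    exact key u hu hu1 x hxH h4
  · ext x
    simp only [Cfsg.frobeniusKernel, Set.mem_setOf_eq, SetLike.mem_coe]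
    constructor
    · rintro (rfl | hx)
      · exact P.one_mem
      · obtain ⟨u, hu, h, hh, rfl⟩ := hdecomp x
        by_cases hh1 : h = 1
        · rw [hh1, mul_one]
          exact hu
        · exfalso
          -- the map `v ↦ v * h * v⁻¹ * h⁻¹` on `P` is injective, hence surjective
          let φ : P → P := fun v => ⟨(v : G) * (h * (v : G)⁻¹ * h⁻¹),
            P.mul_mem v.2 (hPn.conj_mem _ (P.inv_mem v.2) _)⟩
          have hφ : Function.Injective φ := by
            intro v w hvw
            have h1 : (v : G) * (h * (v : G)⁻¹ * h⁻¹) = (w : G) * (h * (w : G)⁻¹ * h⁻¹) :=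
              congrArg Subtype.val hvw
            by_contra hne
            have hne' : (w : G)⁻¹ * (v : G) ≠ 1 := by
              intro h2
              apply hne
              apply Subtype.ext
              have := inv_mul_eq_one.mp h2
              exact this.symm
            have hcomm : h * ((w : G)⁻¹ * (v : G)) = ((w : G)⁻¹ * (v : G)) * h := by
              have e1 : h * ((w : G)⁻¹ * (v : G)) =
                  (w : G)⁻¹ * ((w : G) * (h * (w : G)⁻¹ * h⁻¹)) * h * (v : G) := by group
              have e2 : ((w : G)⁻¹ * (v : G)) * h =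
                  (w : G)⁻¹ * ((v : G) * (h * (v : G)⁻¹ * h⁻¹)) * h * (v : G) := by group
              rw [e1, e2, h1]
            exact hh1 (key _ (P.mul_mem (P.inv_mem w.2) v.2) hne' h hh hcomm)
          have hφs : Function.Surjective φ := Finite.injective_iff_surjective.mp hφ
          obtain ⟨v, hv⟩ := hφs ⟨u, hu⟩
          have hv' : (v : G) * (h * (v : G)⁻¹ * h⁻¹) = u := congrArg Subtype.val hv
          apply hx (v : G)
          rw [hmem]
          refine ⟨h, hh, ?_⟩
          rw [← hv']
          group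
    · intro hxP
      by_cases hx1 : x = 1
      · exact Or.inl hx1
      · right
        intro g hxg
        obtain ⟨y, hyH, hy⟩ := (hmem g x).mp hxg
        have hyP : y ∈ P := by
          have : y = g⁻¹ * x * g⁻¹⁻¹ := by
            rw [← hy]
            group
          rw [this]
          exact hPn.conj_mem x hxP g⁻¹
        have hy1 := hdisj y hyP hyH
        apply hx1
        rw [← hy, hy1]
        group

end

end Cfsg.Agent.H82
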