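import Mathlib
import Cfsg.Prelude.Def_Blocks
import Cfsg.Agent.H82.Extra
import Cfsg.Agent.H82.FrobGrp

/-!
# Characters of groups whose centre has prime order and equals the derived subgroup

Nonlinear irreducible characters vanish off the centre and have degree `d` with `p d² = #G`.
-/

set_option autoImplicit false

namespace Cfsg.Agent.H82

open scoped ComplexConjugate

section ExtraP

variable {G : Type*} [Group G] [Finite G]

/-- If the centre has prime order and equals the derived subgroup, every nonlinear irreducible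
character vanishes off the centre. -/
theorem vanish_off_center_of_nonlinear {p : ℕ} (hp : p.Prime)
    (hcz : commutator G = Subgroup.center G) (hzp : Nat.card (Subgroup.center G) = p)
    (χ : Cfsg.IrrCharacter G) (hχ : Cfsg.charDegree χ.1 ≠ 1) (g : G)
    (hg : g ∉ Subgroup.center G) : χ.1 g = 0 := by
  rw [Subgroup.mem_center_iff] at hg
  push Not at hg
  obtain ⟨h, hh⟩ := hg
  set w := h * g * h⁻¹ * g⁻¹ with hw
  have hwmem : w ∈ Subgroup.center G := by
    rw [← hcz, hw, ← commutatorElement_def]
    exact Subgroup.commutator_mem_commutator (Subgroup.mem_top h) (Subgroup.mem_top g)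
  have hw1 : w ≠ 1 := by
    intro h1
    apply hh
    have : h * g * h⁻¹ = g := mul_inv_eq_one.mp h1
    calc h * g = h * g * h⁻¹ * h := by group
      _ = g * h := by rw [this]
  have hwc : ∀ a : G, a * w = w * a := fun a => Subgroup.mem_center_iff.mp hwmem a
  obtain ⟨c, hc, -, hc1⟩ := irr_central_scalar χ w hwc
  have hcne : c ≠ 1 := by
    intro h1
    apply hχ
    have hwker : w ∈ irrKer χ := (mem_irrKer χ w).mpr (hc1 h1)
    have hzp' := zpowers_eq_of_prime_card hp hzp hwmem hw1
    have hker : ∀ x ∈ commutator G, χ.1 x = χ.1 1 := by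
      intro x hx
      rw [hcz, ← hzp'] at hx
      exact (mem_irrKer χ x).mp ((Subgroup.zpowers_le.mpr hwker) hx)
    obtain ⟨χ', hχ'⟩ := exists_deflate (commutator G) χ hker
    have hlin := (Cfsg.Agent.H83.IsIrrCharacter.linear_of_comm
      (fun a b : G ⧸ commutator G => @mul_comm (Abelianization G) _ a b) χ'.2).1
    have h2 : χ.1 1 = 1 := by
      rw [← hχ', inflate_apply, QuotientGroup.mk_one]
      exact hlin
    rw [irr_one_eq_charDegree] at h2
    exact_mod_cast h2
  have h3 : h * g * h⁻¹ = w * g := by rw [hw]; group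
  have h4 : χ.1 g = c * χ.1 g := by
    calc χ.1 g = χ.1 (h * g * h⁻¹) := (irr_conj χ g h).symm
      _ = χ.1 (w * g) := by rw [h3]
      _ = c * χ.1 g := hc g
  have h5 : (1 - c) * χ.1 g = 0 := by linear_combination h4
  exact (mul_eq_zero.mp h5).resolve_left (sub_ne_zero.mpr (Ne.symm hcne))

/-- If the centre has prime order `p` and equals the derived subgroup, every nonlinear
irreducible character has degree `d` with `p d² = #G`. -/
theorem prime_mul_sq_of_nonlinear {p : ℕ} (hp : p.Prime)
    (hcz : commutator G = Subgroup.center G) (hzp : Nat.card (Subgroup.center G) = p)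
    (χ : Cfsg.IrrCharacter G) (hχ : Cfsg.charDegree χ.1 ≠ 1) :
    p * Cfsg.charDegree χ.1 ^ 2 = Nat.card G := by
  classical
  have hFG : Fintype G := Fintype.ofFinite G
  have hsum := irr_norm_sq χ
  have hsub : ∑ g : G, χ.1 g * conj (χ.1 g) =
      ∑ g ∈ Finset.univ.filter (· ∈ Subgroup.center G), χ.1 g * conj (χ.1 g) := by
    symm
    apply Finset.sum_subset (Finset.subset_univ _)
    intro g _ hg
    have hgc : g ∉ Subgroup.center G := by simpa using hg
    rw [vanish_off_center_of_nonlinear hp hcz hzp χ hχ g hgc, zero_mul]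
  have hval : ∀ z ∈ Finset.univ.filter (· ∈ Subgroup.center G),
      χ.1 z * conj (χ.1 z) = (Cfsg.charDegree χ.1 : ℂ) ^ 2 := by
    intro z hz
    have hzc : z ∈ Subgroup.center G := by simpa using hz
    obtain ⟨c, hc, hck, -⟩ := irr_central_scalar χ z (fun a => Subgroup.mem_center_iff.mp hzc a)
    have hz1 : χ.1 z = c * χ.1 1 := by
      have := hc 1
      rwa [mul_one] at this
    have hcn : c * conj c = 1 := by
      have hk : c ^ (orderOf z) = 1 := hck _ (pow_orderOf_eq_one z)
      have hnorm : ‖c‖ = 1 := Complex.norm_eq_one_of_pow_eq_one hk (orderOf_pos z).ne'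
      rw [Complex.mul_conj, Complex.normSq_eq_norm_sq, hnorm]
      simp
    rw [hz1, irr_one_eq_charDegree, map_mul, Complex.conj_natCast]
    calc c * (Cfsg.charDegree χ.1 : ℂ) * (conj c * (Cfsg.charDegree χ.1 : ℂ))
        = (c * conj c) * (Cfsg.charDegree χ.1 : ℂ) ^ 2 := by ring
      _ = (Cfsg.charDegree χ.1 : ℂ) ^ 2 := by rw [hcn, one_mul]
  rw [hsub, Finset.sum_congr rfl hval, Finset.sum_const, nsmul_eq_mul] at hsum
  have hcard : (Finset.univ.filter (· ∈ Subgroup.center G)).card = p := by
    rw [← hzp, Nat.card_eq_fintype_card, Fintype.card_subtype]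
  rw [hcard] at hsum
  exact_mod_cast hsum

end ExtraP

end Cfsg.Agent.H82
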