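import Cfsg.Agent.H82.P1L

/-!
# Sylow subgroups of prime order, part M: the structure theorem (helper82)

In a local setup with `|P| = p`, `N / C` cyclic and `k_{p'}(G) ≥ k(N)`: the irreducible
characters with non-vanishing sum over the `p`-regular elements are the `|N : C|` characters
`χ` with `w χ = ± 1` and the `(p - 1) / |N : C|` exceptional characters in `Y`.
-/

set_option autoImplicit false
set_option linter.style.haveILetI false
set_option linter.unusedSectionVars false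

namespace Cfsg.Agent.H82.P1

open Cfsg Cfsg.Agent.H4 Cfsg.Agent.H82 Cfsg.Agent.H82.BL Cfsg.Agent.Clifford
open scoped ComplexConjugate
open Classical

universe u

variable {G : Type u} [Group G] [Fintype G] {p : ℕ} {N C P : Subgroup G} [Fintype N] [Fintype C]
  (S : Setup p N C P)
  [Fintype (IrrCharacter G)] [Fintype (IrrCharacter N)] [Fintype (IrrCharacter C)]
  [Fintype (P.subgroupOf C)] [Fintype (P.subgroupOf C →* ℂˣ)]

theorem principal_structure (hp : p.Prime) (hP : Nat.card P = p)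
    (hcyc : haveI := normal_CN S; IsCyclic (N ⧸ C.subgroupOf N))
    (heq : Fintype.card (IrrCharacter N) ≤
      (Finset.univ.filter fun χ : IrrCharacter G => ¬ Nat.card P ∣ charDegree χ.1).card) :
    ∃ (w : IrrCharacter G → ℤ) (Y : Finset (IrrCharacter G)) (s : ℤ),
      (∀ χ, w χ = 0 ∨ w χ = 1 ∨ w χ = -1) ∧
      (Finset.univ.filter fun χ => w χ ≠ 0).card = ind S ∧
      (∀ χ ∈ Y, w χ = 0) ∧
      Y.card * ind S = p - 1 ∧
      (s = 1 ∨ s = -1) ∧
      (∀ χ : IrrCharacter G,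
        (∑ g : G, if p ∣ orderOf g then 0 else χ.1 g) ≠ 0 ↔ (w χ ≠ 0 ∨ χ ∈ Y)) ∧
      (∀ χ : IrrCharacter G, w χ ≠ 0 → ∀ c : C, p ∣ orderOf (c : G) → χ.1 c = w χ) ∧
      (∀ θ ∈ Y, ∀ g : G, ¬ p ∣ orderOf g →
        (s : ℂ) * θ.1 g = ∑ χ : IrrCharacter G, (w χ : ℂ) * χ.1 g) := by
  have hΛ : Fintype.card (P.subgroupOf C →* ℂˣ) = p := by
    rw [← Nat.card_eq_fintype_card, (card_hom_units (comm_sub S)).2,
      Nat.card_congr (Subgroup.subgroupOfEquivOfLe S.hPC).toEquiv, hP]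
  obtain ⟨μ1, hμ1⟩ := Fintype.exists_ne_of_one_lt_card (by rw [hΛ]; exact hp.one_lt)
    (1 : P.subgroupOf C →* ℂˣ)
  obtain ⟨μ0, hμ0⟩ : ∃ μ0 : {μ : P.subgroupOf C →* ℂˣ // μ ≠ 1}, μ0 = ⟨μ1, hμ1⟩ := ⟨_, rfl⟩
  obtain ⟨w, b, s₀, hw, hwc, hwb, hs, hb, hv⟩ := exists_wbs S hp hcyc heq μ0
  obtain ⟨Y, hY⟩ : ∃ Y : Finset (IrrCharacter G), Y = Finset.univ.image
      (fun μ : {μ : P.subgroupOf C →* ℂˣ // μ ≠ 1} => b (LamN S μ (triv0 S))) := ⟨_, rfl⟩
  have hYmem : ∀ χ, χ ∈ Y ↔ ∃ μ : {μ : P.subgroupOf C →* ℂˣ // μ ≠ 1},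
      χ = b (LamN S μ (triv0 S)) := by
    intro χ
    rw [hY, Finset.mem_image]
    constructor
    · rintro ⟨μ, -, h⟩
      exact ⟨μ, h.symm⟩
    · rintro ⟨μ, h⟩
      exact ⟨μ, Finset.mem_univ _, h.symm⟩
  have hY0 : ∀ χ ∈ Y, w χ = 0 := by
    intro χ hχ
    obtain ⟨μ, rfl⟩ := (hYmem χ).mp hχ
    exact hwb μ
  have hYcard : Y.card * ind S = p - 1 := by
    have e : Y = (setB S (triv0 S)).image b := by
      rw [hY, setB, Finset.image_image]
      rfl
    rw [e, Finset.card_image_of_injOn, card_setB_triv S, hΛ]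
    intro ξ hξ ξ' hξ' hbb
    simp only [setB, Finset.coe_image, Finset.coe_univ, Set.image_univ, Set.mem_range] at hξ hξ'
    obtain ⟨μ, rfl⟩ := hξ
    obtain ⟨μ', rfl⟩ := hξ'
    exact hb μ μ' hbb
  have hcount : ∀ χ : IrrCharacter G,
      ∑ μ : {μ : P.subgroupOf C →* ℂˣ // μ ≠ 1},
        (if χ = b (LamN S μ (triv0 S)) then s₀ else 0) =
      s₀ * (if χ ∈ Y then (ind S : ℤ) else 0) := by
    intro χ
    rw [← Finset.sum_filter, Finset.sum_const, nsmul_eq_mul, mul_comm]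
    congr 1
    by_cases hχ : χ ∈ Y
    · rw [if_pos hχ]
      obtain ⟨μ₁, rfl⟩ := (hYmem χ).mp hχ
      rw [← card_fibre_LamN S μ₁]
      congr 2
      apply Finset.filter_congr
      intro μ _
      constructor
      · intro h
        exact (hb μ₁ μ h).symm
      · intro h
        rw [h]
    · rw [if_neg hχ]
      have : (Finset.univ.filter fun μ : {μ : P.subgroupOf C →* ℂˣ // μ ≠ 1} =>
          χ = b (LamN S μ (triv0 S))) = ∅ := by
        rw [Finset.filter_eq_empty_iff]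
        intro μ _ h
        exact hχ ((hYmem χ).mpr ⟨μ, h⟩)
      rw [this]
      simp
  have hT : ∀ χ : IrrCharacter G,
      ∑ μ : P.subgroupOf C →* ℂˣ, classInner (Gam S μ 1) χ.1 =
        ((((p - 1 : ℕ) : ℤ) * w χ + s₀ * (if χ ∈ Y then (ind S : ℤ) else 0) : ℤ) : ℂ) := by
    intro χ
    rw [← Finset.sum_filter_add_sum_filter_not Finset.univ
      (fun μ : P.subgroupOf C →* ℂˣ => μ ≠ 1)]
    have e1 : ∑ μ ∈ Finset.univ.filter (fun μ : P.subgroupOf C →* ℂˣ => ¬ μ ≠ 1),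
        classInner (Gam S μ 1) χ.1 = 0 := by
      apply Finset.sum_eq_zero
      intro μ hμ
      have : μ = 1 := not_not.mp (Finset.mem_filter.mp hμ).2
      rw [this]
      exact inner_Gam_triv S 1 (irr_isClassFunction χ)
    rw [e1, add_zero]
    rw [Finset.sum_subtype (Finset.univ.filter fun μ : P.subgroupOf C →* ℂˣ => μ ≠ 1)
      (p := fun μ => μ ≠ 1) (by simp) (fun μ => classInner (Gam S μ 1) χ.1)]
    simp only [hv]
    rw [← Int.cast_sum]
    congr 1
    rw [Finset.sum_add_distrib, hcount χ, Finset.sum_const, Finset.card_univ,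
      Fintype.card_subtype_compl, Fintype.card_subtype_eq, hΛ, nsmul_eq_mul]
  have hreg : ∀ χ : IrrCharacter G,
      (∑ g : G, if p ∣ orderOf g then 0 else χ.1 g) ≠ 0 ↔ (w χ ≠ 0 ∨ χ ∈ Y) := by
    intro χ
    obtain ⟨T, hTdef⟩ : ∃ T : ℤ,
        T = ((p - 1 : ℕ) : ℤ) * w χ + s₀ * (if χ ∈ Y then (ind S : ℤ) else 0) := ⟨_, rfl⟩
    obtain ⟨dI, hdI⟩ : ∃ dI : ℤ, dI = if χ.1 = 1 then (ind S : ℤ) * p else 0 := ⟨_, rfl⟩
    have hT' := hT χ
    rw [← hTdef] at hT'
    have hf := regsum_formula S χ T hT'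
    rw [hΛ] at hf
    have hG : (Nat.card G : ℂ) ≠ 0 := by
      have : 0 < Nat.card G := Nat.card_pos
      exact_mod_cast this.ne'
    have hep : (ind S : ℂ) * (p : ℂ) ≠ 0 :=
      mul_ne_zero (by exact_mod_cast (ind_pos S).ne') (by exact_mod_cast hp.pos.ne')
    have hbr : ((if χ.1 = 1 then (ind S : ℂ) * (p : ℂ) else 0) - (T : ℂ)) =
        ((dI - T : ℤ) : ℂ) := by
      rw [hdI]
      split_ifs <;> push_cast <;> ring
    rw [hbr] at hf
    have key : (∑ g : G, if p ∣ orderOf g then 0 else χ.1 g) ≠ 0 ↔ dI - T ≠ 0 := by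
      constructor
      · intro h h0
        rw [h0, Int.cast_zero, mul_zero] at hf
        exact h ((mul_eq_zero.mp hf).resolve_right hep)
      · intro h h0
        rw [h0, zero_mul] at hf
        have h1 := (mul_eq_zero.mp hf.symm).resolve_left hG
        exact h (by exact_mod_cast h1)
    rw [key]
    have he1 : (1 : ℤ) ≤ ind S := by exact_mod_cast ind_pos S
    have hp2 : (2 : ℤ) ≤ p := by exact_mod_cast hp.two_le
    have hpc : ((p - 1 : ℕ) : ℤ) = (p : ℤ) - 1 := by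
      rw [Nat.cast_sub hp.one_le]
      simp
    have hprod : (2 : ℤ) * ind S ≤ (ind S : ℤ) * p := by nlinarith
    have hprod2 : (p : ℤ) ≤ (ind S : ℤ) * p := by nlinarith
    constructor
    · intro h
      by_contra hcon
      push Not at hcon
      obtain ⟨hw0, hχY⟩ := hcon
      apply h
      have hχ1 : χ.1 ≠ 1 := by
        intro h1
        have h2 := hv μ0 χ
        rw [h1, inner_Gam_one S μ0.1 μ0.2, hw0,
          if_neg (fun h' => hχY ((hYmem χ).mpr ⟨μ0, h'⟩))] at h2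
        simp at h2
      rw [hdI, hTdef, if_neg hχ1, hw0, if_neg hχY]
      simp
    · rintro (hw1 | hχY)
      · have hχY : χ ∉ Y := fun h => hw1 (hY0 χ h)
        rw [hTdef, hdI, if_neg hχY, hpc]
        intro h0
        rcases hw χ with h | h | h
        · exact hw1 h
        · rw [h] at h0
          split_ifs at h0 <;> linarith
        · rw [h] at h0
          split_ifs at h0 <;> linarith
      · rw [hTdef, hdI, if_pos hχY, hY0 χ hχY, hpc]
        intro h0
        rcases hs with h | h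
        · rw [h] at h0
          split_ifs at h0 <;> linarith
        · rw [h] at h0
          split_ifs at h0 <;> linarith
  have hsing : ∀ χ : IrrCharacter G, w χ ≠ 0 →
      ∀ c : C, p ∣ orderOf (c : G) → χ.1 c = w χ := by
    intro χ hwχ c hc
    have hne : ∀ μ : {μ : P.subgroupOf C →* ℂˣ // μ ≠ 1}, χ ≠ b (LamN S μ (triv0 S)) :=
      fun μ h => hwχ (by rw [h]; exact hwb μ)
    have hz : ∀ μ : {μ : P.subgroupOf C →* ℂˣ // μ ≠ 1},
        classInner (Gam S μ.1 1) χ.1 = w χ := by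
      intro μ
      rw [hv μ χ, if_neg (hne μ), add_zero]
    have hmem : χ ∈ setX S (triv0 S) := by
      simp only [setX, Finset.mem_filter, Finset.mem_univ, true_and]
      refine ⟨μ0, ?_⟩
      rw [triv0_val, hz μ0]
      exact_mod_cast hwχ
    have hdisj : ∀ ϑ : Irr0 S, ϑ ≠ triv0 S →
        ∀ μ : {μ : P.subgroupOf C →* ℂˣ // μ ≠ 1},
          classInner (Gam S μ.1 ϑ.1.1) χ.1 = 0 := by
      intro ϑ hϑ μ
      by_contra hne0
      have hd := (setX_triv_facts S hcyc heq).2 ϑ hϑ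
      rw [Finset.disjoint_left] at hd
      apply hd _ hmem
      simp only [setX, Finset.mem_filter, Finset.mem_univ, true_and]
      exact ⟨μ, hne0⟩
    exact value_sing S χ (w χ) hz hdisj c hc
  have hregid : ∀ θ ∈ Y, ∀ g : G, ¬ p ∣ orderOf g →
      ((-s₀ : ℤ) : ℂ) * θ.1 g = ∑ χ : IrrCharacter G, (w χ : ℂ) * χ.1 g := by
    intro θ hθ g hg
    obtain ⟨μ, rfl⟩ := (hYmem θ).mp hθ
    have h := reg_identity S hv μ g hg
    push_cast
    linear_combination (-1 : ℂ) * h
  refine ⟨w, Y, -s₀, hw, hwc, hY0, hYcard, ?_, hreg, hsing, hregid⟩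
  rcases hs with h | h
  · right
    rw [h]
  · left
    rw [h]
    norm_num

end Cfsg.Agent.H82.P1
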