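import Mathlib
import Cfsg.Agent.H4.TINorm

/-!
# Brauer theory for Sylow subgroups of prime order, part A (helper82)

The residue field of a valuation subring of `ℂ` in which `p` is not a unit: it is an
algebraically closed field of characteristic `p`.
-/

set_option autoImplicit false
set_option linter.unusedSectionVars false

namespace Cfsg.Agent.H82.Md

open Polynomial

/-- The residue field of a valuation subring of `ℂ`. -/
abbrev Res (B : ValuationSubring ℂ) : Type := IsLocalRing.ResidueField ↥B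

/-- The reduction map. -/
noncomputable def red (B : ValuationSubring ℂ) : ↥B →+* Res B := IsLocalRing.residue ↥B

theorem red_surjective (B : ValuationSubring ℂ) : Function.Surjective (red B) :=
  IsLocalRing.residue_surjective

theorem red_eq_zero_iff (B : ValuationSubring ℂ) (x : ↥B) :
    red B x = 0 ↔ B.valuation (x : ℂ) < 1 := by
  unfold red
  rw [IsLocalRing.residue_eq_zero_iff, ValuationSubring.valuation_lt_one_iff]

theorem res_isAlgClosed (B : ValuationSubring ℂ) : IsAlgClosed (Res B) := by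
  apply IsAlgClosed.of_exists_root
  intro f hf hirr
  have hlift : f ∈ Polynomial.lifts (red B) :=
    (Polynomial.mem_lifts f).2 (Polynomial.map_surjective (red B) (red_surjective B) f)
  obtain ⟨F, hF, hdeg, hmon⟩ := Polynomial.lifts_and_degree_eq_and_monic hlift hf
  have hdegpos : 0 < F.degree := by
    rw [hdeg]
    exact Polynomial.degree_pos_of_irreducible hirr
  have hdeg' : (F.map (algebraMap ↥B ℂ)).degree ≠ 0 := by
    rw [Polynomial.degree_map_eq_of_injective (FaithfulSMul.algebraMap_injective ↥B ℂ)]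
    exact hdegpos.ne'
  obtain ⟨α, hα⟩ := IsAlgClosed.exists_root (F.map (algebraMap ↥B ℂ)) hdeg'
  have hint : IsIntegral ↥B α := by
    refine ⟨F, hmon, ?_⟩
    rw [← Polynomial.eval_map]
    exact hα
  obtain ⟨y, hy⟩ := (IsIntegrallyClosed.isIntegral_iff (R := ↥B) (K := ℂ)).mp hint
  refine ⟨red B y, ?_⟩
  have h1 : F.eval y = 0 := by
    apply FaithfulSMul.algebraMap_injective ↥B ℂ
    rw [map_zero, ← Polynomial.eval₂_at_apply, Polynomial.eval₂_eq_eval_map, hy]
    exact hα
  rw [← hF, Polynomial.eval_map, Polynomial.eval₂_at_apply, h1, map_zero]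

variable {p : ℕ}

theorem red_natCast_prime (B : ValuationSubring ℂ) (hv : B.valuation (p : ℂ) < 1) :
    ((p : ℕ) : Res B) = 0 := by
  have h1 : red B ((p : ℕ) : ↥B) = 0 := by
    rw [red_eq_zero_iff]
    simpa using hv
  rw [map_natCast] at h1
  exact h1

theorem res_charP (B : ValuationSubring ℂ) (hp : p.Prime) (hv : B.valuation (p : ℂ) < 1) :
    CharP (Res B) p :=
  (CharP.charP_iff_prime_eq_zero hp).mpr (red_natCast_prime B hv)

/-- Natural numbers prime to `p` are units of the valuation ring. -/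
theorem inv_natCast_mem (B : ValuationSubring ℂ) (hp : p.Prime) (hv : B.valuation (p : ℂ) < 1)
    {n : ℕ} (hn : ¬ p ∣ n) : ((n : ℂ))⁻¹ ∈ B := by
  haveI := res_charP B hp hv
  have h1 : ((n : ℕ) : Res B) ≠ 0 := by
    intro h
    exact hn ((CharP.cast_eq_zero_iff (Res B) p n).mp h)
  have h2 : ¬ B.valuation ((n : ℕ) : ℂ) < 1 := by
    intro h
    apply h1
    have : red B ((n : ℕ) : ↥B) = 0 := by
      rw [red_eq_zero_iff]
      simpa using h
    rw [map_natCast] at this
    exact this
  have h3 : B.valuation ((n : ℕ) : ℂ) ≤ 1 := (B.valuation_le_one_iff _).mpr (natCast_mem B n)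
  have h4 : B.valuation ((n : ℕ) : ℂ) = 1 := le_antisymm h3 (not_lt.mp h2)
  rw [← B.valuation_le_one_iff, map_inv₀, h4, inv_one]

/-- A quotient `a / b` of natural numbers with `b` prime to `p`, as an element of `B`. -/
noncomputable def natDiv (B : ValuationSubring ℂ) (hp : p.Prime)
    (hv : B.valuation (p : ℂ) < 1) (a : ℕ) {b : ℕ} (hb : ¬ p ∣ b) : ↥B :=
  ⟨(a : ℂ) * ((b : ℂ))⁻¹, B.mul_mem _ _ (natCast_mem B a) (inv_natCast_mem B hp hv hb)⟩

theorem natDiv_coe (B : ValuationSubring ℂ) (hp : p.Prime)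
    (hv : B.valuation (p : ℂ) < 1) (a : ℕ) {b : ℕ} (hb : ¬ p ∣ b) :
    ((natDiv B hp hv a hb : ↥B) : ℂ) = (a : ℂ) * ((b : ℂ))⁻¹ := rfl

end Cfsg.Agent.H82.Md
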