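import Mathlib

/-!
# Brauer theory for Sylow subgroups of prime order, part C (helper82)

Relative traces of linear maps between representations, "projective" maps, simple
representations, and the existence of a simple subquotient receiving a non-projective map.
-/

set_option autoImplicit false
set_option linter.unusedSectionVars false

namespace Cfsg.Agent.H82.Md

universe u v w

section Defs

variable {k : Type*} [Field k] {G : Type*} [Group G]
variable {V W U : Type*} [AddCommGroup V] [Module k V] [AddCommGroup W] [Module k W]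
  [AddCommGroup U] [Module k U]

/-- Equivariant linear maps. -/
def Equivar (ρ : Representation k G V) (σ : Representation k G W) (f : V →ₗ[k] W) : Prop :=
  ∀ g, f ∘ₗ ρ g = σ g ∘ₗ f

theorem Equivar.apply {ρ : Representation k G V} {σ : Representation k G W} {f : V →ₗ[k] W}
    (h : Equivar ρ σ f) (g : G) (v : V) : f (ρ g v) = σ g (f v) :=
  LinearMap.congr_fun (h g) v

theorem equivar_iff {ρ : Representation k G V} {σ : Representation k G W} {f : V →ₗ[k] W} :
    Equivar ρ σ f ↔ ∀ g v, f (ρ g v) = σ g (f v) :=
  ⟨fun h g v => h.apply g v, fun h g => LinearMap.ext fun v => h g v⟩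

theorem Equivar.comp {ρ : Representation k G V} {σ : Representation k G W}
    {τ : Representation k G U} {f : V →ₗ[k] W} {h : W →ₗ[k] U}
    (hh : Equivar σ τ h) (hf : Equivar ρ σ f) : Equivar ρ τ (h ∘ₗ f) := by
  rw [equivar_iff] at *
  intro g v
  simp [hf g v, hh g (f v)]

theorem Equivar.sub {ρ : Representation k G V} {σ : Representation k G W} {f f' : V →ₗ[k] W}
    (hf : Equivar ρ σ f) (hf' : Equivar ρ σ f') : Equivar ρ σ (f - f') := by
  rw [equivar_iff] at *
  intro g v
  simp [hf g v, hf' g v]

theorem Equivar.id (ρ : Representation k G V) : Equivar ρ ρ LinearMap.id := by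
  rw [equivar_iff]
  intro g v
  simp

theorem Equivar.symm {ρ : Representation k G V} {σ : Representation k G W} (e : V ≃ₗ[k] W)
    (h : Equivar ρ σ e.toLinearMap) : Equivar σ ρ e.symm.toLinearMap := by
  rw [equivar_iff] at *
  intro g w
  apply e.injective
  have := h g (e.symm w)
  simp only [LinearEquiv.coe_coe, LinearEquiv.apply_symm_apply] at this ⊢
  exact this.symm

/-- Invariant subspaces. -/
def Inv (ρ : Representation k G V) (U : Submodule k V) : Prop := ∀ g, ∀ x ∈ U, ρ g x ∈ U

/-- Simple representations. -/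
def Simple (ρ : Representation k G V) : Prop :=
  Nontrivial V ∧ ∀ U : Submodule k V, Inv ρ U → U = ⊥ ∨ U = ⊤

theorem inv_ker {ρ : Representation k G V} {σ : Representation k G W} {f : V →ₗ[k] W}
    (h : Equivar ρ σ f) : Inv ρ (LinearMap.ker f) := by
  intro g x hx
  rw [LinearMap.mem_ker] at hx ⊢
  rw [h.apply, hx, map_zero]

theorem inv_range {ρ : Representation k G V} {σ : Representation k G W} {f : V →ₗ[k] W}
    (h : Equivar ρ σ f) : Inv σ (LinearMap.range f) := by
  rintro g _ ⟨x, rfl⟩
  exact ⟨ρ g x, h.apply g x⟩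

theorem inv_comap {ρ : Representation k G V} {σ : Representation k G W} {f : V →ₗ[k] W}
    (h : Equivar ρ σ f) {U : Submodule k W} (hU : Inv σ U) : Inv ρ (U.comap f) := by
  intro g x hx
  rw [Submodule.mem_comap] at hx ⊢
  rw [h.apply]
  exact hU g _ hx

theorem Simple.injective {ρ : Representation k G V} {σ : Representation k G W} {f : V →ₗ[k] W}
    (hρ : Simple ρ) (h : Equivar ρ σ f) (hf : f ≠ 0) : Function.Injective f := by
  rcases hρ.2 _ (inv_ker h) with h0 | h1
  · exact LinearMap.ker_eq_bot.mp h0
  · exact absurd (LinearMap.ker_eq_top.mp h1) hf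

theorem Simple.surjective {ρ : Representation k G V} {σ : Representation k G W} {f : V →ₗ[k] W}
    (hσ : Simple σ) (h : Equivar ρ σ f) (hf : f ≠ 0) : Function.Surjective f := by
  rcases hσ.2 _ (inv_range h) with h0 | h1
  · exact absurd (LinearMap.range_eq_bot.mp h0) hf
  · exact LinearMap.range_eq_top.mp h1

/-- A nonzero equivariant map between simple representations is an isomorphism. -/
theorem simple_iso {ρ : Representation k G V} {σ : Representation k G W} {f : V →ₗ[k] W}
    (hρ : Simple ρ) (hσ : Simple σ) (h : Equivar ρ σ f) (hf : f ≠ 0) :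
    ∃ e : V ≃ₗ[k] W, e.toLinearMap = f :=
  ⟨LinearEquiv.ofBijective f ⟨hρ.injective h hf, hσ.surjective h hf⟩, by ext; rfl⟩

/-- The subrepresentation on an invariant subspace. -/
def subRep (ρ : Representation k G V) (U : Submodule k V) (hU : Inv ρ U) :
    Representation k G U where
  toFun g := (ρ g).restrict (hU g)
  map_one' := by ext x; simp
  map_mul' g h := by ext x; simp

theorem subRep_apply (ρ : Representation k G V) (U : Submodule k V) (hU : Inv ρ U) (g : G)
    (x : U) : ((subRep ρ U hU g x : U) : V) = ρ g x := rfl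

/-- The quotient representation by an invariant subspace. -/
def quotRep (ρ : Representation k G V) (U : Submodule k V) (hU : Inv ρ U) :
    Representation k G (V ⧸ U) where
  toFun g := U.mapQ U (ρ g) (fun x hx => hU g x hx)
  map_one' := by
    apply Submodule.linearMap_qext
    ext x
    simp
  map_mul' g h := by
    apply Submodule.linearMap_qext
    ext x
    simp

theorem quotRep_mk (ρ : Representation k G V) (U : Submodule k V) (hU : Inv ρ U) (g : G)
    (x : V) : quotRep ρ U hU g (U.mkQ x) = U.mkQ (ρ g x) := rfl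

theorem equivar_subtype (ρ : Representation k G V) (U : Submodule k V) (hU : Inv ρ U) :
    Equivar (subRep ρ U hU) ρ U.subtype := by
  rw [equivar_iff]
  intro g x
  rfl

theorem equivar_mkQ (ρ : Representation k G V) (U : Submodule k V) (hU : Inv ρ U) :
    Equivar ρ (quotRep ρ U hU) U.mkQ := by
  rw [equivar_iff]
  intro g x
  rfl

variable [Fintype G]

/-- The trace (norm) map on linear maps. -/
noncomputable def trMap (ρ : Representation k G V) (σ : Representation k G W)
    (f : V →ₗ[k] W) : V →ₗ[k] W :=
  ∑ g : G, σ g ∘ₗ f ∘ₗ ρ g⁻¹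

theorem trMap_apply (ρ : Representation k G V) (σ : Representation k G W) (f : V →ₗ[k] W)
    (v : V) : trMap ρ σ f v = ∑ g : G, σ g (f (ρ g⁻¹ v)) := by
  simp [trMap, LinearMap.sum_apply]

theorem trMap_equivar (ρ : Representation k G V) (σ : Representation k G W) (f : V →ₗ[k] W) :
    Equivar ρ σ (trMap ρ σ f) := by
  rw [equivar_iff]
  intro h v
  rw [trMap_apply, trMap_apply, map_sum]
  refine Fintype.sum_equiv (Equiv.mulLeft h⁻¹) _ _ (fun g => ?_)
  simp only [Equiv.coe_mulLeft]
  rw [← Module.End.mul_apply, ← map_mul, ← Module.End.mul_apply (σ h), ← map_mul]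
  congr 2
  · simp
  · congr 1
    simp

theorem trMap_add (ρ : Representation k G V) (σ : Representation k G W) (f f' : V →ₗ[k] W) :
    trMap ρ σ (f + f') = trMap ρ σ f + trMap ρ σ f' := by
  simp [trMap, Finset.sum_add_distrib, LinearMap.add_comp, LinearMap.comp_add]

theorem trMap_zero (ρ : Representation k G V) (σ : Representation k G W) :
    trMap ρ σ (0 : V →ₗ[k] W) = 0 := by
  simp [trMap]

theorem trMap_comp_left {ρ : Representation k G V} {σ : Representation k G W}
    {τ : Representation k G U} {h : W →ₗ[k] U} (hh : Equivar σ τ h) (f : V →ₗ[k] W) :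
    h ∘ₗ trMap ρ σ f = trMap ρ τ (h ∘ₗ f) := by
  ext v
  simp only [LinearMap.comp_apply, trMap_apply, map_sum]
  refine Finset.sum_congr rfl fun g _ => ?_
  rw [hh.apply]

theorem trMap_comp_right {π : Representation k G U} {ρ : Representation k G V}
    {σ : Representation k G W} {h : U →ₗ[k] V} (hh : Equivar π ρ h) (f : V →ₗ[k] W) :
    trMap ρ σ f ∘ₗ h = trMap π σ (f ∘ₗ h) := by
  ext v
  simp only [LinearMap.comp_apply, trMap_apply]
  refine Finset.sum_congr rfl fun g _ => ?_
  rw [hh.apply]

/-- Maps which are traces. -/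
def Proj (ρ : Representation k G V) (σ : Representation k G W) (f : V →ₗ[k] W) : Prop :=
  ∃ f₀ : V →ₗ[k] W, f = trMap ρ σ f₀

theorem Proj.comp_left {ρ : Representation k G V} {σ : Representation k G W}
    {τ : Representation k G U} {h : W →ₗ[k] U} (hh : Equivar σ τ h) {f : V →ₗ[k] W}
    (hf : Proj ρ σ f) : Proj ρ τ (h ∘ₗ f) := by
  obtain ⟨f₀, rfl⟩ := hf
  exact ⟨h ∘ₗ f₀, trMap_comp_left hh f₀⟩

theorem Proj.comp_right {π : Representation k G U} {ρ : Representation k G V}
    {σ : Representation k G W} {h : U →ₗ[k] V} (hh : Equivar π ρ h) {f : V →ₗ[k] W}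
    (hf : Proj ρ σ f) : Proj π σ (f ∘ₗ h) := by
  obtain ⟨f₀, rfl⟩ := hf
  exact ⟨f₀ ∘ₗ h, trMap_comp_right hh f₀⟩

theorem Proj.add {ρ : Representation k G V} {σ : Representation k G W} {f f' : V →ₗ[k] W}
    (hf : Proj ρ σ f) (hf' : Proj ρ σ f') : Proj ρ σ (f + f') := by
  obtain ⟨f₀, rfl⟩ := hf
  obtain ⟨f₁, rfl⟩ := hf'
  exact ⟨f₀ + f₁, (trMap_add ρ σ f₀ f₁).symm⟩

theorem Proj.zero (ρ : Representation k G V) (σ : Representation k G W) :
    Proj ρ σ (0 : V →ₗ[k] W) :=
  ⟨0, (trMap_zero ρ σ).symm⟩

end Defs

section Induction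

variable {k : Type v} [Field k] {G : Type w} [Group G] [Fintype G]

theorem exists_simple_nonproj_aux {M : Type*} [AddCommGroup M] [Module k M]
    (ρ : Representation k G M) (d : ℕ) :
    ∀ (W : Type u) [AddCommGroup W] [Module k W] [FiniteDimensional k W]
      (τ : Representation k G W) (f : M →ₗ[k] W), Module.finrank k W = d → Equivar ρ τ f →
      ¬ Proj ρ τ f →
      ∃ (S : Type u) (_ : AddCommGroup S) (_ : Module k S) (_ : FiniteDimensional k S)
        (σ : Representation k G S) (φ : M →ₗ[k] S), Simple σ ∧ Equivar ρ σ φ ∧ ¬ Proj ρ σ φ := by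
  induction d using Nat.strong_induction_on with
  | _ d ih =>
    intro W _ _ _ τ f hd hf hnp
    by_cases hs : Simple τ
    · exact ⟨W, inferInstance, inferInstance, inferInstance, τ, f, hs, hf, hnp⟩
    · have hnt : Nontrivial W := by
        by_contra hnt
        rw [not_nontrivial_iff_subsingleton] at hnt
        apply hnp
        refine ⟨0, ?_⟩
        ext v
        exact Subsingleton.elim _ _
      unfold Simple at hs
      push Not at hs
      obtain ⟨U, hU, hU0, hU1⟩ := hs hnt
      by_cases hq : Proj ρ (quotRep τ U hU) (U.mkQ ∘ₗ f)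
      · obtain ⟨h₀, hh₀⟩ := hq
        obtain ⟨s, hs⟩ := LinearMap.exists_rightInverse_of_surjective U.mkQ
          (LinearMap.range_eq_top.mpr (Submodule.mkQ_surjective U))
        have hf' : Equivar ρ τ (f - trMap ρ τ (s ∘ₗ h₀)) := hf.sub (trMap_equivar ρ τ _)
        have hrange : ∀ v, (f - trMap ρ τ (s ∘ₗ h₀)) v ∈ U := by
          intro v
          rw [← Submodule.Quotient.mk_eq_zero, ← Submodule.mkQ_apply, LinearMap.sub_apply,
            map_sub]
          have h1 : U.mkQ (trMap ρ τ (s ∘ₗ h₀) v) = trMap ρ (quotRep τ U hU) h₀ v := by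
            have := trMap_comp_left (ρ := ρ) (equivar_mkQ τ U hU) (s ∘ₗ h₀)
            rw [← LinearMap.comp_assoc, hs, LinearMap.id_comp] at this
            rw [← this]
            rfl
          rw [h1, ← hh₀]
          simp
        have hnp' : ¬ Proj ρ (subRep τ U hU)
            ((f - trMap ρ τ (s ∘ₗ h₀)).codRestrict U hrange) := by
          rintro ⟨g₀, hg₀⟩
          apply hnp
          have h2 : f = U.subtype ∘ₗ ((f - trMap ρ τ (s ∘ₗ h₀)).codRestrict U hrange) +
              trMap ρ τ (s ∘ₗ h₀) := by
            ext v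
            simp
          rw [h2]
          refine Proj.add ?_ ⟨_, rfl⟩
          exact Proj.comp_left (equivar_subtype τ U hU) ⟨g₀, hg₀⟩
        have hlt : Module.finrank k U < d := by
          rw [← hd]
          exact Submodule.finrank_lt hU1
        refine ih _ hlt U (subRep τ U hU) _ rfl ?_ hnp'
        rw [equivar_iff]
        intro g v
        apply Subtype.ext
        rw [subRep_apply]
        simp only [LinearMap.codRestrict_apply]
        exact hf'.apply g v
      · have hlt : Module.finrank k (W ⧸ U) < d := by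
          rw [← hd]
          have h1 := Submodule.finrank_quotient_add_finrank U
          have h2 : 0 < Module.finrank k U := by
            rw [Module.finrank_pos_iff]
            exact (Submodule.nontrivial_iff_ne_bot).mpr hU0
          omega
        exact ih _ hlt (W ⧸ U) (quotRep τ U hU) _ rfl
          ((equivar_mkQ τ U hU).comp hf) hq

/-- If the identity of a finite-dimensional representation is not a trace, some simple
representation receives an equivariant map which is not a trace, and then its identity is not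
a trace either. -/
theorem exists_simple_nonproj {M : Type u} [AddCommGroup M] [Module k M] [FiniteDimensional k M]
    (ρ : Representation k G M) (h : ¬ Proj ρ ρ LinearMap.id) :
    ∃ (S : Type u) (_ : AddCommGroup S) (_ : Module k S) (_ : FiniteDimensional k S)
      (σ : Representation k G S) (φ : M →ₗ[k] S), Simple σ ∧ Equivar ρ σ φ ∧ ¬ Proj ρ σ φ ∧
        ¬ Proj σ σ LinearMap.id := by
  obtain ⟨S, i1, i2, i3, σ, φ, h1, h2, h3⟩ :=
    exists_simple_nonproj_aux ρ _ M ρ LinearMap.id rfl (Equivar.id ρ) h
  refine ⟨S, i1, i2, i3, σ, φ, h1, h2, h3, ?_⟩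
  intro h4
  apply h3
  have := Proj.comp_right h2 h4
  rwa [LinearMap.id_comp] at this

end Induction

end Cfsg.Agent.H82.Md
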