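import Mathlib
import Cfsg.Agent.H82.MdA
import Cfsg.Agent.H82.MdC
import Cfsg.Agent.H82.Irr
import Cfsg.Agent.H4.Irr

/-!
# Brauer theory for Sylow subgroups of prime order, part B (helper82)

Integral forms of complex representations over a valuation ring, and their reductions.
-/

set_option autoImplicit false
set_option linter.unusedSectionVars false

namespace Cfsg.Agent.H82.Md

open Cfsg

section Cramer

variable {Γ : Type*} [Monoid Γ] [Finite Γ] {n : ℕ} (B : ValuationSubring ℂ)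

/-- The matrix whose columns are chosen columns of the matrices `Mt g`. -/
def colMat (Mt : Γ → Matrix (Fin n) (Fin n) ℂ) (c : Fin n → Γ × Fin n) :
    Matrix (Fin n) (Fin n) ℂ :=
  Matrix.of fun i j => Mt (c j).1 i (c j).2

theorem exists_integral_basis (Mt : Γ →* Matrix (Fin n) (Fin n) ℂ) :
    ∃ C : Matrix (Fin n) (Fin n) ℂ, C.det ≠ 0 ∧ ∀ g i j, (C⁻¹ * Mt g * C) i j ∈ B := by
  classical
  haveI : Nonempty (Fin n → Γ × Fin n) := ⟨fun j => (1, j)⟩
  obtain ⟨c₀, hc₀⟩ := Finite.exists_max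
    (fun c : Fin n → Γ × Fin n => B.valuation (colMat Mt c).det)
  have hone : colMat Mt (fun j => (1, j)) = 1 := by
    ext i j
    simp [colMat, Matrix.one_apply]
  have hdet : (colMat Mt c₀).det ≠ 0 := by
    intro h
    have h1 := hc₀ (fun j => (1, j))
    rw [hone, h, Matrix.det_one, map_one, map_zero] at h1
    exact absurd h1 (not_le.mpr zero_lt_one)
  refine ⟨colMat Mt c₀, hdet, ?_⟩
  intro g i j
  have hunit : IsUnit (colMat Mt c₀).det := isUnit_iff_ne_zero.mpr hdet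
  have hb : ∀ i', (colMat Mt c₀).updateCol i' (fun l => (Mt g * colMat Mt c₀) l j) =
      colMat Mt (Function.update c₀ i' (g * (c₀ j).1, (c₀ j).2)) := by
    intro i'
    ext a l
    by_cases hl : l = i'
    · subst hl
      simp [colMat, Matrix.mul_apply, map_mul]
    · simp [colMat, Matrix.updateCol_ne hl, Function.update_of_ne hl]
  have hx : ((colMat Mt c₀)⁻¹ * Mt g * colMat Mt c₀) i j =
      (colMat Mt c₀).cramer (fun l => (Mt g * colMat Mt c₀) l j) i / (colMat Mt c₀).det := by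
    have h1 := Matrix.mulVec_cramer (colMat Mt c₀) (fun l => (Mt g * colMat Mt c₀) l j)
    have h2 : (colMat Mt c₀).cramer (fun l => (Mt g * colMat Mt c₀) l j) =
        (colMat Mt c₀).det •
          (Matrix.mulVec (colMat Mt c₀)⁻¹ (fun l => (Mt g * colMat Mt c₀) l j)) := by
      rw [← Matrix.mulVec_smul, ← h1, Matrix.mulVec_mulVec, Matrix.nonsing_inv_mul _ hunit,
        Matrix.one_mulVec]
    rw [h2, Pi.smul_apply, smul_eq_mul, mul_div_cancel_left₀ _ hdet, Matrix.mul_assoc]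
    rfl
  rw [hx, Matrix.cramer_apply, hb, ← B.valuation_le_one_iff, map_div₀]
  have hpos : 0 < B.valuation (colMat Mt c₀).det :=
    zero_lt_iff.mpr ((map_ne_zero _).mpr hdet)
  rw [div_le_one₀ hpos]
  exact hc₀ _

end Cramer

section Schur

variable {Γ : Type*} [Group Γ] [Fintype Γ]
variable {V : Type*} [AddCommGroup V] [Module ℂ V] [FiniteDimensional ℂ V]

theorem sum_conj_end (ρ : Representation ℂ Γ V) [ρ.IsIrreducible] (A : Module.End ℂ V) :
    ∑ g : Γ, ρ g * A * ρ g⁻¹ =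
      ((Nat.card Γ : ℂ) * LinearMap.trace ℂ V A / (Module.finrank ℂ V : ℂ)) •
        (1 : Module.End ℂ V) := by
  set T : Module.End ℂ V := ∑ g : Γ, ρ g * A * ρ g⁻¹ with hTdef
  have hT : ∀ h, T ∘ₗ ρ h = ρ h ∘ₗ T := by
    intro h
    change T * ρ h = ρ h * T
    rw [hTdef, Finset.sum_mul, Finset.mul_sum]
    refine Fintype.sum_equiv (Equiv.mulLeft h⁻¹) _ _ (fun g => ?_)
    simp only [Equiv.coe_mulLeft]
    have e1 : ρ g⁻¹ * ρ h = ρ (h⁻¹ * g)⁻¹ := by
      rw [← map_mul]; congr 1; group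
    have e2 : ρ h * ρ (h⁻¹ * g) = ρ g := by
      rw [← map_mul]; congr 1; group
    rw [mul_assoc (ρ g * A), e1, ← mul_assoc (ρ h), ← mul_assoc (ρ h), e2]
  obtain ⟨c, hc⟩ := schur_scalar ρ T hT
  have hn : (Module.finrank ℂ V : ℂ) ≠ 0 := by
    have := finrank_pos_of_irreducible ρ
    exact_mod_cast this.ne'
  have htr : LinearMap.trace ℂ V T = (Nat.card Γ : ℂ) * LinearMap.trace ℂ V A := by
    rw [hTdef, map_sum]
    have : ∀ g ∈ (Finset.univ : Finset Γ),
        LinearMap.trace ℂ V (ρ g * A * ρ g⁻¹) = LinearMap.trace ℂ V A := by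
      intro g _
      rw [LinearMap.trace_mul_comm, ← mul_assoc, ← map_mul, inv_mul_cancel, map_one, one_mul]
    rw [Finset.sum_congr rfl this]
    simp [Nat.card_eq_fintype_card]
  have htr2 : LinearMap.trace ℂ V T = c * (Module.finrank ℂ V : ℂ) := by
    rw [hc]; simp
  have hcval : c = (Nat.card Γ : ℂ) * LinearMap.trace ℂ V A / (Module.finrank ℂ V : ℂ) := by
    rw [eq_div_iff hn, ← htr2, htr]
  rw [hc, hcval]
  rfl

theorem sum_class_end (ρ : Representation ℂ Γ V) [ρ.IsIrreducible] (ψ : Γ → ℂ)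
    (hψ : ∀ g h, ψ (h * g * h⁻¹) = ψ g) :
    ∑ g : Γ, ψ g⁻¹ • ρ g =
      ((∑ g : Γ, ψ g⁻¹ * ρ.character g) / (Module.finrank ℂ V : ℂ)) •
        (1 : Module.End ℂ V) := by
  set T : Module.End ℂ V := ∑ g : Γ, ψ g⁻¹ • ρ g with hTdef
  have hT : ∀ h, T ∘ₗ ρ h = ρ h ∘ₗ T := by
    intro h
    change T * ρ h = ρ h * T
    rw [hTdef, Finset.sum_mul, Finset.mul_sum]
    refine Fintype.sum_equiv (MulAut.conj h⁻¹).toEquiv _ _ (fun g => ?_)
    simp only [MulEquiv.toEquiv_eq_coe, EquivLike.coe_coe, MulAut.conj_apply, inv_inv]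
    rw [smul_mul_assoc, mul_smul_comm, ← map_mul, ← map_mul]
    have e1 : h * (h⁻¹ * g * h) = g * h := by group
    have e2 : (h⁻¹ * g * h)⁻¹ = h⁻¹ * g⁻¹ * h⁻¹⁻¹ := by group
    rw [e1, e2, hψ]
  obtain ⟨c, hc⟩ := schur_scalar ρ T hT
  have hn : (Module.finrank ℂ V : ℂ) ≠ 0 := by
    have := finrank_pos_of_irreducible ρ
    exact_mod_cast this.ne'
  have htr : LinearMap.trace ℂ V T = ∑ g : Γ, ψ g⁻¹ * ρ.character g := by
    rw [hTdef, map_sum]
    refine Finset.sum_congr rfl fun g _ => ?_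
    rw [map_smul, smul_eq_mul]
    rfl
  have htr2 : LinearMap.trace ℂ V T = c * (Module.finrank ℂ V : ℂ) := by
    rw [hc]; simp
  have hcval : c = (∑ g : Γ, ψ g⁻¹ * ρ.character g) / (Module.finrank ℂ V : ℂ) := by
    rw [eq_div_iff hn, ← htr2, htr]
  rw [hc, hcval]
  rfl

end Schur

section Form

variable {Γ : Type*} [Group Γ] [Fintype Γ] {n : ℕ} (B : ValuationSubring ℂ)

/-- The matrix form of a representation on a coordinate space. -/
noncomputable def matHom (ρ : Representation ℂ Γ (Fin n → ℂ)) :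
    Γ →* Matrix (Fin n) (Fin n) ℂ where
  toFun g := LinearMap.toMatrix' (ρ g)
  map_one' := by simp
  map_mul' g h := by simp [LinearMap.toMatrix'_mul]

theorem matHom_apply (ρ : Representation ℂ Γ (Fin n → ℂ)) (g : Γ) :
    matHom ρ g = LinearMap.toMatrix' (ρ g) := rfl

theorem mapMatrix_injective :
    Function.Injective ((B.subtype).mapMatrix : Matrix (Fin n) (Fin n) ↥B →+* _) := by
  intro M M' h
  ext i j
  have := congrFun (congrFun h i) j
  simpa using this

theorem exists_integral_form (ρ : Representation ℂ Γ (Fin n → ℂ)) :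
    ∃ (C : Matrix (Fin n) (Fin n) ℂ) (R : Γ →* Matrix (Fin n) (Fin n) ↥B), IsUnit C.det ∧
      ∀ g, (B.subtype).mapMatrix (R g) = C⁻¹ * matHom ρ g * C := by
  obtain ⟨C, hC, hB⟩ := exists_integral_basis B (matHom ρ)
  have hunit : IsUnit C.det := isUnit_iff_ne_zero.mpr hC
  have key : ∀ g h, C⁻¹ * matHom ρ (g * h) * C =
      (C⁻¹ * matHom ρ g * C) * (C⁻¹ * matHom ρ h * C) := by
    intro g h
    have : (C⁻¹ * matHom ρ g * C) * (C⁻¹ * matHom ρ h * C) =
        C⁻¹ * matHom ρ g * (C * C⁻¹) * matHom ρ h * C := by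
      simp only [Matrix.mul_assoc]
    rw [this, Matrix.mul_nonsing_inv _ hunit, Matrix.mul_one, map_mul]
    simp only [Matrix.mul_assoc]
  refine ⟨C, ⟨⟨fun g => Matrix.of fun i j => ⟨(C⁻¹ * matHom ρ g * C) i j, hB g i j⟩, ?_⟩, ?_⟩,
    hunit, ?_⟩
  · apply mapMatrix_injective B
    ext i j
    simp only [map_one, Matrix.mul_one, Matrix.nonsing_inv_mul _ hunit, Matrix.one_apply,
      RingHom.mapMatrix_apply, Matrix.map_apply, Matrix.of_apply]
    split_ifs <;> simp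
  · intro g h
    apply mapMatrix_injective B
    rw [map_mul]
    ext i j
    have := congrFun (congrFun (key g h) i) j
    simpa [Matrix.mul_apply] using this
  · intro g
    ext i j
    rfl

end Form

section Reduce

variable {Γ : Type*} [Group Γ] [Fintype Γ] {n : ℕ} (B : ValuationSubring ℂ)
variable (ρ : Representation ℂ Γ (Fin n → ℂ)) [ρ.IsIrreducible]
variable (C : Matrix (Fin n) (Fin n) ℂ) (R : Γ →* Matrix (Fin n) (Fin n) ↥B)

theorem mat_sum_conj (A : Matrix (Fin n) (Fin n) ℂ) :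
    ∑ g : Γ, matHom ρ g * A * matHom ρ g⁻¹ =
      ((Nat.card Γ : ℂ) * A.trace / (n : ℂ)) • (1 : Matrix (Fin n) (Fin n) ℂ) := by
  have h := sum_conj_end ρ (Matrix.toLin' A)
  have h2 := congrArg LinearMap.toMatrix' h
  rw [map_sum, map_smul] at h2
  simp only [LinearMap.toMatrix'_mul, LinearMap.toMatrix'_toLin', Matrix.trace_toLin'_eq,
    Module.finrank_fin_fun, LinearMap.toMatrix'_one] at h2
  exact h2

theorem mat_sum_class (ψ : Γ → ℂ) (hψ : ∀ g h, ψ (h * g * h⁻¹) = ψ g) :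
    ∑ g : Γ, ψ g⁻¹ • matHom ρ g =
      ((∑ g : Γ, ψ g⁻¹ * ρ.character g) / (n : ℂ)) • (1 : Matrix (Fin n) (Fin n) ℂ) := by
  have h := sum_class_end ρ ψ hψ
  have h2 := congrArg LinearMap.toMatrix' h
  rw [map_sum, map_smul] at h2
  simp only [map_smul, Module.finrank_fin_fun, LinearMap.toMatrix'_one] at h2
  exact h2

theorem conj_sum_conj (hC : IsUnit C.det) (A : Matrix (Fin n) (Fin n) ℂ) :
    ∑ g : Γ, (C⁻¹ * matHom ρ g * C) * A * (C⁻¹ * matHom ρ g⁻¹ * C) =
      ((Nat.card Γ : ℂ) * A.trace / (n : ℂ)) • (1 : Matrix (Fin n) (Fin n) ℂ) := by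
  have h := mat_sum_conj ρ (C * A * C⁻¹)
  have h2 : ∀ g, (C⁻¹ * matHom ρ g * C) * A * (C⁻¹ * matHom ρ g⁻¹ * C) =
      C⁻¹ * (matHom ρ g * (C * A * C⁻¹) * matHom ρ g⁻¹) * C := by
    intro g; simp only [Matrix.mul_assoc]
  simp_rw [h2]
  rw [← Finset.sum_mul, ← Finset.mul_sum, h, Matrix.mul_smul, Matrix.smul_mul, Matrix.mul_one,
    Matrix.nonsing_inv_mul _ hC, Matrix.trace_mul_cycle, Matrix.nonsing_inv_mul _ hC,
    Matrix.one_mul]

theorem conj_sum_class (hC : IsUnit C.det) (ψ : Γ → ℂ) (hψ : ∀ g h, ψ (h * g * h⁻¹) = ψ g) :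
    ∑ g : Γ, ψ g⁻¹ • (C⁻¹ * matHom ρ g * C) =
      ((∑ g : Γ, ψ g⁻¹ * ρ.character g) / (n : ℂ)) • (1 : Matrix (Fin n) (Fin n) ℂ) := by
  have h := mat_sum_class ρ ψ hψ
  have h2 : ∀ g, ψ g⁻¹ • (C⁻¹ * matHom ρ g * C) = C⁻¹ * (ψ g⁻¹ • matHom ρ g) * C := by
    intro g; rw [Matrix.mul_smul, Matrix.smul_mul]
  simp_rw [h2]
  rw [← Finset.sum_mul, ← Finset.mul_sum, h, Matrix.mul_smul, Matrix.smul_mul, Matrix.mul_one,
    Matrix.nonsing_inv_mul _ hC]

theorem mapMatrix_smul (c : ↥B) (A : Matrix (Fin n) (Fin n) ↥B) :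
    (B.subtype).mapMatrix (c • A) = (c : ℂ) • (B.subtype).mapMatrix A := by
  ext i j
  simp

theorem int_sum_conj (hC : IsUnit C.det)
    (hR : ∀ g, (B.subtype).mapMatrix (R g) = C⁻¹ * matHom ρ g * C) (hn : 0 < n)
    (c : ↥B) (hc : (c : ℂ) * (Nat.card Γ : ℂ) = (n : ℂ)) (A : Matrix (Fin n) (Fin n) ↥B) :
    ∑ g : Γ, R g * (c • A) * R g⁻¹ = A.trace • (1 : Matrix (Fin n) (Fin n) ↥B) := by
  apply mapMatrix_injective B
  rw [map_sum]
  simp only [map_mul, hR, mapMatrix_smul]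
  have h2 : ∀ g, C⁻¹ * matHom ρ g * C * ((c : ℂ) • (B.subtype).mapMatrix A) *
      (C⁻¹ * matHom ρ g⁻¹ * C) = (c : ℂ) • ((C⁻¹ * matHom ρ g * C) * (B.subtype).mapMatrix A *
      (C⁻¹ * matHom ρ g⁻¹ * C)) := by
    intro g; rw [Matrix.mul_smul, Matrix.smul_mul]
  simp_rw [h2]
  rw [← Finset.smul_sum, conj_sum_conj ρ C hC, smul_smul]
  have hn' : (n : ℂ) ≠ 0 := by exact_mod_cast hn.ne'
  have h3 : (c : ℂ) * ((Nat.card Γ : ℂ) * ((B.subtype).mapMatrix A).trace / (n : ℂ)) =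
      ((B.subtype).mapMatrix A).trace := by
    rw [← mul_div_assoc, ← mul_assoc, hc, mul_div_assoc]
    field_simp
  rw [h3]
  congr 1
  · simp [Matrix.trace]
  · simp

theorem int_sum_class (hC : IsUnit C.det)
    (hR : ∀ g, (B.subtype).mapMatrix (R g) = C⁻¹ * matHom ρ g * C)
    (ψ : Γ → ℂ) (hψ : ∀ g h, ψ (h * g * h⁻¹) = ψ g) (c' : ℂ) (a : Γ → ↥B)
    (ha : ∀ g, (a g : ℂ) = c' * ψ g⁻¹) (z : ↥B)
    (hz : (z : ℂ) = c' * ((∑ g : Γ, ψ g⁻¹ * ρ.character g) / (n : ℂ))) :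
    ∑ g : Γ, a g • R g = z • (1 : Matrix (Fin n) (Fin n) ↥B) := by
  apply mapMatrix_injective B
  rw [map_sum]
  simp only [mapMatrix_smul, hR, ha]
  have h2 : ∀ g, (c' * ψ g⁻¹) • (C⁻¹ * matHom ρ g * C) =
      c' • (ψ g⁻¹ • (C⁻¹ * matHom ρ g * C)) := by
    intro g; rw [smul_smul]
  simp_rw [h2]
  rw [← Finset.smul_sum, conj_sum_class ρ C hC ψ hψ, smul_smul, ← hz]
  congr 1
  simp

end Reduce

section Final

variable {Γ : Type*} [Group Γ] [Fintype Γ] {n : ℕ} (B : ValuationSubring ℂ)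

/-- The reduction of an integral matrix representation. -/
noncomputable def redMat (R : Γ →* Matrix (Fin n) (Fin n) ↥B) :
    Γ →* Matrix (Fin n) (Fin n) (Res B) :=
  ((red B).mapMatrix : Matrix (Fin n) (Fin n) ↥B →+* _).toMonoidHom.comp R

theorem redMat_apply (R : Γ →* Matrix (Fin n) (Fin n) ↥B) (g : Γ) :
    redMat B R g = (red B).mapMatrix (R g) := rfl

/-- The reduction of an integral matrix representation, as a representation. -/
noncomputable def redRep (R : Γ →* Matrix (Fin n) (Fin n) ↥B) :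
    Representation (Res B) Γ (Fin n → Res B) where
  toFun g := Matrix.toLin' (redMat B R g)
  map_one' := by simp; rfl
  map_mul' g h := by rw [map_mul, Matrix.toLin'_mul]; rfl

theorem redRep_apply (R : Γ →* Matrix (Fin n) (Fin n) ↥B) (g : Γ) :
    redRep B R g = Matrix.toLin' (redMat B R g) := rfl

theorem redMapMatrix_smul (c : ↥B) (A : Matrix (Fin n) (Fin n) ↥B) :
    (red B).mapMatrix (c • A) = red B c • (red B).mapMatrix A := by
  ext i j
  simp

theorem red_sum_conj (R : Γ →* Matrix (Fin n) (Fin n) ↥B) (c : ↥B)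
    (hint : ∀ A : Matrix (Fin n) (Fin n) ↥B,
      ∑ g : Γ, R g * (c • A) * R g⁻¹ = A.trace • (1 : Matrix (Fin n) (Fin n) ↥B))
    (A : Matrix (Fin n) (Fin n) (Res B)) :
    ∑ g : Γ, redMat B R g * (red B c • A) * redMat B R g⁻¹ =
      A.trace • (1 : Matrix (Fin n) (Fin n) (Res B)) := by
  obtain ⟨A', rfl⟩ : ∃ A' : Matrix (Fin n) (Fin n) ↥B, (red B).mapMatrix A' = A := by
    refine ⟨Matrix.of fun i j => Classical.choose (red_surjective B (A i j)), ?_⟩
    ext i j
    simp [Classical.choose_spec (red_surjective B (A i j))]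
  have h := congrArg (red B).mapMatrix (hint A')
  rw [map_sum] at h
  simp only [map_mul, redMapMatrix_smul, map_one] at h
  simp only [redMat_apply]
  rw [h]
  congr 1
  simp [Matrix.trace]

theorem trMap_redRep (R : Γ →* Matrix (Fin n) (Fin n) ↥B) (A : Matrix (Fin n) (Fin n) (Res B)) :
    trMap (redRep B R) (redRep B R) (Matrix.toLin' A) =
      Matrix.toLin' (∑ g : Γ, redMat B R g * A * redMat B R g⁻¹) := by
  unfold trMap
  rw [map_sum]
  refine Finset.sum_congr rfl fun g _ => ?_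
  rw [Matrix.toLin'_mul, Matrix.toLin'_mul, LinearMap.comp_assoc]
  rfl

theorem integral_mem {x : ℂ} (hx : IsIntegral ℤ x) : x ∈ B := by
  have h1 : IsIntegral ↥B x := hx.tower_top
  obtain ⟨y, hy⟩ := (IsIntegrallyClosed.isIntegral_iff (R := ↥B) (K := ℂ)).mp h1
  rw [← hy]
  exact y.2

/-- A character whose degree divided by the group order is integral in `B`. -/
def Good (χ : IrrCharacter Γ) : Prop := χ.1 1 / (Nat.card Γ : ℂ) ∈ B

/-- Reduction of complex numbers (zero outside `B`). -/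
noncomputable def redC (x : ℂ) : Res B := by
  classical exact if h : x ∈ B then red B ⟨x, h⟩ else 0

theorem redC_of_mem {x : ℂ} (h : x ∈ B) : redC B x = red B ⟨x, h⟩ := by
  unfold redC
  exact dif_pos h

/-- The coefficients of the central idempotent of a good character, reduced. -/
noncomputable def sepCoef (χ : IrrCharacter Γ) (g : Γ) : Res B :=
  redC B (χ.1 1 / (Nat.card Γ : ℂ) * χ.1 g⁻¹)

theorem exists_reduction (χ : IrrCharacter Γ) (hχ : Good B χ) :
    ∃ (n : ℕ) (σ : Representation (Res B) Γ (Fin n → Res B)),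
      Simple σ ∧ Proj σ σ LinearMap.id ∧ (∑ g : Γ, sepCoef B χ g • σ g = LinearMap.id) ∧
      ∀ ψ : IrrCharacter Γ, Good B ψ → ψ ≠ χ → ∑ g : Γ, sepCoef B ψ g • σ g = 0 := by
  classical
  obtain ⟨n, ρ, hirr, hρχ, hn, h1, -⟩ := irr_rep χ
  haveI := hirr
  obtain ⟨C, R, hC, hR⟩ := exists_integral_form B ρ
  have hcard : (Nat.card Γ : ℂ) ≠ 0 := by exact_mod_cast Nat.card_pos.ne'
  have hc : ((⟨χ.1 1 / (Nat.card Γ : ℂ), hχ⟩ : ↥B) : ℂ) * (Nat.card Γ : ℂ) = (n : ℂ) := by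
    simp only
    rw [div_mul_cancel₀ _ hcard, h1]
  have hint := int_sum_conj B ρ C R hC hR hn _ hc
  have hred := red_sum_conj B R _ hint
  have htr : ∀ A : Matrix (Fin n) (Fin n) (Res B), A.trace = 1 →
      trMap (redRep B R) (redRep B R)
        (Matrix.toLin' (red B ⟨χ.1 1 / (Nat.card Γ : ℂ), hχ⟩ • A)) = LinearMap.id := by
    intro A hA
    rw [trMap_redRep, hred A, hA, one_smul, Matrix.toLin'_one]
  have key : ∀ ψ : IrrCharacter Γ, Good B ψ →
      ∑ g : Γ, sepCoef B ψ g • redRep B R g =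
        (if ψ = χ then (1 : Res B) else 0) • LinearMap.id := by
    intro ψ hψ
    have hmem : ∀ g : Γ, ψ.1 1 / (Nat.card Γ : ℂ) * ψ.1 g⁻¹ ∈ B := fun g =>
      B.mul_mem _ _ hψ (integral_mem B (irr_isIntegral ψ g⁻¹))
    have hsep : ∀ g, sepCoef B ψ g = red B ⟨_, hmem g⟩ := fun g => redC_of_mem B (hmem g)
    have hsum : ∑ g : Γ, ψ.1 g⁻¹ * ρ.character g =
        (Nat.card Γ : ℂ) * (if ψ = χ then 1 else 0) := by
      have h2 := Cfsg.Agent.H4.irr_inner χ ψ
      unfold classInner at h2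
      have h3 : ∑ g : Γ, ψ.1 g⁻¹ * ρ.character g = ∑ g : Γ, χ.1 g * (starRingEnd ℂ) (ψ.1 g) := by
        refine Finset.sum_congr rfl fun g _ => ?_
        rw [irr_inv, hρχ, mul_comm]
      rw [h3]
      have h4 : ∑ g : Γ, χ.1 g * (starRingEnd ℂ) (ψ.1 g) =
          (Nat.card Γ : ℂ) * (if χ = ψ then 1 else 0) := by
        rw [← h2, ← mul_assoc, mul_inv_cancel₀ hcard, one_mul]
      rw [h4]
      congr 1
      by_cases h : ψ = χ
      · simp [h]
      · simp [h, Ne.symm h]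
    have hz : (((if ψ = χ then 1 else 0 : ↥B)) : ℂ) = ψ.1 1 / (Nat.card Γ : ℂ) *
        ((∑ g : Γ, ψ.1 g⁻¹ * ρ.character g) / (n : ℂ)) := by
      rw [hsum]
      have hn' : (n : ℂ) ≠ 0 := by exact_mod_cast hn.ne'
      by_cases h : ψ = χ
      · rw [if_pos h, if_pos h, h, h1]
        field_simp
        simp
      · rw [if_neg h, if_neg h]
        simp
    have h5 := int_sum_class B ρ C R hC hR ψ.1 (Cfsg.Agent.H4.irr_isClassFunction ψ)
      (ψ.1 1 / (Nat.card Γ : ℂ)) (fun g => ⟨_, hmem g⟩) (fun g => rfl) _ hz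
    have h6 := congrArg (red B).mapMatrix h5
    rw [map_sum] at h6
    simp only [redMapMatrix_smul, map_one] at h6
    have h7 : ∑ g : Γ, sepCoef B ψ g • redRep B R g =
        Matrix.toLin' (∑ g : Γ, red B ⟨_, hmem g⟩ • (red B).mapMatrix (R g)) := by
      rw [map_sum]
      refine Finset.sum_congr rfl fun g _ => ?_
      rw [hsep, map_smul]
      rfl
    rw [h7, h6, map_smul, Matrix.toLin'_one]
    congr 1
    split_ifs <;> simp
  refine ⟨n, redRep B R, ⟨?_, ?_⟩, ?_, ?_, ?_⟩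
  · haveI : Nonempty (Fin n) := ⟨⟨0, hn⟩⟩
    infer_instance
  · intro U hU
    by_cases hU0 : U = ⊥
    · left; exact hU0
    right
    obtain ⟨w, hwU, hw0⟩ := Submodule.exists_mem_ne_zero_of_ne_bot hU0
    obtain ⟨i₀, hi₀⟩ : ∃ i₀, w i₀ ≠ 0 := by
      by_contra h
      push Not at h
      exact hw0 (funext h)
    have htrA : (Matrix.of fun i j => w i * (if j = i₀ then (w i₀)⁻¹ else 0) :
        Matrix (Fin n) (Fin n) (Res B)).trace = 1 := by
      simp [Matrix.trace, mul_inv_cancel₀ hi₀]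
    have hA : ∀ x, Matrix.toLin' (Matrix.of fun i j => w i * (if j = i₀ then (w i₀)⁻¹ else 0) :
        Matrix (Fin n) (Fin n) (Res B)) x = (x i₀ * (w i₀)⁻¹) • w := by
      intro x
      ext i
      simp [Matrix.toLin'_apply, Matrix.mulVec, dotProduct]
      ring
    rw [eq_top_iff]
    intro x _
    have h2 := LinearMap.congr_fun (htr _ htrA) x
    rw [trMap_apply, LinearMap.id_apply] at h2
    rw [← h2]
    apply Submodule.sum_mem
    intro g _
    apply hU
    rw [map_smul, LinearMap.smul_apply, hA]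
    exact U.smul_mem _ (U.smul_mem _ hwU)
  · have htr1 : (Matrix.diagonal (Pi.single (⟨0, hn⟩ : Fin n) (1 : Res B)) :
        Matrix (Fin n) (Fin n) (Res B)).trace = 1 := by
      simp [Matrix.trace_diagonal]
    exact ⟨_, (htr _ htr1).symm⟩
  · rw [key χ hχ, if_pos rfl, one_smul]
  · intro ψ hψ hne
    rw [key ψ hψ, if_neg hne, zero_smul]

end Final

end Cfsg.Agent.H82.Md
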