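import Mathlib
import Cfsg.Agent.H82.MdC

/-!
# Brauer theory for Sylow subgroups of prime order, part D (helper82)

Induced representations: the induced module, the evaluation and the inclusion, and
"projectivity" statements for maps out of an induced module.
-/

set_option autoImplicit false
set_option linter.unusedSectionVars false

namespace Cfsg.Agent.H82.Md

open Classical

section Res

variable {k : Type*} [Field k] {G : Type*} [Group G]
variable {V : Type*} [AddCommGroup V] [Module k V]

/-- Restriction of a representation to a subgroup. -/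
def resRep (ρ : Representation k G V) (N : Subgroup G) : Representation k ↥N V :=
  ρ.comp N.subtype

theorem resRep_apply (ρ : Representation k G V) (N : Subgroup G) (n : ↥N) :
    resRep ρ N n = ρ (n : G) := rfl

end Res

section CosetSum

variable {G : Type*} [Group G] [Fintype G]

/-- Summation over a group by cosets of a subgroup, with chosen representatives. -/
theorem sum_out_mul {A : Type*} [AddCommMonoid A] (N : Subgroup G) (F : G → A) :
    ∑ g : G, F g = ∑ q : G ⧸ N, ∑ n : ↥N, F (q.out * (n : G)) := by
  rw [← Fintype.sum_prod_type (f := fun p : (G ⧸ N) × ↥N => F (p.1.out * (p.2 : G)))]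
  symm
  refine Fintype.sum_bijective (fun p : (G ⧸ N) × ↥N => p.1.out * (p.2 : G)) ⟨?_, ?_⟩ _ _
    (fun p => rfl)
  · rintro ⟨q, n⟩ ⟨q', n'⟩ h
    simp only at h
    have h1 : q = q' := by
      have := congrArg (QuotientGroup.mk (s := N)) h
      rw [QuotientGroup.mk_mul_of_mem _ n.2, QuotientGroup.mk_mul_of_mem _ n'.2,
        QuotientGroup.out_eq', QuotientGroup.out_eq'] at this
      exact this
    subst h1
    have h2 : (n : G) = n' := mul_left_cancel h
    rw [Subtype.ext h2]
  · intro g
    have hmem : (QuotientGroup.mk (s := N) g).out⁻¹ * g ∈ N := by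
      rw [← QuotientGroup.eq, QuotientGroup.out_eq']
    exact ⟨(QuotientGroup.mk g, ⟨_, hmem⟩), by simp⟩

end CosetSum

section Ind

variable {k : Type*} [Field k] {G : Type*} [Group G] (N : Subgroup G)
variable {T : Type*} [AddCommGroup T] [Module k T] (τ : Representation k ↥N T)

/-- The induced module, as a space of functions on the group. -/
def indSpace : Submodule k (G → T) where
  carrier := {f | ∀ (g : G) (n : ↥N), f (g * n) = τ n⁻¹ (f g)}
  add_mem' := by
    intro f f' hf hf' g n
    simp [hf g n, hf' g n]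
  zero_mem' := by
    intro g n
    simp
  smul_mem' := by
    intro c f hf g n
    simp [hf g n]

theorem mem_indSpace (f : G → T) :
    f ∈ indSpace N τ ↔ ∀ (g : G) (n : ↥N), f (g * n) = τ n⁻¹ (f g) := Iff.rfl

/-- The induced representation. -/
def indRep : Representation k G (indSpace N τ) where
  toFun g :=
    { toFun := fun f => ⟨fun x => f.1 (g⁻¹ * x), fun x n => by
        beta_reduce
        rw [← mul_assoc]; exact f.2 _ n⟩
      map_add' := fun _ _ => rfl
      map_smul' := fun _ _ => rfl }
  map_one' := by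
    ext f x
    simp
  map_mul' g h := by
    ext f x
    simp [mul_assoc]

theorem indRep_apply (g : G) (f : indSpace N τ) (x : G) :
    (indRep N τ g f).1 x = f.1 (g⁻¹ * x) := rfl

/-- Evaluation at the identity. -/
def indEv : indSpace N τ →ₗ[k] T where
  toFun f := f.1 1
  map_add' _ _ := rfl
  map_smul' _ _ := rfl

theorem indEv_apply (f : indSpace N τ) : indEv N τ f = f.1 1 := rfl

/-- The inclusion of the inducing module. -/
noncomputable def indIota : T →ₗ[k] indSpace N τ where
  toFun t := ⟨fun g => if h : g ∈ N then τ (⟨g, h⟩ : ↥N)⁻¹ t else 0, by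
    intro g n
    by_cases h : g ∈ N
    · have h' : g * n ∈ N := N.mul_mem h n.2
      beta_reduce
      rw [dif_pos h', dif_pos h, ← Module.End.mul_apply, ← map_mul]
      congr 2
      rw [← mul_inv_rev]
      rfl
    · have h' : ¬ g * n ∈ N := fun h' => h ((Subgroup.mul_mem_cancel_right N n.2).mp h')
      beta_reduce
      rw [dif_neg h', dif_neg h, map_zero]⟩
  map_add' t t' := by
    ext g
    simp only [Submodule.coe_add, Pi.add_apply]
    split_ifs <;> simp
  map_smul' c t := by
    ext g
    simp only [Submodule.coe_smul, Pi.smul_apply, RingHom.id_apply]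
    split_ifs <;> simp

theorem indIota_apply_mem (t : T) {g : G} (h : g ∈ N) :
    (indIota N τ t).1 g = τ (⟨g, h⟩ : ↥N)⁻¹ t := dif_pos h

theorem indIota_apply_not_mem (t : T) {g : G} (h : g ∉ N) :
    (indIota N τ t).1 g = 0 := dif_neg h

theorem indEv_indIota (t : T) : indEv N τ (indIota N τ t) = t := by
  rw [indEv_apply, indIota_apply_mem N τ t N.one_mem]
  have : (⟨1, N.one_mem⟩ : ↥N)⁻¹ = 1 := by simp
  rw [this, map_one]
  rfl

theorem indEv_indRep (n : ↥N) (f : indSpace N τ) :
    indEv N τ (indRep N τ (n : G) f) = τ n (indEv N τ f) := by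
  rw [indEv_apply, indEv_apply, indRep_apply, mul_one]
  have := f.2 1 n⁻¹
  rw [one_mul, inv_inv] at this
  exact this

theorem indRep_indIota (n : ↥N) (t : T) :
    indRep N τ (n : G) (indIota N τ t) = indIota N τ (τ n t) := by
  apply Subtype.ext
  funext g
  rw [indRep_apply]
  by_cases h : g ∈ N
  · have h' : (n : G)⁻¹ * g ∈ N := N.mul_mem (N.inv_mem n.2) h
    rw [indIota_apply_mem N τ _ h', indIota_apply_mem N τ _ h, ← Module.End.mul_apply,
      ← map_mul]
    congr 2
    apply Subtype.ext
    simp
  · have h' : ¬ (n : G)⁻¹ * g ∈ N := fun h' =>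
      h ((Subgroup.mul_mem_cancel_left N (N.inv_mem n.2)).mp h')
    rw [indIota_apply_not_mem N τ _ h', indIota_apply_not_mem N τ _ h]

theorem equivar_indEv : Equivar (resRep (indRep N τ) N) τ (indEv N τ) := by
  rw [equivar_iff]
  intro n f
  exact indEv_indRep N τ n f

theorem equivar_indIota : Equivar τ (resRep (indRep N τ) N) (indIota N τ) := by
  rw [equivar_iff]
  intro n t
  exact (indRep_indIota N τ n t).symm

variable [Fintype G]

/-- Every element of the induced module is a sum of translates of elements of the inducing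
module. -/
theorem ind_decomp (f : indSpace N τ) :
    f = ∑ q : G ⧸ N, indRep N τ q.out (indIota N τ (f.1 q.out)) := by
  apply Subtype.ext
  funext x
  rw [Submodule.coe_sum, Finset.sum_apply]
  rw [Finset.sum_eq_single (QuotientGroup.mk x : G ⧸ N)]
  · rw [indRep_apply]
    have hmem : (QuotientGroup.mk (s := N) x).out⁻¹ * x ∈ N := by
      rw [← QuotientGroup.eq, QuotientGroup.out_eq']
    rw [indIota_apply_mem N τ _ hmem, ← f.2 _ ⟨_, hmem⟩]
    simp
  · intro q _ hq
    rw [indRep_apply]
    apply indIota_apply_not_mem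
    intro hmem
    apply hq
    rw [← QuotientGroup.eq, QuotientGroup.out_eq'] at hmem
    exact hmem
  · intro h
    exact absurd (Finset.mem_univ _) h

/-- A map out of the induced module whose restriction to the inducing module is a trace is
itself a trace. -/
theorem proj_of_proj_iota {S : Type*} [AddCommGroup S] [Module k S] (σ : Representation k G S)
    (φ : indSpace N τ →ₗ[k] S) (hφ : Equivar (indRep N τ) σ φ)
    (h : Proj τ (resRep σ N) (φ ∘ₗ indIota N τ)) : Proj (indRep N τ) σ φ := by
  obtain ⟨ψ₁, hψ₁⟩ := h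
  refine ⟨ψ₁ ∘ₗ indEv N τ, ?_⟩
  ext f
  rw [trMap_apply]
  have h1 : ∀ g : G, σ g ((ψ₁ ∘ₗ indEv N τ) (indRep N τ g⁻¹ f)) = σ g (ψ₁ (f.1 g)) := by
    intro g
    rw [LinearMap.comp_apply, indEv_apply, indRep_apply, inv_inv, mul_one]
  simp_rw [h1]
  rw [sum_out_mul N]
  conv_lhs => rw [ind_decomp N τ f]
  rw [map_sum]
  refine Finset.sum_congr rfl fun q _ => ?_
  rw [hφ.apply]
  have h2 := LinearMap.congr_fun hψ₁ (f.1 q.out)
  rw [LinearMap.comp_apply] at h2
  rw [h2, trMap_apply, map_sum]
  refine Finset.sum_congr rfl fun n _ => ?_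
  rw [resRep_apply, ← Module.End.mul_apply, ← map_mul, f.2 q.out n]

/-- The identity of a module induced from a module on which a subgroup of order divisible by
the characteristic acts trivially is not a trace. -/
theorem ind_not_proj (P : Subgroup G) (hPN : P ≤ N)
    (htriv : ∀ n : ↥N, (n : G) ∈ P → τ n = LinearMap.id) [Nontrivial T]
    (hP0 : (Fintype.card ↥P : k) = 0) :
    ¬ Proj (indRep N τ) (indRep N τ) LinearMap.id := by
  rintro ⟨f₀, hf₀⟩
  obtain ⟨t, ht⟩ := exists_ne (0 : T)
  apply ht
  have h1 : t = indEv N τ (trMap (indRep N τ) (indRep N τ) f₀ (indIota N τ t)) := by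
    rw [← hf₀, LinearMap.id_apply, indEv_indIota]
  rw [h1, trMap_apply, map_sum]
  rw [← Equiv.sum_comp (Equiv.inv G)]
  simp only [Equiv.inv_apply, inv_inv]
  rw [sum_out_mul P]
  apply Finset.sum_eq_zero
  intro q _
  have h2 : ∀ u : ↥P, indEv N τ (indRep N τ (q.out * (u : G))⁻¹
      (f₀ (indRep N τ (q.out * (u : G)) (indIota N τ t)))) =
      indEv N τ (indRep N τ (q.out)⁻¹ (f₀ (indRep N τ q.out (indIota N τ t)))) := by
    intro u
    have hu : (u : G) ∈ N := hPN u.2
    have e1 : indRep N τ (q.out * (u : G)) (indIota N τ t) =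
        indRep N τ q.out (indIota N τ t) := by
      rw [map_mul, Module.End.mul_apply]
      have := indRep_indIota N τ ⟨u, hu⟩ t
      rw [htriv ⟨u, hu⟩ u.2, LinearMap.id_apply] at this
      rw [this]
    rw [e1, mul_inv_rev, map_mul, Module.End.mul_apply]
    have := indEv_indRep N τ ⟨(u : G)⁻¹, N.inv_mem hu⟩
      (indRep N τ (q.out)⁻¹ (f₀ (indRep N τ q.out (indIota N τ t))))
    rw [htriv ⟨(u : G)⁻¹, N.inv_mem hu⟩ (P.inv_mem u.2), LinearMap.id_apply] at this
    exact this
  rw [Finset.sum_congr rfl (fun u _ => h2 u), Finset.sum_const, Finset.card_univ,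
    ← Nat.cast_smul_eq_nsmul k, hP0, zero_smul]

end Ind

end Cfsg.Agent.H82.Md
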