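import Mathlib
import Cfsg.Agent.H82.MdD

/-!
# Brauer theory for Sylow subgroups of prime order, part E (helper82)

Relative traces, sums over free orbits, Schur's lemma, and the decomposition of
endomorphisms of the restriction of a simple module to the normalizer of a
trivial-intersection subgroup.
-/

set_option autoImplicit false
set_option linter.unusedSectionVars false

namespace Cfsg.Agent.H82.Md

open Classical

section Orbits

theorem sum_free_orbits {P Q A : Type*} [Group P] [Fintype P] [Fintype Q] [MulAction P Q]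
    [AddCommMonoid A] (F : Q → A) (q₀ : Q) (hfix : ∀ u : P, u • q₀ = q₀)
    (hfree : ∀ q : Q, q ≠ q₀ → ∀ u : P, u • q = q → u = 1) :
    ∑ q : Q, F q = F q₀ +
      ∑ ω ∈ (Finset.univ.erase (Quotient.mk'' q₀ : MulAction.orbitRel.Quotient P Q)),
        ∑ u : P, F (u • ω.out) := by
  rw [← Finset.sum_fiberwise Finset.univ
    (fun q => (Quotient.mk'' q : MulAction.orbitRel.Quotient P Q)) F]
  rw [← Finset.add_sum_erase Finset.univ _
    (Finset.mem_univ (Quotient.mk'' q₀ : MulAction.orbitRel.Quotient P Q))]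
  congr 1
  · have : (Finset.univ.filter fun q =>
        (Quotient.mk'' q : MulAction.orbitRel.Quotient P Q) = Quotient.mk'' q₀) = {q₀} := by
      ext q
      simp only [Finset.mem_filter, Finset.mem_univ, true_and, Finset.mem_singleton]
      rw [Quotient.eq'', MulAction.orbitRel_apply, MulAction.mem_orbit_iff]
      constructor
      · rintro ⟨u, rfl⟩
        exact hfix u
      · rintro rfl
        exact ⟨1, one_smul _ _⟩
    rw [this, Finset.sum_singleton]
  · refine Finset.sum_congr rfl fun ω hω => ?_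
    have hne : ω.out ≠ q₀ := by
      intro h
      apply (Finset.mem_erase.mp hω).1
      rw [← h]
      exact (Quotient.out_eq' ω).symm
    have hfib : (Finset.univ.filter fun q =>
        (Quotient.mk'' q : MulAction.orbitRel.Quotient P Q) = ω) =
        Finset.univ.image (fun u : P => u • ω.out) := by
      ext q
      simp only [Finset.mem_filter, Finset.mem_univ, true_and, Finset.mem_image]
      conv_lhs => rw [← Quotient.out_eq' ω]
      rw [Quotient.eq'', MulAction.orbitRel_apply, MulAction.mem_orbit_iff]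
    rw [hfib, Finset.sum_image]
    intro u _ u' _ h
    have h1 : (u'⁻¹ * u) • ω.out = ω.out := by
      rw [mul_smul]
      beta_reduce at h
      rw [h, inv_smul_smul]
    have h2 := hfree _ hne _ h1
    exact (inv_mul_eq_one.mp h2).symm

end Orbits

section RelTr

variable {k : Type*} [Field k] {G : Type*} [Group G]
variable {X Y : Type*} [AddCommGroup X] [Module k X] [AddCommGroup Y] [Module k Y]

/-- The conjugate of a linear map by a group element. -/
def conjMap (ρ : Representation k G X) (σ : Representation k G Y) (θ : X →ₗ[k] Y) (g : G) :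
    X →ₗ[k] Y :=
  σ g ∘ₗ θ ∘ₗ ρ g⁻¹

theorem conjMap_apply (ρ : Representation k G X) (σ : Representation k G Y) (θ : X →ₗ[k] Y)
    (g : G) (v : X) : conjMap ρ σ θ g v = σ g (θ (ρ g⁻¹ v)) := rfl

theorem conjMap_one (ρ : Representation k G X) (σ : Representation k G Y) (θ : X →ₗ[k] Y) :
    conjMap ρ σ θ 1 = θ := by
  ext v
  simp [conjMap_apply]

theorem conjMap_mul (ρ : Representation k G X) (σ : Representation k G Y) (θ : X →ₗ[k] Y)
    (g h : G) : conjMap ρ σ θ (g * h) = σ g ∘ₗ conjMap ρ σ θ h ∘ₗ ρ g⁻¹ := by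
  ext v
  simp [conjMap_apply]

theorem conjMap_mul_mem {ρ : Representation k G X} {σ : Representation k G Y}
    {θ : X →ₗ[k] Y} (K : Subgroup G) (hθ : Equivar (resRep ρ K) (resRep σ K) θ) (g : G)
    (n : ↥K) : conjMap ρ σ θ (g * n) = conjMap ρ σ θ g := by
  ext v
  rw [conjMap_apply, conjMap_apply, mul_inv_rev, map_mul, map_mul, Module.End.mul_apply,
    Module.End.mul_apply]
  congr 1
  have h1 := hθ.apply n (ρ (n : G)⁻¹ (ρ g⁻¹ v))
  rw [resRep_apply, resRep_apply] at h1
  rw [← h1, ← Module.End.mul_apply (ρ (n : G)), ← map_mul, mul_inv_cancel, map_one,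
    Module.End.one_apply]

theorem conjMap_out {ρ : Representation k G X} {σ : Representation k G Y}
    {θ : X →ₗ[k] Y} (K : Subgroup G) (hθ : Equivar (resRep ρ K) (resRep σ K) θ) (g : G) :
    conjMap ρ σ θ (QuotientGroup.mk (s := K) g).out = conjMap ρ σ θ g := by
  have hmem : g⁻¹ * (QuotientGroup.mk (s := K) g).out ∈ K := by
    rw [← QuotientGroup.eq, QuotientGroup.out_eq']
  have := conjMap_mul_mem K hθ g ⟨_, hmem⟩
  rw [← this]
  congr 1
  simp

variable [Fintype G]

/-- The relative trace from a subgroup. -/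
noncomputable def relTr (K : Subgroup G) (ρ : Representation k G X) (σ : Representation k G Y)
    (θ : X →ₗ[k] Y) : X →ₗ[k] Y :=
  ∑ q : G ⧸ K, conjMap ρ σ θ q.out

theorem relTr_equivar {ρ : Representation k G X} {σ : Representation k G Y}
    {θ : X →ₗ[k] Y} (K : Subgroup G) (hθ : Equivar (resRep ρ K) (resRep σ K) θ) :
    Equivar ρ σ (relTr K ρ σ θ) := by
  rw [equivar_iff]
  intro h v
  unfold relTr
  rw [LinearMap.sum_apply, LinearMap.sum_apply, map_sum]
  rw [← Equiv.sum_comp (MulAction.toPerm h : Equiv.Perm (G ⧸ K))]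
  refine Finset.sum_congr rfl fun q _ => ?_
  have h1 : (MulAction.toPerm h : Equiv.Perm (G ⧸ K)) q = QuotientGroup.mk (h * q.out) := by
    rw [MulAction.toPerm_apply]
    conv_lhs => rw [← QuotientGroup.out_eq' q]
    rfl
  rw [h1, conjMap_out K hθ, conjMap_mul]
  simp

end RelTr

section Schur

variable {k : Type*} [Field k] {G : Type*} [Group G]
variable {S : Type*} [AddCommGroup S] [Module k S]

theorem schur_simple [IsAlgClosed k] [FiniteDimensional k S] {σ : Representation k G S}
    (hσ : Simple σ) (Θ : S →ₗ[k] S) (hΘ : Equivar σ σ Θ) : ∃ c : k, Θ = c • LinearMap.id := by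
  haveI := hσ.1
  obtain ⟨c, hc⟩ := Module.End.exists_eigenvalue Θ
  obtain ⟨v, hv, hv0⟩ := hc.exists_hasEigenvector
  refine ⟨c, ?_⟩
  have hinv : Inv σ (Module.End.eigenspace Θ c) := by
    intro g x hx
    rw [Module.End.mem_eigenspace_iff] at hx ⊢
    rw [hΘ.apply, hx, map_smul]
  rcases hσ.2 _ hinv with h0 | h1
  · have hv' : v ∈ Module.End.eigenspace Θ c := hv
    rw [h0] at hv'
    exact absurd ((Submodule.mem_bot k).mp hv') hv0
  · ext x
    have : x ∈ Module.End.eigenspace Θ c := by rw [h1]; trivial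
    rw [Module.End.mem_eigenspace_iff] at this
    simp [this]

end Schur

section TI

variable {k : Type*} [Field k] {G : Type*} [Group G] [Fintype G]
variable {S : Type*} [AddCommGroup S] [Module k S]

/-- The relative trace from the normalizer of a trivial-intersection subgroup differs from the
original endomorphism by a trace from that subgroup. -/
theorem ti_relTr (σ : Representation k G S) (N P : Subgroup G) (hPN : P ≤ N)
    (hTI : ∀ g : G, g ∉ N → ∀ u ∈ P, g⁻¹ * u * g ∈ N → u = 1) (θ : S →ₗ[k] S)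
    (hθ : Equivar (resRep σ N) (resRep σ N) θ) :
    ∃ f₁ : S →ₗ[k] S, relTr N σ σ θ = θ + ∑ u : ↥P, σ (u : G) ∘ₗ f₁ ∘ₗ σ (u : G)⁻¹ := by
  have hfix : ∀ u : ↥P, u • (QuotientGroup.mk 1 : G ⧸ N) = QuotientGroup.mk 1 := by
    intro u
    change (QuotientGroup.mk ((u : G) * 1) : G ⧸ N) = QuotientGroup.mk 1
    rw [QuotientGroup.eq]
    simpa using N.inv_mem (hPN u.2)
  have hfree : ∀ q : G ⧸ N, q ≠ QuotientGroup.mk 1 → ∀ u : ↥P, u • q = q → u = 1 := by
    intro q hq u hu
    obtain ⟨g, rfl⟩ := QuotientGroup.mk_surjective q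
    have hg : g ∉ N := by
      intro hg
      apply hq
      rw [QuotientGroup.eq]
      simpa using hg
    change (QuotientGroup.mk ((u : G) * g) : G ⧸ N) = QuotientGroup.mk g at hu
    rw [QuotientGroup.eq] at hu
    have h1 : g⁻¹ * (u : G) * g ∈ N := by
      have := N.inv_mem hu
      simpa [mul_assoc] using this
    exact Subtype.ext (hTI g hg u u.2 h1)
  have h1 := sum_free_orbits (P := ↥P) (fun q : G ⧸ N => conjMap σ σ θ q.out)
    (QuotientGroup.mk 1) hfix hfree
  have h2 : conjMap σ σ θ (QuotientGroup.mk (s := N) 1).out = θ := by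
    rw [conjMap_out N hθ, conjMap_one]
  have h3 : ∀ (q : G ⧸ N) (u : ↥P), conjMap σ σ θ (u • q).out =
      σ (u : G) ∘ₗ conjMap σ σ θ q.out ∘ₗ σ (u : G)⁻¹ := by
    intro q u
    have : u • q = QuotientGroup.mk ((u : G) * q.out) := by
      conv_lhs => rw [← QuotientGroup.out_eq' q]
      rfl
    rw [this, conjMap_out N hθ, conjMap_mul]
  refine ⟨∑ ω ∈ (Finset.univ.erase
    (Quotient.mk'' (QuotientGroup.mk 1) : MulAction.orbitRel.Quotient ↥P (G ⧸ N))),
      conjMap σ σ θ ω.out.out, ?_⟩
  unfold relTr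
  rw [h1, h2]
  congr 1
  simp_rw [h3]
  rw [Finset.sum_comm]
  refine Finset.sum_congr rfl fun u _ => ?_
  ext v
  simp [LinearMap.sum_apply, map_sum]

/-- Endomorphisms of the restriction of a simple module to the normalizer of a
trivial-intersection subgroup are scalars up to traces from that subgroup. -/
theorem endo_decomp [IsAlgClosed k] [FiniteDimensional k S] {σ : Representation k G S}
    (hσ : Simple σ) (N P : Subgroup G) (hPN : P ≤ N)
    (hTI : ∀ g : G, g ∉ N → ∀ u ∈ P, g⁻¹ * u * g ∈ N → u = 1) (θ : S →ₗ[k] S)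
    (hθ : Equivar (resRep σ N) (resRep σ N) θ) :
    ∃ (c : k) (f : S →ₗ[k] S),
      θ = c • LinearMap.id + ∑ u : ↥P, σ (u : G) ∘ₗ f ∘ₗ σ (u : G)⁻¹ := by
  obtain ⟨f₁, hf₁⟩ := ti_relTr σ N P hPN hTI θ hθ
  obtain ⟨c, hc⟩ := schur_simple hσ _ (relTr_equivar N hθ)
  refine ⟨c, -f₁, ?_⟩
  rw [hc] at hf₁
  rw [hf₁]
  simp only [LinearMap.neg_comp, LinearMap.comp_neg, Finset.sum_neg_distrib]
  abel

end TI

end Cfsg.Agent.H82.Md
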