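import Mathlib
import Cfsg.Agent.H82.MdE

/-!
# Brauer theory for Sylow subgroups of prime order, part F (helper82)

Modules for a group with a normal subgroup of prime order `p` and index prime to `p`, in
characteristic `p`: two simple modules with trivial action of the subgroup, both mapping
"non-projectively" to a module whose endomorphisms are scalars up to traces, are linked by
a nonzero equivariant map.
-/

set_option autoImplicit false
set_option linter.unusedSectionVars false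

namespace Cfsg.Agent.H82.Md

open Classical

/-- The data of a normal cyclic subgroup of prime order `p` whose index is invertible in the
field `k` of characteristic `p`. -/
structure PSetup (k : Type*) [Field k] {Γ : Type*} [Group Γ] (Q : Subgroup Γ) (x₀ : Γ)
    (p : ℕ) : Prop where
  normal : Q.Normal
  mem : x₀ ∈ Q
  gen : ∀ u ∈ Q, ∃ i : ℕ, u = x₀ ^ i
  pow : x₀ ^ p = 1
  prime : p.Prime
  char : CharP k p
  index : ((Q.index : ℕ) : k) ≠ 0

section Nu

variable {k : Type*} [Field k] {Γ : Type*} [Group Γ] {X : Type*} [AddCommGroup X] [Module k X]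
variable {Q : Subgroup Γ} {x₀ : Γ} {p : ℕ}

/-- The nilpotent operator `x₀ - 1`. -/
def nu (ρ : Representation k Γ X) (x₀ : Γ) : Module.End k X := ρ x₀ - 1

theorem nu_apply (ρ : Representation k Γ X) (x₀ : Γ) (x : X) : nu ρ x₀ x = ρ x₀ x - x := rfl

theorem nu_pow_p (hS : PSetup k Q x₀ p) (ρ : Representation k Γ X) : (nu ρ x₀) ^ p = 0 := by
  haveI := hS.char
  haveI : Fact p.Prime := ⟨hS.prime⟩
  have h : ((Polynomial.X - 1 : Polynomial k)) ^ p = Polynomial.X ^ p - 1 := by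
    rw [sub_pow_char, one_pow]
  have h2 := congrArg (Polynomial.aeval (ρ x₀)) h
  simp only [map_pow, map_sub, Polynomial.aeval_X, map_one] at h2
  unfold nu
  rw [h2, ← map_pow, hS.pow, map_one, sub_self]

theorem fixed_of_nu (hS : PSetup k Q x₀ p) (ρ : Representation k Γ X) {x : X}
    (hx : nu ρ x₀ x = 0) : ∀ u ∈ Q, ρ u x = x := by
  have h0 : ρ x₀ x = x := by
    rw [nu_apply, sub_eq_zero] at hx
    exact hx
  intro u hu
  obtain ⟨i, rfl⟩ := hS.gen u hu
  rw [map_pow]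
  clear hu
  induction i with
  | zero => simp
  | succ i ih => rw [pow_succ, Module.End.mul_apply, h0, ih]

theorem nu_of_fixed (hS : PSetup k Q x₀ p) (ρ : Representation k Γ X) {x : X}
    (h : ∀ u ∈ Q, ρ u x = x) : nu ρ x₀ x = 0 := by
  rw [nu_apply, h x₀ hS.mem, sub_self]

theorem nu_rep (hS : PSetup k Q x₀ p) (ρ : Representation k Γ X) (n : Γ) {x : X}
    (hx : nu ρ x₀ x = 0) : nu ρ x₀ (ρ n x) = 0 := by
  apply nu_of_fixed hS
  intro u hu
  have h1 : n⁻¹ * u * n ∈ Q := by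
    have := hS.normal.conj_mem u hu n⁻¹
    rwa [inv_inv] at this
  have h2 := fixed_of_nu hS ρ hx _ h1
  rw [← Module.End.mul_apply, ← map_mul]
  have h3 : u * n = n * (n⁻¹ * u * n) := by group
  rw [h3, map_mul, Module.End.mul_apply, h2]

theorem inv_range_nu_pow (hS : PSetup k Q x₀ p) (ρ : Representation k Γ X) (i : ℕ) :
    Inv ρ (LinearMap.range ((nu ρ x₀) ^ i)) := by
  rintro n _ ⟨x, rfl⟩
  obtain ⟨a, ha⟩ := hS.gen (n * x₀ * n⁻¹) (hS.normal.conj_mem x₀ hS.mem n)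
  have hcomm : Commute (nu ρ x₀) (∑ l ∈ Finset.range a, (ρ x₀) ^ l) := by
    unfold nu
    apply Commute.sum_right
    intro l _
    exact Commute.sub_left (Commute.pow_right (Commute.refl _) l) (Commute.one_left _)
  have h1 : SemiconjBy (ρ n) (nu ρ x₀) (nu ρ x₀ * ∑ l ∈ Finset.range a, (ρ x₀) ^ l) := by
    unfold SemiconjBy nu
    rw [mul_geom_sum, mul_sub, sub_mul, mul_one, one_mul, ← map_pow, ← ha, ← map_mul,
      ← map_mul]
    congr 2
    group
  have h2 := h1.pow_right i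
  unfold SemiconjBy at h2
  rw [hcomm.mul_pow] at h2
  refine ⟨((∑ l ∈ Finset.range a, (ρ x₀) ^ l) ^ i) (ρ n x), ?_⟩
  have h3 := LinearMap.congr_fun h2 x
  simp only [Module.End.mul_apply] at h3
  exact h3.symm

/-- The sum of the elements of the subgroup. -/
noncomputable def pSum (ρ : Representation k Γ X) (Q : Subgroup Γ) [Fintype ↥Q] :
    Module.End k X := ∑ u : ↥Q, ρ (u : Γ)

theorem pSum_apply (ρ : Representation k Γ X) (Q : Subgroup Γ) [Fintype ↥Q] (x : X) :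
    pSum ρ Q x = ∑ u : ↥Q, ρ (u : Γ) x := by
  simp [pSum, LinearMap.sum_apply]

theorem inv_range_pSum [Fintype ↥Q] (hS : PSetup k Q x₀ p) (ρ : Representation k Γ X) :
    Inv ρ (LinearMap.range (pSum ρ Q)) := by
  rintro n _ ⟨x, rfl⟩
  refine ⟨ρ n x, ?_⟩
  rw [pSum_apply, pSum_apply, map_sum]
  haveI := hS.normal
  refine Fintype.sum_equiv (MulAut.conjNormal n⁻¹ : ↥Q ≃* ↥Q).toEquiv _ _ (fun u => ?_)
  simp only [MulEquiv.toEquiv_eq_coe, EquivLike.coe_coe, MulAut.conjNormal_apply, inv_inv]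
  rw [← Module.End.mul_apply, ← Module.End.mul_apply, ← map_mul, ← map_mul]
  congr 2
  group

variable [Fintype Γ]

/-- An equivariant map from a module with trivial action of the subgroup whose image lies in
the image of the sum of the subgroup is a trace. -/
theorem proj_of_range_pSum (hS : PSetup k Q x₀ p) (ρ : Representation k Γ X)
    {T : Type*} [AddCommGroup T] [Module k T] (τ : Representation k Γ T)
    (htriv : ∀ u ∈ Q, τ u = LinearMap.id) (φ : T →ₗ[k] X) (hφ : Equivar τ ρ φ)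
    (hr : ∀ t, φ t ∈ LinearMap.range (pSum ρ Q)) : Proj τ ρ φ := by
  obtain ⟨j, hj⟩ := (pSum ρ Q).rangeRestrict.exists_rightInverse_of_surjective
    (LinearMap.range_rangeRestrict _)
  have hs : ∀ t, pSum ρ Q (j (φ.codRestrict _ hr t)) = φ t := by
    intro t
    have := LinearMap.congr_fun hj (φ.codRestrict _ hr t)
    have h2 := congrArg Subtype.val this
    simpa using h2
  refine ⟨((Q.index : ℕ) : k)⁻¹ • (j ∘ₗ φ.codRestrict _ hr), ?_⟩
  ext t
  rw [trMap_apply, sum_out_mul Q]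
  have h1 : ∀ q : Γ ⧸ Q, ∑ u : ↥Q, ρ (q.out * (u : Γ))
      ((((Q.index : ℕ) : k)⁻¹ • (j ∘ₗ φ.codRestrict _ hr)) (τ (q.out * (u : Γ))⁻¹ t)) =
      ((Q.index : ℕ) : k)⁻¹ • φ t := by
    intro q
    have h2 : ∀ u : ↥Q, ρ (q.out * (u : Γ))
      ((((Q.index : ℕ) : k)⁻¹ • (j ∘ₗ φ.codRestrict _ hr)) (τ (q.out * (u : Γ))⁻¹ t)) =
      ((Q.index : ℕ) : k)⁻¹ • ρ q.out (ρ (u : Γ) (j (φ.codRestrict _ hr (τ (q.out)⁻¹ t)))) := by
      intro u
      rw [mul_inv_rev, map_mul τ, Module.End.mul_apply, htriv _ (Q.inv_mem u.2),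
        LinearMap.id_apply, LinearMap.smul_apply, map_smul, LinearMap.comp_apply, map_mul,
        Module.End.mul_apply]
    rw [Finset.sum_congr rfl (fun u _ => h2 u), ← Finset.smul_sum, ← map_sum, ← pSum_apply,
      hs, ← hφ.apply, ← Module.End.mul_apply, ← map_mul, mul_inv_cancel, map_one,
      Module.End.one_apply]
  rw [Finset.sum_congr rfl (fun q _ => h1 q), Finset.sum_const, Finset.card_univ,
    ← Nat.cast_smul_eq_nsmul k, smul_smul]
  have hcard : Fintype.card (Γ ⧸ Q) = Q.index := by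
    rw [Subgroup.index, Nat.card_eq_fintype_card]
  rw [hcard, mul_inv_cancel₀ hS.index, one_smul]

end Nu

section Theta

variable {k : Type*} [Field k] {Γ : Type*} [Group Γ] [Fintype Γ]
variable {X : Type*} [AddCommGroup X] [Module k X]
variable {Q : Subgroup Γ} {x₀ : Γ} {p : ℕ}
variable {T : Type*} [AddCommGroup T] [Module k T]

theorem exists_theta (hS : PSetup k Q x₀ p) (ρ : Representation k Γ X)
    (τ : Representation k Γ T) (htriv : ∀ u ∈ Q, τ u = LinearMap.id) (ψ : T →ₗ[k] X)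
    (hψ : Equivar τ ρ ψ) (j : ℕ)
    (hj : ∀ t, ψ t ∈ LinearMap.range ((nu ρ x₀) ^ j))
    (hj1 : ∀ t, ψ t ∈ LinearMap.range ((nu ρ x₀) ^ (j + 1)) → t = 0) :
    ∃ θ : X →ₗ[k] X, Equivar ρ ρ θ ∧ (∀ t, θ (ψ t) = ψ t) ∧
      ∀ x, nu ρ x₀ x = 0 → ∃ t, θ x = ψ t := by
  have hψν : ∀ t, nu ρ x₀ (ψ t) = 0 := by
    intro t
    rw [nu_apply, ← hψ.apply, htriv x₀ hS.mem, LinearMap.id_apply, sub_self]
  obtain ⟨r, hr⟩ := ((nu ρ x₀) ^ j).rangeRestrict.exists_rightInverse_of_surjective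
    (LinearMap.range_rangeRestrict _)
  have hs₁ : ∀ t, ((nu ρ x₀) ^ j) (r (ψ.codRestrict _ hj t)) = ψ t := by
    intro t
    have := LinearMap.congr_fun hr (ψ.codRestrict _ hj t)
    have h2 := congrArg Subtype.val this
    simpa using h2
  have hinj : LinearMap.ker ((LinearMap.range ((nu ρ x₀) ^ (j + 1))).mkQ ∘ₗ ψ) = ⊥ := by
    rw [LinearMap.ker_eq_bot']
    intro t ht
    rw [LinearMap.comp_apply, Submodule.mkQ_apply, Submodule.Quotient.mk_eq_zero] at ht
    exact hj1 t ht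
  obtain ⟨l, hl⟩ := LinearMap.exists_leftInverse_of_injective _ hinj
  have hpr1 : ∀ t, (l ∘ₗ (LinearMap.range ((nu ρ x₀) ^ (j + 1))).mkQ) (ψ t) = t :=
    fun t => LinearMap.congr_fun hl t
  have hpr2 : ∀ x, (l ∘ₗ (LinearMap.range ((nu ρ x₀) ^ (j + 1))).mkQ)
      (((nu ρ x₀) ^ (j + 1)) x) = 0 := by
    intro x
    rw [LinearMap.comp_apply, Submodule.mkQ_apply,
      (Submodule.Quotient.mk_eq_zero _).mpr (LinearMap.mem_range_self _ x), map_zero]
  obtain ⟨pr, hprdef⟩ : ∃ pr : X →ₗ[k] T,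
      pr = l ∘ₗ (LinearMap.range ((nu ρ x₀) ^ (j + 1))).mkQ := ⟨_, rfl⟩
  rw [← hprdef] at hpr1 hpr2
  obtain ⟨κ, hκdef⟩ : ∃ κ : Module.End k X, κ = r ∘ₗ ψ.codRestrict _ hj ∘ₗ pr := ⟨_, rfl⟩
  have hκ3' : ∀ x, ((nu ρ x₀) ^ j) (κ x) = ψ (pr x) := by
    intro x
    rw [hκdef]
    exact hs₁ (pr x)
  have hκ1' : ∀ x, κ (((nu ρ x₀) ^ (j + 1)) x) = 0 := by
    intro x
    rw [hκdef, LinearMap.comp_apply, LinearMap.comp_apply, hpr2]
    simp
  clear hs₁ hκdef hr
  obtain ⟨ν, hν⟩ : ∃ ν : Module.End k X, ν = nu ρ x₀ := ⟨_, rfl⟩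
  rw [← hν] at hψν hκ3' hκ1'
  have hκ1 : κ * ν ^ (j + 1) = 0 := by
    ext x
    rw [Module.End.mul_apply, hκ1']
    rfl
  have hκ3 : ∀ x, (ν ^ j) (κ x) = ψ (pr x) := hκ3'
  have hκ2 : ν ^ (j + 1) * κ = 0 := by
    ext x
    rw [pow_succ', mul_assoc, Module.End.mul_apply, Module.End.mul_apply, hκ3, hψν]
    rfl
  obtain ⟨π₀, hπ₀⟩ : ∃ π₀ : Module.End k X,
      π₀ = ∑ i ∈ Finset.range (j + 1), ν ^ i * κ * ν ^ (j - i) := ⟨_, rfl⟩
  have hcomm : π₀ * ν = ν * π₀ := by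
    rw [hπ₀, Finset.sum_mul, Finset.mul_sum, Finset.sum_range_succ', Finset.sum_range_succ]
    have e1 : ν ^ 0 * κ * ν ^ (j - 0) * ν = 0 := by
      rw [pow_zero, one_mul, Nat.sub_zero, mul_assoc, ← pow_succ, hκ1]
    have e2 : ν * (ν ^ j * κ * ν ^ (j - j)) = 0 := by
      rw [Nat.sub_self, pow_zero, mul_one, ← mul_assoc, ← pow_succ', hκ2]
    rw [e1, e2, add_zero, add_zero]
    refine Finset.sum_congr rfl fun i hi => ?_
    have hi' : i < j := Finset.mem_range.mp hi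
    have e3 : j - i = (j - (i + 1)) + 1 := by omega
    rw [e3, pow_succ ν (j - (i + 1)), pow_succ' ν i]
    simp only [mul_assoc]
  have hπker : ∀ x, ν x = 0 → π₀ x = ψ (pr x) := by
    intro x hx
    rw [hπ₀, LinearMap.sum_apply, Finset.sum_range_succ]
    have e1 : ∀ i ∈ Finset.range j, (ν ^ i * κ * ν ^ (j - i)) x = 0 := by
      intro i hi
      have hi' : i < j := Finset.mem_range.mp hi
      have e3 : j - i = (j - (i + 1)) + 1 := by omega
      rw [Module.End.mul_apply, Module.End.mul_apply, e3, pow_succ, Module.End.mul_apply, hx,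
        map_zero, map_zero, map_zero]
    rw [Finset.sum_eq_zero e1, zero_add, Nat.sub_self, pow_zero, mul_one,
      Module.End.mul_apply, hκ3]
  have hπx : π₀ * ρ x₀ = ρ x₀ * π₀ := by
    have : ρ x₀ = ν + 1 := by
      rw [hν]; unfold nu; abel
    rw [this, mul_add, add_mul, hcomm, mul_one, one_mul]
  have hπQ : Equivar (resRep ρ Q) (resRep ρ Q) π₀ := by
    rw [equivar_iff]
    intro u x
    rw [resRep_apply]
    obtain ⟨i, hi⟩ := hS.gen u u.2
    rw [hi, map_pow]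
    have : π₀ * (ρ x₀) ^ i = (ρ x₀) ^ i * π₀ := Commute.pow_right (hπx : Commute π₀ (ρ x₀)) i
    exact LinearMap.congr_fun this x
  have hcard : Fintype.card (Γ ⧸ Q) = Q.index := by
    rw [Subgroup.index, Nat.card_eq_fintype_card]
  refine ⟨((Q.index : ℕ) : k)⁻¹ • relTr Q ρ ρ π₀, ?_, ?_, ?_⟩
  · rw [equivar_iff]
    intro g x
    rw [LinearMap.smul_apply, LinearMap.smul_apply, map_smul, (relTr_equivar Q hπQ).apply]
  · intro t
    rw [LinearMap.smul_apply]
    unfold relTr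
    rw [LinearMap.sum_apply]
    have : ∀ q : Γ ⧸ Q, conjMap ρ ρ π₀ q.out (ψ t) = ψ t := by
      intro q
      rw [conjMap_apply, ← hψ.apply, hπker _ (hψν _), hpr1, ← hψ.apply, ← Module.End.mul_apply,
        ← map_mul, mul_inv_cancel, map_one, Module.End.one_apply]
    rw [Finset.sum_congr rfl (fun q _ => this q), Finset.sum_const, Finset.card_univ,
      ← Nat.cast_smul_eq_nsmul k, smul_smul, hcard, inv_mul_cancel₀ hS.index, one_smul]
  · intro x hx
    refine ⟨((Q.index : ℕ) : k)⁻¹ • ∑ q : Γ ⧸ Q, τ q.out (pr (ρ (q.out)⁻¹ x)), ?_⟩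
    rw [LinearMap.smul_apply, map_smul, map_sum]
    unfold relTr
    rw [LinearMap.sum_apply]
    congr 1
    refine Finset.sum_congr rfl fun q _ => ?_
    have hx' : ν (ρ (q.out)⁻¹ x) = 0 := by
      rw [hν]
      exact nu_rep hS ρ _ hx
    rw [conjMap_apply, hπker _ hx', hψ.apply]

/-- Two simple modules with trivial action of the subgroup, both mapping non-projectively to
a module whose endomorphisms are scalars up to traces from the subgroup, are linked by a
nonzero equivariant map. -/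
theorem lemma_U (hS : PSetup k Q x₀ p) (ρ : Representation k Γ X)
    (hE : ∀ θ : X →ₗ[k] X, Equivar ρ ρ θ → ∃ (c : k) (f : X →ₗ[k] X),
      θ = c • LinearMap.id + ∑ u : ↥Q, ρ (u : Γ) ∘ₗ f ∘ₗ ρ (u : Γ)⁻¹)
    {T' : Type*} [AddCommGroup T'] [Module k T']
    (τ : Representation k Γ T) (τ' : Representation k Γ T') (hτ : Simple τ)
    (htriv : ∀ u ∈ Q, τ u = LinearMap.id) (htriv' : ∀ u ∈ Q, τ' u = LinearMap.id)
    (ψ : T →ₗ[k] X) (hψ : Equivar τ ρ ψ) (hnp : ¬ Proj τ ρ ψ)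
    (ψ' : T' →ₗ[k] X) (hψ' : Equivar τ' ρ ψ') (hnp' : ¬ Proj τ' ρ ψ') :
    ∃ β : T' →ₗ[k] T, β ≠ 0 ∧ Equivar τ' τ β := by
  have hψ0 : ψ ≠ 0 := fun h => hnp (h ▸ Proj.zero τ ρ)
  have hinj : Function.Injective ψ := hτ.injective hψ hψ0
  obtain ⟨t₀, ht₀⟩ : ∃ t₀ : T, t₀ ≠ 0 := by
    haveI := hτ.1
    exact exists_ne 0
  have factA : ∀ U : Submodule k X, Inv ρ U → (∀ t, ψ t ∈ U) ∨ (∀ t, ψ t ∈ U → t = 0) := by
    intro U hU
    rcases hτ.2 _ (inv_comap hψ hU) with h0 | h1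
    · right
      intro t ht
      have : t ∈ U.comap ψ := ht
      rw [h0] at this
      exact (Submodule.mem_bot k).mp this
    · left
      intro t
      have : t ∈ U.comap ψ := by rw [h1]; trivial
      exact this
  have hex : ∃ j, (∀ t, ψ t ∈ LinearMap.range ((nu ρ x₀) ^ j)) ∧
      ¬ (∀ t, ψ t ∈ LinearMap.range ((nu ρ x₀) ^ (j + 1))) := by
    by_contra hcon
    push Not at hcon
    have hall : ∀ j, ∀ t, ψ t ∈ LinearMap.range ((nu ρ x₀) ^ j) := by
      intro j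
      induction j with
      | zero =>
        intro t
        exact ⟨ψ t, by simp⟩
      | succ j ih => exact hcon j ih
    have h1 := hall p t₀
    rw [nu_pow_p hS ρ] at h1
    obtain ⟨x, hx⟩ := h1
    rw [LinearMap.zero_apply] at hx
    exact ht₀ (hinj (by rw [← hx, map_zero]))
  obtain ⟨j, hj, hj1⟩ := hex
  have hj1' : ∀ t, ψ t ∈ LinearMap.range ((nu ρ x₀) ^ (j + 1)) → t = 0 :=
    (factA _ (inv_range_nu_pow hS ρ (j + 1))).resolve_left hj1
  obtain ⟨θ, hθ, hθ1, hθ2⟩ := exists_theta hS ρ τ htriv ψ hψ j hj hj1'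
  obtain ⟨c, f, hcf⟩ := hE θ hθ
  have hP : ∀ t, ψ t ∈ LinearMap.range (pSum ρ Q) → t = 0 := by
    refine (factA _ (inv_range_pSum hS ρ)).resolve_left ?_
    intro h
    exact hnp (proj_of_range_pSum hS ρ τ htriv ψ hψ h)
  have hker : ∀ x, nu ρ x₀ x = 0 → θ x = c • x + pSum ρ Q (f x) := by
    intro x hx
    rw [hcf, LinearMap.add_apply, LinearMap.smul_apply, LinearMap.id_apply,
      LinearMap.sum_apply, pSum_apply]
    congr 1
    refine Finset.sum_congr rfl fun u _ => ?_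
    rw [LinearMap.comp_apply, LinearMap.comp_apply, fixed_of_nu hS ρ hx _ (Q.inv_mem u.2)]
  have hψν : ∀ t, nu ρ x₀ (ψ t) = 0 := by
    intro t
    rw [nu_apply, ← hψ.apply, htriv x₀ hS.mem, LinearMap.id_apply, sub_self]
  have hψν' : ∀ t, nu ρ x₀ (ψ' t) = 0 := by
    intro t
    rw [nu_apply, ← hψ'.apply, htriv' x₀ hS.mem, LinearMap.id_apply, sub_self]
  have hc : c = 1 := by
    have h1 := hker (ψ t₀) (hψν t₀)
    rw [hθ1] at h1
    have h2 : ψ ((1 - c) • t₀) ∈ LinearMap.range (pSum ρ Q) := by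
      refine ⟨f (ψ t₀), ?_⟩
      rw [map_smul, sub_smul, one_smul, eq_sub_iff_add_eq, add_comm]
      exact h1.symm
    have h3 := hP _ h2
    rcases smul_eq_zero.mp h3 with h4 | h4
    · exact (sub_eq_zero.mp h4).symm
    · exact absurd h4 ht₀
  have hmem : ∀ t', (θ ∘ₗ ψ') t' ∈ LinearMap.range ψ := by
    intro t'
    obtain ⟨t, ht⟩ := hθ2 _ (hψν' t')
    exact ⟨t, ht.symm⟩
  have hβ1 : ∀ t', ψ (((LinearEquiv.ofInjective ψ hinj).symm.toLinearMap ∘ₗ
      (θ ∘ₗ ψ').codRestrict (LinearMap.range ψ) hmem) t') = θ (ψ' t') := by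
    intro t'
    have h1 : ∀ y : LinearMap.range ψ,
        ψ ((LinearEquiv.ofInjective ψ hinj).symm y) = (y : X) := by
      intro y
      have := LinearEquiv.ofInjective_apply (f := ψ) (h := hinj)
        ((LinearEquiv.ofInjective ψ hinj).symm y)
      rw [LinearEquiv.apply_symm_apply] at this
      exact this.symm
    exact h1 _
  refine ⟨(LinearEquiv.ofInjective ψ hinj).symm.toLinearMap ∘ₗ
      (θ ∘ₗ ψ').codRestrict (LinearMap.range ψ) hmem, ?_, ?_⟩
  · intro h0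
    apply hnp'
    apply proj_of_range_pSum hS ρ τ' htriv' ψ' hψ'
    intro t'
    have h1 := hβ1 t'
    rw [h0, LinearMap.zero_apply, map_zero, hker _ (hψν' t'), hc, one_smul] at h1
    refine ⟨- f (ψ' t'), ?_⟩
    rw [map_neg]
    exact (eq_neg_of_add_eq_zero_left h1.symm).symm
  · rw [equivar_iff]
    intro g t'
    apply hinj
    rw [hβ1, hψ.apply, hβ1, hψ'.apply, hθ.apply]

end Theta

end Cfsg.Agent.H82.Md
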