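import Mathlib
import Cfsg.Agent.H82.MdE

/-!
# Brauer theory for Sylow subgroups of prime order, part G (helper82)

Burnside's theorem on irreducible matrix algebras, the Frobenius–Schur linear independence of
the trace functions of pairwise non-isomorphic simple modules, and the resulting bound of the
number of simple modules in characteristic `p` by the number of `p`-regular classes.
-/

set_option autoImplicit false
set_option linter.unusedSectionVars false

namespace Cfsg.Agent.H82.Md

open Classical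

section Burnside

variable {k : Type*} [Field k] {G : Type*} [Group G]
variable {V : Type*} [AddCommGroup V] [Module k V]

/-- The action of the group algebra on a vector. -/
noncomputable def evalMap (ρ : Representation k G V) (v : V) : MonoidAlgebra k G →ₗ[k] V :=
  (LinearMap.applyₗ v : (V →ₗ[k] V) →ₗ[k] V) ∘ₗ ρ.asAlgebraHom.toLinearMap

theorem evalMap_apply (ρ : Representation k G V) (v : V) (c : MonoidAlgebra k G) :
    evalMap ρ v c = ρ.asAlgebraHom c v := rfl

theorem evalMap_surjective {ρ : Representation k G V} (hρ : Simple ρ) {v : V} (hv : v ≠ 0) :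
    Function.Surjective (evalMap ρ v) := by
  have hinv : Inv ρ (LinearMap.range (evalMap ρ v)) := by
    rintro g _ ⟨c, rfl⟩
    refine ⟨MonoidAlgebra.single g 1 * c, ?_⟩
    rw [evalMap_apply, evalMap_apply, map_mul, Representation.asAlgebraHom_single_one,
      Module.End.mul_apply]
  rcases hρ.2 _ hinv with h0 | h1
  · exfalso
    apply hv
    have : v ∈ LinearMap.range (evalMap ρ v) := ⟨1, by rw [evalMap_apply, map_one]; rfl⟩
    rw [h0] at this
    exact (Submodule.mem_bot k).mp this
  · exact LinearMap.range_eq_top.mp h1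

variable [FiniteDimensional k V]

theorem exists_dual_eq_one {w : V} (hw : w ≠ 0) : ∃ ℓ : V →ₗ[k] k, ℓ w = 1 := by
  obtain ⟨ℓ, hℓ⟩ := LinearMap.exists_leftInverse_of_injective (LinearMap.toSpanSingleton k V w)
    (LinearMap.ker_toSpanSingleton k hw)
  refine ⟨ℓ, ?_⟩
  have := LinearMap.congr_fun hℓ 1
  simpa using this

theorem exists_rank_one [IsAlgClosed k] {ρ : Representation k G V} (hρ : Simple ρ) :
    ∃ (c : MonoidAlgebra k G) (w₀ : V) (ℓ₀ : V →ₗ[k] k), w₀ ≠ 0 ∧ ℓ₀ ≠ 0 ∧
      ∀ x, ρ.asAlgebraHom c x = ℓ₀ x • w₀ := by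
  haveI := hρ.1
  have hex : ∃ n, ∃ c : MonoidAlgebra k G, ρ.asAlgebraHom c ≠ 0 ∧
      Module.finrank k (LinearMap.range (ρ.asAlgebraHom c)) = n :=
    ⟨_, 1, by rw [map_one]; exact one_ne_zero, rfl⟩
  obtain ⟨c, hc0, hcn⟩ := Nat.find_spec hex
  have hmin : ∀ c' : MonoidAlgebra k G, ρ.asAlgebraHom c' ≠ 0 →
      Module.finrank k (LinearMap.range (ρ.asAlgebraHom c)) ≤
        Module.finrank k (LinearMap.range (ρ.asAlgebraHom c')) := by
    intro c' hc'
    rw [hcn]
    exact Nat.find_min' hex ⟨c', hc', rfl⟩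
  obtain ⟨x₁, hx₁⟩ : ∃ x₁, ρ.asAlgebraHom c x₁ ≠ 0 := by
    by_contra h
    push Not at h
    exact hc0 (LinearMap.ext h)
  have key : ∀ x₂, ∃ μ : k, ρ.asAlgebraHom c x₂ = μ • ρ.asAlgebraHom c x₁ := by
    intro x₂
    obtain ⟨s, hs⟩ := evalMap_surjective hρ hx₁ x₂
    rw [evalMap_apply] at hs
    have hR : ∀ y ∈ LinearMap.range (ρ.asAlgebraHom c),
        (ρ.asAlgebraHom c * ρ.asAlgebraHom s) y ∈ LinearMap.range (ρ.asAlgebraHom c) := by
      intro y _
      exact ⟨ρ.asAlgebraHom s y, rfl⟩
    haveI : Nontrivial (LinearMap.range (ρ.asAlgebraHom c)) :=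
      ⟨⟨⟨_, ⟨x₁, rfl⟩⟩, 0, fun h => hx₁ (congrArg Subtype.val h)⟩⟩
    obtain ⟨μ, hμ⟩ := Module.End.exists_eigenvalue
      ((ρ.asAlgebraHom c * ρ.asAlgebraHom s).restrict hR)
    obtain ⟨y, hy, hy0⟩ := hμ.exists_hasEigenvector
    rw [Module.End.mem_eigenspace_iff] at hy
    obtain ⟨xy, hxy⟩ := y.2
    have hy' : ρ.asAlgebraHom c (ρ.asAlgebraHom s (y : V)) = μ • (y : V) := by
      have := congrArg Subtype.val hy
      simpa using this
    refine ⟨μ, ?_⟩
    by_contra hne
    have hc'0 : ρ.asAlgebraHom (c * s * c - μ • c) ≠ 0 := by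
      intro h0
      apply hne
      have := LinearMap.congr_fun h0 x₁
      rw [map_sub, map_mul, map_mul, map_smul, LinearMap.sub_apply, Module.End.mul_apply,
        Module.End.mul_apply, LinearMap.smul_apply, LinearMap.zero_apply, hs, sub_eq_zero] at this
      exact this
    have hlt : LinearMap.ker (ρ.asAlgebraHom c) < LinearMap.ker (ρ.asAlgebraHom (c * s * c - μ • c)) := by
      rw [lt_iff_le_and_ne]
      constructor
      · intro x hx
        rw [LinearMap.mem_ker] at hx ⊢
        rw [map_sub, map_mul, map_mul, map_smul, LinearMap.sub_apply, Module.End.mul_apply,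
          Module.End.mul_apply, LinearMap.smul_apply, hx, map_zero, map_zero, smul_zero,
          sub_zero]
      · intro heq
        have h1 : xy ∈ LinearMap.ker (ρ.asAlgebraHom (c * s * c - μ • c)) := by
          rw [LinearMap.mem_ker, map_sub, map_mul, map_mul, map_smul, LinearMap.sub_apply,
            Module.End.mul_apply, Module.End.mul_apply, LinearMap.smul_apply, hxy, hy', sub_self]
        rw [← heq, LinearMap.mem_ker, hxy] at h1
        exact hy0 (Subtype.ext h1)
    have h1 := Submodule.finrank_lt_finrank_of_lt hlt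
    have h2 := LinearMap.finrank_range_add_finrank_ker (ρ.asAlgebraHom c)
    have h3 := LinearMap.finrank_range_add_finrank_ker (ρ.asAlgebraHom (c * s * c - μ • c))
    have h4 := hmin _ hc'0
    omega
  obtain ⟨ℓ, hℓ⟩ := exists_dual_eq_one (k := k) hx₁
  refine ⟨c, ρ.asAlgebraHom c x₁, ℓ ∘ₗ ρ.asAlgebraHom c, hx₁, ?_, ?_⟩
  · intro h0
    have := LinearMap.congr_fun h0 x₁
    rw [LinearMap.comp_apply, hℓ, LinearMap.zero_apply] at this
    exact one_ne_zero this
  · intro x
    obtain ⟨μ, hμ⟩ := key x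
    rw [LinearMap.comp_apply, hμ, map_smul, hℓ, smul_eq_mul, mul_one]

theorem exists_smulRight [IsAlgClosed k] {ρ : Representation k G V} (hρ : Simple ρ)
    (ℓ : V →ₗ[k] k) (w : V) :
    ∃ c : MonoidAlgebra k G, ∀ x, ρ.asAlgebraHom c x = ℓ x • w := by
  obtain ⟨c₀, w₀, ℓ₀, hw₀, hℓ₀, hc₀⟩ := exists_rank_one hρ
  -- the functionals obtained with target `w₀`
  have hL : ∀ ℓ' : Module.Dual k V, ∃ c : MonoidAlgebra k G,
      ∀ x, ρ.asAlgebraHom c x = ℓ' x • w₀ := by
    let L : Submodule k (Module.Dual k V) :=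
      { carrier := {ℓ' | ∃ c : MonoidAlgebra k G, ∀ x, ρ.asAlgebraHom c x = ℓ' x • w₀}
        add_mem' := by
          rintro a b ⟨c, hc⟩ ⟨c', hc'⟩
          refine ⟨c + c', fun x => ?_⟩
          rw [map_add, LinearMap.add_apply, hc, hc', LinearMap.add_apply, add_smul]
        zero_mem' := ⟨0, fun x => by simp⟩
        smul_mem' := by
          rintro a b ⟨c, hc⟩
          refine ⟨a • c, fun x => ?_⟩
          rw [map_smul, LinearMap.smul_apply, hc, LinearMap.smul_apply, smul_eq_mul, mul_smul] }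
    have hLtop : L = ⊤ := by
      have hco : L.dualCoannihilator = ⊥ := by
        rw [eq_bot_iff]
        intro x hx
        rw [Submodule.mem_dualCoannihilator] at hx
        rw [Submodule.mem_bot]
        by_contra hx0
        obtain ⟨x₁, hx₁⟩ : ∃ x₁, ℓ₀ x₁ ≠ 0 := by
          by_contra h
          push Not at h
          exact hℓ₀ (LinearMap.ext h)
        obtain ⟨s, hs⟩ := evalMap_surjective hρ hx0 x₁
        rw [evalMap_apply] at hs
        have hmem : (ℓ₀ ∘ₗ ρ.asAlgebraHom s : Module.Dual k V) ∈ L := by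
          refine ⟨c₀ * s, fun y => ?_⟩
          rw [map_mul, Module.End.mul_apply, hc₀]
          rfl
        have := hx _ hmem
        rw [LinearMap.comp_apply, hs] at this
        exact hx₁ this
      have h1 := Subspace.dualCoannihilator_dualAnnihilator_eq (W := L)
      rw [hco, Submodule.dualAnnihilator_bot] at h1
      exact h1.symm
    intro ℓ'
    have : ℓ' ∈ L := by rw [hLtop]; trivial
    exact this
  obtain ⟨c, hc⟩ := hL ℓ
  obtain ⟨s, hs⟩ := evalMap_surjective hρ hw₀ w
  rw [evalMap_apply] at hs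
  refine ⟨s * c, fun x => ?_⟩
  rw [map_mul, Module.End.mul_apply, hc, map_smul, hs]

/-- Burnside's theorem: the group algebra maps onto the endomorphism algebra of a simple
module over an algebraically closed field. -/
theorem burnside [IsAlgClosed k] {ρ : Representation k G V} (hρ : Simple ρ) :
    Function.Surjective ρ.asAlgebraHom := by
  intro F
  have h1 : ∀ i : Fin (Module.finrank k V), ∃ c : MonoidAlgebra k G,
      ∀ x, ρ.asAlgebraHom c x = (Module.finBasis k V).coord i x • F (Module.finBasis k V i) :=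
    fun i => exists_smulRight hρ _ _
  choose c hc using h1
  refine ⟨∑ i, c i, ?_⟩
  ext x
  rw [map_sum, LinearMap.sum_apply]
  simp_rw [hc]
  conv_rhs => rw [← (Module.finBasis k V).sum_repr x, map_sum]
  refine Finset.sum_congr rfl fun i _ => ?_
  rw [map_smul]
  rfl

end Burnside

section FrobSchur

variable {k : Type*} [Field k] [IsAlgClosed k] {G : Type*} [Group G]

theorem exists_sum_eq_one {V : Type*} [AddCommGroup V] [Module k V] [FiniteDimensional k V]
    {A : Module.End k V} (hA : A ≠ 0) :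
    ∃ (L R : Fin (Module.finrank k V) → Module.End k V), ∑ i, L i * A * R i = 1 := by
  obtain ⟨x, hx⟩ : ∃ x, A x ≠ 0 := by
    by_contra h
    push Not at h
    exact hA (LinearMap.ext h)
  obtain ⟨ℓ, hℓ⟩ := exists_dual_eq_one (k := k) hx
  refine ⟨fun i => ℓ.smulRight (Module.finBasis k V i),
    fun i => ((Module.finBasis k V).coord i).smulRight x, ?_⟩
  ext v
  rw [LinearMap.sum_apply]
  conv_rhs => rw [Module.End.one_apply, ← (Module.finBasis k V).sum_repr v]
  refine Finset.sum_congr rfl fun i _ => ?_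
  simp [Module.End.mul_apply, LinearMap.smulRight_apply, hℓ]

variable {V₁ V₂ : Type*} [AddCommGroup V₁] [Module k V₁] [FiniteDimensional k V₁]
  [AddCommGroup V₂] [Module k V₂] [FiniteDimensional k V₂]

/-- Two simple modules without nonzero equivariant maps from the first to the second are
separated by an element of the group algebra. -/
theorem exists_separating {ρ₁ : Representation k G V₁} {ρ₂ : Representation k G V₂}
    (h₁ : Simple ρ₁) (h₂ : Simple ρ₂)
    (hno : ∀ β : V₁ →ₗ[k] V₂, Equivar ρ₁ ρ₂ β → β = 0) :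
    ∃ c : MonoidAlgebra k G, ρ₁.asAlgebraHom c = 0 ∧ ρ₂.asAlgebraHom c = 1 := by
  by_contra hcon
  push Not at hcon
  have stepA : ∀ c, ρ₁.asAlgebraHom c = 0 → ρ₂.asAlgebraHom c = 0 := by
    intro c hc
    by_contra hA
    obtain ⟨L, R, hLR⟩ := exists_sum_eq_one hA
    choose l hl using fun i => burnside h₂ (L i)
    choose r hr using fun i => burnside h₂ (R i)
    apply hcon (∑ i, l i * c * r i)
    · rw [map_sum]
      apply Finset.sum_eq_zero
      intro i _
      rw [map_mul, map_mul, hc, mul_zero, zero_mul]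
    · rw [map_sum]
      simp_rw [map_mul, hl, hr]
      exact hLR
  haveI := h₁.1
  haveI := h₂.1
  obtain ⟨v₀, hv₀⟩ := exists_ne (0 : V₁)
  obtain ⟨ℓ, hℓ⟩ := exists_dual_eq_one (k := k) hv₀
  obtain ⟨e, he⟩ := burnside h₁ (ℓ.smulRight v₀)
  have hE : ∀ x, ρ₁.asAlgebraHom e x = ℓ x • v₀ := fun x => by rw [he]; rfl
  have he2 : ρ₂.asAlgebraHom e ≠ 0 := by
    intro h0
    have hE0 : ρ₁.asAlgebraHom e ≠ 0 := by
      intro h
      have := LinearMap.congr_fun h v₀
      rw [hE, hℓ, one_smul] at this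
      exact hv₀ this
    obtain ⟨L, R, hLR⟩ := exists_sum_eq_one hE0
    choose l hl using fun i => burnside h₁ (L i)
    choose r hr using fun i => burnside h₁ (R i)
    have h1 : ρ₁.asAlgebraHom (1 - ∑ i, l i * e * r i) = 0 := by
      rw [map_sub, map_one, map_sum]
      simp_rw [map_mul, hl, hr]
      rw [hLR, sub_self]
    have h2 := stepA _ h1
    rw [map_sub, map_one, map_sum] at h2
    have h3 : ∑ i, ρ₂.asAlgebraHom (l i * e * r i) = 0 := by
      apply Finset.sum_eq_zero
      intro i _
      rw [map_mul, map_mul, h0, mul_zero, zero_mul]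
    rw [h3, sub_zero] at h2
    obtain ⟨w, hw⟩ := exists_ne (0 : V₂)
    have := LinearMap.congr_fun h2 w
    exact hw this
  obtain ⟨w₀, hw₀⟩ : ∃ w₀, ρ₂.asAlgebraHom e w₀ ≠ 0 := by
    by_contra h
    push Not at h
    exact he2 (LinearMap.ext h)
  have key : ∀ d, ρ₁.asAlgebraHom d v₀ = 0 →
      ρ₂.asAlgebraHom d (ρ₂.asAlgebraHom e w₀) = 0 := by
    intro d hd
    have h1 : ρ₁.asAlgebraHom (d * e) = 0 := by
      ext x
      rw [map_mul, Module.End.mul_apply, hE, map_smul, hd, smul_zero]
      rfl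
    have h2 := stepA _ h1
    rw [map_mul] at h2
    exact LinearMap.congr_fun h2 w₀
  obtain ⟨s, hs⟩ := LinearMap.exists_rightInverse_of_surjective (evalMap ρ₁ v₀)
    (LinearMap.range_eq_top.mpr (evalMap_surjective h₁ hv₀))
  have hs' : ∀ x, ρ₁.asAlgebraHom (s x) v₀ = x := fun x => LinearMap.congr_fun hs x
  have hΨ0 := hno (evalMap ρ₂ (ρ₂.asAlgebraHom e w₀) ∘ₗ s) (by
    rw [equivar_iff]
    intro g x
    rw [LinearMap.comp_apply, LinearMap.comp_apply, evalMap_apply, evalMap_apply]
    have h1 := key (s (ρ₁ g x) - MonoidAlgebra.single g 1 * s x) (by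
      rw [map_sub, map_mul, LinearMap.sub_apply, Module.End.mul_apply, hs', hs',
        Representation.asAlgebraHom_single_one, sub_self])
    rw [map_sub, map_mul, LinearMap.sub_apply, Module.End.mul_apply,
      Representation.asAlgebraHom_single_one, sub_eq_zero] at h1
    exact h1)
  apply hw₀
  have h1 := key (s v₀ - e) (by
    rw [map_sub, LinearMap.sub_apply, hs', hE, hℓ, one_smul, sub_self])
  rw [map_sub, LinearMap.sub_apply, sub_eq_zero] at h1
  have h2 : ρ₁.asAlgebraHom (e * e - e) = 0 := by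
    ext x
    rw [map_sub, map_mul, LinearMap.sub_apply, Module.End.mul_apply, hE x, map_smul, hE v₀,
      hℓ, one_smul, sub_self]
    rfl
  have h3 := stepA _ h2
  rw [map_sub, map_mul, sub_eq_zero] at h3
  have h4 := LinearMap.congr_fun h3 w₀
  rw [Module.End.mul_apply] at h4
  have h5 := LinearMap.congr_fun hΨ0 v₀
  rw [LinearMap.comp_apply, evalMap_apply, h1, h4] at h5
  exact h5

/-- Frobenius–Schur: the trace functions of simple modules without nonzero equivariant maps
between distinct members are linearly independent. -/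
theorem frobenius_schur {ι : Type*} (d : ι → ℕ) (ρ : ∀ i, Representation k G (Fin (d i) → k))
    (hs : ∀ i, Simple (ρ i))
    (hno : ∀ i j, i ≠ j → ∀ β : (Fin (d i) → k) →ₗ[k] (Fin (d j) → k),
      Equivar (ρ i) (ρ j) β → β = 0) :
    LinearIndependent k (fun i => (fun g => LinearMap.trace k _ (ρ i g) : G → k)) := by
  rw [linearIndependent_iff']
  intro s a ha j hj
  have h1 : ∀ s' : Finset ι, j ∉ s' → ∃ c : MonoidAlgebra k G,
      (ρ j).asAlgebraHom c = 1 ∧ ∀ i ∈ s', (ρ i).asAlgebraHom c = 0 := by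
    intro s'
    induction s' using Finset.induction_on with
    | empty =>
      intro _
      exact ⟨1, map_one _, by simp⟩
    | insert i s' hi ih =>
      intro hj'
      rw [Finset.mem_insert, not_or] at hj'
      obtain ⟨c, hc1, hc2⟩ := ih hj'.2
      obtain ⟨c', hc'1, hc'2⟩ := exists_separating (hs i) (hs j) (hno i j (Ne.symm hj'.1))
      refine ⟨c * c', by rw [map_mul, hc1, hc'2, mul_one], ?_⟩
      intro i' hi'
      rw [Finset.mem_insert] at hi'
      rcases hi' with rfl | hi'
      · rw [map_mul, hc'1, mul_zero]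
      · rw [map_mul, hc2 i' hi', zero_mul]
  obtain ⟨c, hc1, hc2⟩ := h1 (s.erase j) (Finset.notMem_erase j s)
  have hdj : 0 < d j := by
    by_contra h
    have h0 : d j = 0 := by omega
    haveI := (hs j).1
    obtain ⟨w, hw⟩ := exists_ne (0 : Fin (d j) → k)
    apply hw
    funext i
    exact absurd i.2 (by omega)
  obtain ⟨e, he⟩ := burnside (hs j)
    (Matrix.toLin' (Matrix.diagonal (Pi.single (⟨0, hdj⟩ : Fin (d j)) (1 : k))))
  have h2 : ∀ x : MonoidAlgebra k G,
      ∑ i ∈ s, a i * LinearMap.trace k _ ((ρ i).asAlgebraHom x) = 0 := by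
    intro x
    induction x using MonoidAlgebra.induction_on with
    | of g =>
      have := congrFun ha g
      simp only [Finset.sum_apply, Pi.smul_apply, smul_eq_mul, Pi.zero_apply] at this
      simp_rw [Representation.asAlgebraHom_of]
      exact this
    | add x y hx hy =>
      simp_rw [map_add, mul_add]
      rw [Finset.sum_add_distrib, hx, hy, add_zero]
    | smul r x hx =>
      simp_rw [map_smul, smul_eq_mul, mul_left_comm _ r]
      rw [← Finset.mul_sum, hx, mul_zero]
  have h3 := h2 (c * e)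
  rw [← Finset.add_sum_erase s _ hj] at h3
  have h4 : ∑ i ∈ s.erase j, a i * LinearMap.trace k _ ((ρ i).asAlgebraHom (c * e)) = 0 := by
    apply Finset.sum_eq_zero
    intro i hi
    rw [map_mul, hc2 i hi, zero_mul, map_zero, mul_zero]
  rw [h4, add_zero, map_mul, hc1, one_mul, he, Matrix.trace_toLin'_eq, Matrix.trace_diagonal]
    at h3
  simpa using h3

end FrobSchur

section Count

variable {G : Type*} [Group G]

/-- Every element of finite order is the product of commuting `p`-regular and `p`-power-order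
parts. -/
theorem exists_reg_mul [Finite G] (p : ℕ) (hp : p.Prime) (g : G) :
    ∃ s u : G, g = s * u ∧ Commute s u ∧ ¬ p ∣ orderOf s ∧ ∃ a : ℕ, u ^ (p ^ a) = 1 := by
  have hpos : 0 < orderOf g := orderOf_pos g
  obtain ⟨a, m, hm, hn⟩ := Nat.exists_eq_pow_mul_and_not_dvd hpos.ne' p hp.ne_one
  have hcop : Nat.Coprime (p ^ a) m :=
    Nat.Coprime.pow_left a ((Nat.Prime.coprime_iff_not_dvd hp).mpr hm)
  have h1 : ((p ^ a : ℕ) : ℤ) * Nat.gcdA (p ^ a) m + (m : ℤ) * Nat.gcdB (p ^ a) m = 1 := by
    rw [← Nat.gcd_eq_gcd_ab, hcop]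
    rfl
  refine ⟨g ^ (((p ^ a : ℕ) : ℤ) * Nat.gcdA (p ^ a) m), g ^ ((m : ℤ) * Nat.gcdB (p ^ a) m),
    ?_, ?_, ?_, a, ?_⟩
  · rw [← zpow_add, h1, zpow_one]
  · exact (Commute.refl g).zpow_zpow _ _
  · intro hdvd
    apply hm
    have e : ((p ^ a : ℕ) : ℤ) * Nat.gcdA (p ^ a) m * (m : ℤ) =
        ((orderOf g : ℕ) : ℤ) * Nat.gcdA (p ^ a) m := by
      rw [hn]; push_cast; ring
    have : (g ^ (((p ^ a : ℕ) : ℤ) * Nat.gcdA (p ^ a) m)) ^ m = 1 := by
      rw [← zpow_natCast, ← zpow_mul, e, zpow_mul, zpow_natCast, pow_orderOf_eq_one, one_zpow]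
    exact dvd_trans hdvd (orderOf_dvd_of_pow_eq_one this)
  · have e : (m : ℤ) * Nat.gcdB (p ^ a) m * ((p ^ a : ℕ) : ℤ) =
        ((orderOf g : ℕ) : ℤ) * Nat.gcdB (p ^ a) m := by
      rw [hn]; push_cast; ring
    rw [← zpow_natCast, ← zpow_mul, e, zpow_mul, zpow_natCast, pow_orderOf_eq_one, one_zpow]

variable {k : Type*} [Field k]

theorem trace_mul_punipotent (p : ℕ) [Fact p.Prime] [CharP k p] {V : Type*} [AddCommGroup V]
    [Module k V] [FiniteDimensional k V] (ρ : Representation k G V) (s u : G)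
    (hc : Commute s u) (a : ℕ) (hu : u ^ (p ^ a) = 1) :
    LinearMap.trace k V (ρ (s * u)) = LinearMap.trace k V (ρ s) := by
  have h1 : ρ (s * u) = ρ s + ρ s * (ρ u - 1) := by
    rw [map_mul, mul_sub, mul_one]; abel
  have hnil : IsNilpotent (ρ s * (ρ u - 1)) := by
    have hcomm : Commute (ρ s) (ρ u - 1) := (hc.map ρ).sub_right (Commute.one_right _)
    refine ⟨p ^ a, ?_⟩
    rw [hcomm.mul_pow]
    have : (ρ u - 1) ^ (p ^ a) = 0 := by
      have h : ((Polynomial.X - 1 : Polynomial k)) ^ (p ^ a) = Polynomial.X ^ (p ^ a) - 1 := by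
        rw [sub_pow_char_pow, one_pow]
      have h2 := congrArg (Polynomial.aeval (ρ u)) h
      simp only [map_pow, map_sub, Polynomial.aeval_X, map_one] at h2
      rw [h2, ← map_pow, hu, map_one, sub_self]
    rw [this, mul_zero]
  rw [h1, map_add, (LinearMap.isNilpotent_trace_of_isNilpotent hnil).eq_zero, add_zero]

/-- A family of modules in characteristic `p` with linearly independent trace functions has
at most as many members as there are `p`-regular classes. -/
theorem card_le_regClasses [Fintype G] (p : ℕ) [Fact p.Prime] [CharP k p] {ι : Type*}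
    [Fintype ι] {V : ι → Type*} [∀ i, AddCommGroup (V i)] [∀ i, Module k (V i)]
    [∀ i, FiniteDimensional k (V i)] (ρ : ∀ i, Representation k G (V i))
    (hli : LinearIndependent k (fun i => (fun g => LinearMap.trace k _ (ρ i g) : G → k))) :
    Fintype.card ι ≤ Nat.card {c : ConjClasses G // ¬ p ∣ orderOf (Quotient.out c)} := by
  have hp : p.Prime := Fact.out
  let W : Submodule k (G → k) :=
    { carrier := {f | (∀ g h, f (h * g * h⁻¹) = f g) ∧
        ∀ s u : G, Commute s u → (∃ a : ℕ, u ^ (p ^ a) = 1) → f (s * u) = f s}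
      add_mem' := by
        rintro f f' ⟨h1, h2⟩ ⟨h1', h2'⟩
        refine ⟨fun g h => ?_, fun s u hc hu => ?_⟩
        · simp [h1 g h, h1' g h]
        · simp [h2 s u hc hu, h2' s u hc hu]
      zero_mem' := ⟨fun _ _ => rfl, fun _ _ _ _ => rfl⟩
      smul_mem' := by
        rintro c f ⟨h1, h2⟩
        refine ⟨fun g h => ?_, fun s u hc hu => ?_⟩
        · simp [h1 g h]
        · simp [h2 s u hc hu] }
  let Φ : (G → k) →ₗ[k] ({c : ConjClasses G // ¬ p ∣ orderOf (Quotient.out c)} → k) :=
    { toFun := fun f c => f (Quotient.out c.1)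
      map_add' := fun _ _ => rfl
      map_smul' := fun _ _ => rfl }
  have hW : ∀ i, (fun g => LinearMap.trace k _ (ρ i g)) ∈ W := by
    intro i
    refine ⟨fun g h => ?_, fun s u hc hu => ?_⟩
    · beta_reduce
      rw [map_mul (ρ i), LinearMap.trace_mul_comm, ← map_mul (ρ i), inv_mul_cancel_left]
    · obtain ⟨a, ha⟩ := hu
      exact trace_mul_punipotent p (ρ i) s u hc a ha
  have hdisj : Disjoint (Submodule.span k
      (Set.range fun i => (fun g => LinearMap.trace k _ (ρ i g) : G → k))) (LinearMap.ker Φ) := by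
    rw [Submodule.disjoint_def]
    intro f hf hker
    have hfW : f ∈ W := (Submodule.span_le.mpr (by rintro _ ⟨i, rfl⟩; exact hW i)) hf
    funext g
    obtain ⟨s, u, hg, hc, hs, hu⟩ := exists_reg_mul p hp g
    rw [hg, hfW.2 s u hc hu]
    have hout : IsConj s (Quotient.out (ConjClasses.mk s)) := by
      rw [← ConjClasses.mk_eq_mk_iff_isConj]
      exact (Quotient.out_eq _).symm
    obtain ⟨h, hh⟩ := isConj_iff.mp hout
    have hord : orderOf (Quotient.out (ConjClasses.mk s)) = orderOf s := by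
      rw [← hh]
      exact (MulAut.conj h).orderOf_eq s
    have h0 := congrFun (LinearMap.mem_ker.mp hker) ⟨ConjClasses.mk s, by rw [hord]; exact hs⟩
    change f (Quotient.out (ConjClasses.mk s)) = 0 at h0
    rw [← hh, hfW.1] at h0
    exact h0
  have hli' := hli.map hdisj
  have h1 := hli'.fintype_card_le_finrank
  rw [Module.finrank_fintype_fun_eq_card] at h1
  rw [Nat.card_eq_fintype_card]
  exact h1

end Count

end Cfsg.Agent.H82.Md
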