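import Mathlib

/-!
# Brauer theory for Sylow subgroups of prime order, part P (helper82)

Group theory of a Sylow `p`-subgroup of order `p` and its normalizer.
-/

set_option autoImplicit false
set_option linter.unusedSectionVars false

namespace Cfsg.Agent.H82.Md

section SylP

variable {G : Type*} [Group G]

theorem conj_pow_inv (g u : G) (i : ℕ) : (g⁻¹ * u * g) ^ i = g⁻¹ * u ^ i * g := by
  induction i with
  | zero => simp
  | succ i ih => rw [pow_succ, ih, pow_succ]; group

variable [Finite G] {p : ℕ} [Fact p.Prime] (P : Sylow p G)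

theorem sylp_pow_eq_one (hP : Nat.card P = p) {u : G} (hu : u ∈ (P : Subgroup G)) :
    u ^ p = 1 := by
  have h1 : (⟨u, hu⟩ : ↥(P : Subgroup G)) ^ Nat.card ↥(P : Subgroup G) = 1 := pow_card_eq_one'
  have h2 := congrArg Subtype.val h1
  rw [Subgroup.coe_pow, Subgroup.coe_one] at h2
  have h3 : Nat.card ↥(P : Subgroup G) = p := hP
  rw [h3] at h2
  exact h2

theorem sylp_gen_of_ne_one (hP : Nat.card P = p) {u : G} (hu : u ∈ (P : Subgroup G))
    (hu1 : u ≠ 1) : ∀ v ∈ (P : Subgroup G), ∃ i : ℕ, v = u ^ i := by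
  intro v hv
  have htop := zpowers_eq_top_of_prime_card hP (g := (⟨u, hu⟩ : ↥(P : Subgroup G)))
    (fun h => hu1 (congrArg Subtype.val h))
  have h1 : (⟨v, hv⟩ : ↥(P : Subgroup G)) ∈
      Subgroup.zpowers (⟨u, hu⟩ : ↥(P : Subgroup G)) := by
    rw [htop]; trivial
  rw [← mem_powers_iff_mem_zpowers] at h1
  obtain ⟨i, hi⟩ := h1
  refine ⟨i, ?_⟩
  have := congrArg Subtype.val hi
  simpa using this.symm

theorem sylp_exists_gen (hP : Nat.card P = p) :
    ∃ x₀ : G, x₀ ∈ (P : Subgroup G) ∧ x₀ ≠ 1 ∧ x₀ ^ p = 1 ∧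
      ∀ u ∈ (P : Subgroup G), ∃ i : ℕ, u = x₀ ^ i := by
  have hp : p.Prime := Fact.out
  haveI : Nontrivial ↥(P : Subgroup G) := by
    rw [← Finite.one_lt_card_iff_nontrivial, hP]
    exact hp.one_lt
  obtain ⟨x, hx⟩ := exists_ne (1 : ↥(P : Subgroup G))
  have hx1 : (x : G) ≠ 1 := fun h => hx (Subtype.ext h)
  exact ⟨x, x.2, hx1, sylp_pow_eq_one P hP x.2, sylp_gen_of_ne_one P hP x.2 hx1⟩

/-- The Sylow subgroup contains all `p`-elements of its normalizer. -/
theorem sylp_mem_of_pow (y : G) (hy : y ∈ Subgroup.normalizer ((P : Subgroup G) : Set G))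
    (a : ℕ) (hya : y ^ (p ^ a) = 1) : y ∈ (P : Subgroup G) := by
  have h1 : IsPGroup p (Subgroup.zpowers y) := by
    rintro ⟨z, hz⟩
    obtain ⟨i, rfl⟩ := Subgroup.mem_zpowers_iff.mp hz
    refine ⟨a, ?_⟩
    apply Subtype.ext
    simp only [Subgroup.coe_pow, Subgroup.coe_one]
    rw [← zpow_natCast, ← zpow_mul, mul_comm, zpow_mul, zpow_natCast, hya, one_zpow]
  have h2 : Subgroup.zpowers y ≤ Subgroup.normalizer ((P : Subgroup G) : Set G) := by
    rw [Subgroup.zpowers_le]
    exact hy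
  have h3 := IsPGroup.to_sup_of_normal_right' h1 P.2 h2
  have h4 := P.is_maximal' h3 le_sup_right
  have : y ∈ Subgroup.zpowers y ⊔ (P : Subgroup G) :=
    Subgroup.mem_sup_left (Subgroup.mem_zpowers y)
  rw [h4] at this
  exact this

/-- The trivial-intersection property of a Sylow subgroup of prime order. -/
theorem sylp_ti (hP : Nat.card P = p) (g : G)
    (hg : g ∉ Subgroup.normalizer ((P : Subgroup G) : Set G)) (u : G)
    (hu : u ∈ (P : Subgroup G))
    (h : g⁻¹ * u * g ∈ Subgroup.normalizer ((P : Subgroup G) : Set G)) : u = 1 := by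
  by_contra hu1
  apply hg
  have hy : g⁻¹ * u * g ∈ (P : Subgroup G) := by
    apply sylp_mem_of_pow P _ h 1
    rw [pow_one, conj_pow_inv, sylp_pow_eq_one P hP hu]
    group
  have hy1 : g⁻¹ * u * g ≠ 1 := by
    intro h1
    apply hu1
    have : u = g * (g⁻¹ * u * g) * g⁻¹ := by group
    rw [this, h1]
    group
  rw [Subgroup.mem_normalizer_iff'']
  intro v
  constructor
  · intro hv
    obtain ⟨i, rfl⟩ := sylp_gen_of_ne_one P hP hu hu1 v hv
    rw [← conj_pow_inv]
    exact Subgroup.pow_mem _ hy i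
  · intro hv
    obtain ⟨i, hi⟩ := sylp_gen_of_ne_one P hP hy hy1 _ hv
    rw [conj_pow_inv] at hi
    have : v = u ^ i := by
      have h1 : v = g * (g⁻¹ * v * g) * g⁻¹ := by group
      rw [h1, hi]
      group
    rw [this]
    exact Subgroup.pow_mem _ hu i

theorem sylp_card (hP : Nat.card P = p) : Nat.card G = p * (P : Subgroup G).index := by
  have h1 := (P : Subgroup G).card_mul_index
  have h3 : Nat.card ↥(P : Subgroup G) = p := hP
  rw [h3] at h1
  exact h1.symm

theorem sylp_not_dvd_index (hP : Nat.card P = p) : ¬ p ∣ (P : Subgroup G).index := by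
  have hp : p.Prime := Fact.out
  have := P.card_coprime_index
  rw [hP] at this
  exact (Nat.Prime.coprime_iff_not_dvd hp).mp this

theorem sylp_not_dvd_relIndex (hP : Nat.card P = p) :
    ¬ p ∣ ((P : Subgroup G).subgroupOf
      (Subgroup.normalizer ((P : Subgroup G) : Set G))).index := by
  intro h
  apply sylp_not_dvd_index P hP
  have h1 := Subgroup.relIndex_mul_index (Subgroup.le_normalizer (H := (P : Subgroup G)))
  rw [← h1]
  exact Dvd.dvd.mul_right h _

end SylP

end Cfsg.Agent.H82.Md
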