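import Mathlib
import Cfsg.Agent.H82.MdB
import Cfsg.Agent.H82.MdF
import Cfsg.Agent.H82.MdG
import Cfsg.Agent.H82.MdP
import Cfsg.Agent.H82.Rep

/-!
# Brauer theory for Sylow subgroups of prime order, part H (helper82)

The modular half of the counting argument: for a group with a Sylow `p`-subgroup `P` of order
`p`, the number of irreducible characters of degree divisible by `p` plus the number of
irreducible characters of `N_G(P)/P` is at most the number of `p`-regular classes.
-/

set_option autoImplicit false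
set_option linter.unusedSectionVars false

namespace Cfsg.Agent.H82.Md

open Classical Cfsg

universe u

section Transfer

variable {k : Type*} [Field k] {G : Type*} [Group G]
variable {V W : Type*} [AddCommGroup V] [Module k V] [AddCommGroup W] [Module k W]

theorem equivar_conjRep (ρ : Representation k G V) (e : V ≃ₗ[k] W) :
    Equivar ρ (Cfsg.Agent.H82.conjRep ρ e) e.toLinearMap := by
  rw [equivar_iff]
  intro g v
  simp [Cfsg.Agent.H82.conjRep_apply]

theorem simple_of_equiv {ρ : Representation k G V} {σ : Representation k G W} (e : V ≃ₗ[k] W)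
    (he : Equivar ρ σ e.toLinearMap) (hρ : Simple ρ) : Simple σ := by
  refine ⟨?_, fun U hU => ?_⟩
  · haveI := hρ.1
    exact e.symm.toEquiv.nontrivial
  · rcases hρ.2 _ (inv_comap he hU) with h | h
    · left
      rw [eq_bot_iff]
      intro w hw
      have h1 : e.symm w ∈ U.comap e.toLinearMap := by
        rw [Submodule.mem_comap]
        simpa using hw
      rw [h] at h1
      have h2 := (Submodule.mem_bot k).mp h1
      rw [Submodule.mem_bot]
      simpa using congrArg e h2
    · right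
      rw [eq_top_iff]
      intro w _
      have h1 : e.symm w ∈ U.comap e.toLinearMap := by rw [h]; trivial
      rw [Submodule.mem_comap] at h1
      simpa using h1

theorem equivar_res {ρ : Representation k G V} {σ : Representation k G W} {f : V →ₗ[k] W}
    (h : Equivar ρ σ f) (N : Subgroup G) : Equivar (resRep ρ N) (resRep σ N) f := by
  rw [equivar_iff]
  intro n v
  exact h.apply n v

theorem proj_id_of_equiv [Fintype G] {ρ : Representation k G V} {σ : Representation k G W}
    (e : V ≃ₗ[k] W) (he : Equivar ρ σ e.toLinearMap) (h : Proj ρ ρ LinearMap.id) :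
    Proj σ σ LinearMap.id := by
  have h1 := Proj.comp_left he h
  have h2 := Proj.comp_right (Equivar.symm e he) h1
  convert h2 using 1
  ext w
  simp

end Transfer

section FinModel

variable {k : Type} [Field k] {G : Type*} [Group G] [Fintype G]

theorem exists_fin_simple_nonproj {M : Type u} [AddCommGroup M] [Module k M]
    [FiniteDimensional k M] (ρ : Representation k G M) (h : ¬ Proj ρ ρ LinearMap.id) :
    ∃ (d : ℕ) (σ : Representation k G (Fin d → k)) (φ : M →ₗ[k] (Fin d → k)),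
      Simple σ ∧ Equivar ρ σ φ ∧ ¬ Proj ρ σ φ ∧ ¬ Proj σ σ LinearMap.id := by
  obtain ⟨S, i1, i2, i3, σ', φ', h1, h2, h3, h4⟩ := exists_simple_nonproj ρ h
  refine ⟨Module.finrank k S, Cfsg.Agent.H82.conjRep σ' (Module.finBasis k S).equivFun,
    (Module.finBasis k S).equivFun.toLinearMap ∘ₗ φ',
    simple_of_equiv _ (equivar_conjRep σ' _) h1, (equivar_conjRep σ' _).comp h2, ?_, ?_⟩
  · intro hp
    apply h3
    have := Proj.comp_left (Equivar.symm _ (equivar_conjRep σ' (Module.finBasis k S).equivFun)) hp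
    convert this using 1
    ext v
    simp
  · intro hp
    apply h4
    exact proj_id_of_equiv (Module.finBasis k S).equivFun.symm
      (Equivar.symm _ (equivar_conjRep σ' (Module.finBasis k S).equivFun)) hp

end FinModel

section Main

variable {G : Type u} [Group G] [Fintype G] {p : ℕ} [Fact p.Prime] (P : Sylow p G)
variable (B : ValuationSubring ℂ)

theorem exists_nu_data (hv : B.valuation (p : ℂ) < 1) (hP : Nat.card P = p)
    (N : Subgroup G) (hPN : (P : Subgroup G) ≤ N) [((P : Subgroup G).subgroupOf N).Normal]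
    (hidx : ¬ p ∣ ((P : Subgroup G).subgroupOf N).index)
    (ν : IrrCharacter (↥N ⧸ (P : Subgroup G).subgroupOf N)) :
    ∃ (n : ℕ) (τ : Representation (Res B) (↥N ⧸ (P : Subgroup G).subgroupOf N)
        (Fin n → Res B)) (d : ℕ) (σ : Representation (Res B) G (Fin d → Res B))
      (ψ : (Fin n → Res B) →ₗ[Res B] (Fin d → Res B)),
      Simple τ ∧ (∑ q, sepCoef B ν q • τ q = LinearMap.id) ∧
      (∀ ν' : IrrCharacter (↥N ⧸ (P : Subgroup G).subgroupOf N), ν' ≠ ν →
        ∑ q, sepCoef B ν' q • τ q = 0) ∧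
      Simple σ ∧ ¬ Proj σ σ LinearMap.id ∧
      Equivar (τ.comp (QuotientGroup.mk' ((P : Subgroup G).subgroupOf N))) (resRep σ N) ψ ∧
      (∀ (d' : ℕ) (σ' : Representation (Res B) G (Fin d' → Res B))
        (β : (Fin d → Res B) →ₗ[Res B] (Fin d' → Res B)), Simple σ' → Equivar σ σ' β → β ≠ 0 →
        ¬ Proj (τ.comp (QuotientGroup.mk' ((P : Subgroup G).subgroupOf N))) (resRep σ' N)
          (β ∘ₗ ψ)) := by
  have hp : p.Prime := Fact.out
  have hgood : ∀ ν' : IrrCharacter (↥N ⧸ (P : Subgroup G).subgroupOf N), Good B ν' := by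
    intro ν'
    unfold Good
    rw [Cfsg.Agent.H82.irr_one_eq_charDegree, div_eq_mul_inv]
    have h1 : Nat.card (↥N ⧸ (P : Subgroup G).subgroupOf N) =
        ((P : Subgroup G).subgroupOf N).index := rfl
    rw [h1]
    exact B.mul_mem _ _ (natCast_mem B _) (inv_natCast_mem B hp hv hidx)
  obtain ⟨n, τ, hs, -, hsep1, hsep2⟩ := exists_reduction B ν (hgood ν)
  have hτs : Simple (τ.comp (QuotientGroup.mk' ((P : Subgroup G).subgroupOf N))) := by
    refine ⟨hs.1, fun U hU => hs.2 U (fun q x hx => ?_)⟩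
    obtain ⟨n', rfl⟩ := QuotientGroup.mk'_surjective ((P : Subgroup G).subgroupOf N) q
    exact hU n' x hx
  have htriv : ∀ n' : ↥N, (n' : G) ∈ (P : Subgroup G) →
      (τ.comp (QuotientGroup.mk' ((P : Subgroup G).subgroupOf N))) n' = LinearMap.id := by
    intro n' hn'
    have h1 : QuotientGroup.mk' ((P : Subgroup G).subgroupOf N) n' = 1 :=
      (QuotientGroup.eq_one_iff n').mpr (Subgroup.mem_subgroupOf.mpr hn')
    change τ (QuotientGroup.mk' ((P : Subgroup G).subgroupOf N) n') = _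
    rw [h1, map_one]
    rfl
  haveI := hs.1
  have hP0 : (Fintype.card ↥(P : Subgroup G) : Res B) = 0 := by
    have h3 : Nat.card ↥(P : Subgroup G) = p := hP
    rw [← Nat.card_eq_fintype_card, h3]
    exact red_natCast_prime B hv
  have hnp := ind_not_proj N (τ.comp (QuotientGroup.mk' ((P : Subgroup G).subgroupOf N)))
    (P : Subgroup G) hPN htriv hP0
  obtain ⟨d, σ, φ, hσ, hφ, hφnp, hσnp⟩ := exists_fin_simple_nonproj _ hnp
  refine ⟨n, τ, d, σ, φ ∘ₗ indIota N _, hs, hsep1, fun ν' hν' => hsep2 ν' (hgood ν') hν', hσ,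
    hσnp, (equivar_res hφ N).comp (equivar_indIota N _), ?_⟩
  intro d' σ' β hσ' hβ hβ0 hproj
  apply hφnp
  have h1 : Proj (indRep N _) σ' (β ∘ₗ φ) :=
    proj_of_proj_iota N _ σ' (β ∘ₗ φ) (hβ.comp hφ) (by rwa [LinearMap.comp_assoc])
  obtain ⟨e, he⟩ := simple_iso hσ hσ' hβ hβ0
  have hβe : Equivar σ σ' e.toLinearMap := by rw [he]; exact hβ
  have h2 := Proj.comp_left (Equivar.symm e hβe) h1
  convert h2 using 1
  ext v
  simp [← he]

theorem comp_sum_smul {k : Type*} [Field k] {Γ : Type*} [Group Γ] [Fintype Γ]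
    {V W : Type*} [AddCommGroup V] [Module k V] [AddCommGroup W] [Module k W]
    {ρ : Representation k Γ V} {σ : Representation k Γ W} {β : V →ₗ[k] W}
    (hβ : Equivar ρ σ β) (c : Γ → k) :
    β ∘ₗ (∑ g, c g • ρ g) = (∑ g, c g • σ g) ∘ₗ β := by
  ext v
  simp only [LinearMap.comp_apply, LinearMap.sum_apply, LinearMap.smul_apply, map_sum, map_smul,
    hβ.apply]

theorem simple_comp_mk {k : Type*} [Field k] {Γ : Type*} [Group Γ] (Q : Subgroup Γ) [Q.Normal]
    {V : Type*} [AddCommGroup V] [Module k V] {τ : Representation k (Γ ⧸ Q) V}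
    (hs : Simple τ) : Simple (τ.comp (QuotientGroup.mk' Q)) := by
  refine ⟨hs.1, fun U hU => hs.2 U (fun q x hx => ?_)⟩
  obtain ⟨n', rfl⟩ := QuotientGroup.mk'_surjective Q q
  exact hU n' x hx

theorem mod_half_aux (hv : B.valuation (p : ℂ) < 1) (hP : Nat.card P = p)
    (N : Subgroup G) (hPN : (P : Subgroup G) ≤ N) [((P : Subgroup G).subgroupOf N).Normal]
    (hTI : ∀ g : G, g ∉ N → ∀ u ∈ (P : Subgroup G), g⁻¹ * u * g ∈ N → u = 1)
    (hidx : ¬ p ∣ ((P : Subgroup G).subgroupOf N).index) :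
    Nat.card {χ : IrrCharacter G // p ∣ charDegree χ.1} +
      Nat.card (IrrCharacter (↥N ⧸ (P : Subgroup G).subgroupOf N)) ≤
    Nat.card {c : ConjClasses G // ¬ p ∣ orderOf (Quotient.out c)} := by
  have hp : p.Prime := Fact.out
  haveI := res_isAlgClosed B
  haveI := res_charP B hp hv
  have hgoodχ : ∀ χ : {χ : IrrCharacter G // p ∣ charDegree χ.1}, Good B χ.1 := by
    rintro ⟨χ, a, ha⟩
    unfold Good
    rw [Cfsg.Agent.H82.irr_one_eq_charDegree, ha, sylp_card P hP]
    push_cast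
    rw [mul_div_mul_left _ _ (by exact_mod_cast hp.ne_zero : (p : ℂ) ≠ 0), div_eq_mul_inv]
    exact B.mul_mem _ _ (natCast_mem B _) (inv_natCast_mem B hp hv (sylp_not_dvd_index P hP))
  choose nχ σχ hχ1 hχ2 hχ3 hχ4 using
    fun χ : {χ : IrrCharacter G // p ∣ charDegree χ.1} => exists_reduction B χ.1 (hgoodχ χ)
  choose nν τν dν σν ψν hν1 hν2 hν3 hν4 hν5 hν6 hν7 using
    fun ν => exists_nu_data P B hv hP N hPN hidx ν
  obtain ⟨x₀, hx₀, hx₀1, hx₀p, hgen⟩ := sylp_exists_gen P hP
  have hS : PSetup (Res B) ((P : Subgroup G).subgroupOf N) (⟨x₀, hPN hx₀⟩ : ↥N) p :=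
    { normal := inferInstance
      mem := Subgroup.mem_subgroupOf.mpr hx₀
      gen := by
        intro u hu
        obtain ⟨i, hi⟩ := hgen (u : G) (Subgroup.mem_subgroupOf.mp hu)
        refine ⟨i, Subtype.ext ?_⟩
        rw [hi]
        rfl
      pow := Subtype.ext (by simpa using hx₀p)
      prime := hp
      char := inferInstance
      index := by
        intro h
        exact hidx ((CharP.cast_eq_zero_iff (Res B) p _).mp h) }
  have htrivν : ∀ ν, ∀ u ∈ (P : Subgroup G).subgroupOf N,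
      ((τν ν).comp (QuotientGroup.mk' ((P : Subgroup G).subgroupOf N))) u = LinearMap.id := by
    intro ν u hu
    have h1 : QuotientGroup.mk' ((P : Subgroup G).subgroupOf N) u = 1 :=
      (QuotientGroup.eq_one_iff u).mpr hu
    change τν ν (QuotientGroup.mk' ((P : Subgroup G).subgroupOf N) u) = _
    rw [h1, map_one]
    rfl
  haveI : Finite (IrrCharacter G) := Cfsg.Agent.H4.finite_irr G
  haveI : Finite (IrrCharacter (↥N ⧸ (P : Subgroup G).subgroupOf N)) :=
    Cfsg.Agent.H4.finite_irr _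
  haveI : Fintype ({χ : IrrCharacter G // p ∣ charDegree χ.1} ⊕
      IrrCharacter (↥N ⧸ (P : Subgroup G).subgroupOf N)) := Fintype.ofFinite _
  have hAA : ∀ χ χ' : {χ : IrrCharacter G // p ∣ charDegree χ.1}, χ.1 ≠ χ'.1 →
      ∀ β : (Fin (nχ χ) → Res B) →ₗ[Res B] (Fin (nχ χ') → Res B),
      Equivar (σχ χ) (σχ χ') β → β = 0 := by
    intro χ χ' hne' β hβ
    have h1 : β = β ∘ₗ (∑ g, sepCoef B χ.1 g • σχ χ g) := by
      rw [hχ3 χ, LinearMap.comp_id]
    rw [h1, comp_sum_smul hβ, hχ4 χ' χ.1 (hgoodχ χ) hne', LinearMap.zero_comp]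
  have hAB : ∀ (χ : {χ : IrrCharacter G // p ∣ charDegree χ.1})
      (ν' : IrrCharacter (↥N ⧸ (P : Subgroup G).subgroupOf N))
      (β : (Fin (nχ χ) → Res B) →ₗ[Res B] (Fin (dν ν') → Res B)),
      Equivar (σχ χ) (σν ν') β → β = 0 := by
    intro χ ν' β hβ
    by_contra hβ0
    obtain ⟨e, he⟩ := simple_iso (hχ1 χ) (hν4 ν') hβ hβ0
    exact hν5 ν' (proj_id_of_equiv e (he ▸ hβ) (hχ2 χ))
  have hBA : ∀ (ν : IrrCharacter (↥N ⧸ (P : Subgroup G).subgroupOf N))
      (χ' : {χ : IrrCharacter G // p ∣ charDegree χ.1})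
      (β : (Fin (dν ν) → Res B) →ₗ[Res B] (Fin (nχ χ') → Res B)),
      Equivar (σν ν) (σχ χ') β → β = 0 := by
    intro ν χ' β hβ
    by_contra hβ0
    obtain ⟨e, he⟩ := simple_iso (hν4 ν) (hχ1 χ') hβ hβ0
    exact hν5 ν (proj_id_of_equiv e.symm (Equivar.symm e (he ▸ hβ)) (hχ2 χ'))
  have hBB : ∀ ν ν' : IrrCharacter (↥N ⧸ (P : Subgroup G).subgroupOf N), ν ≠ ν' →
      ∀ β : (Fin (dν ν) → Res B) →ₗ[Res B] (Fin (dν ν') → Res B),
      Equivar (σν ν) (σν ν') β → β = 0 := by
    intro ν ν' hne' β hβ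
    by_contra hβ0
    have hE : ∀ θ : (Fin (dν ν') → Res B) →ₗ[Res B] (Fin (dν ν') → Res B),
        Equivar (resRep (σν ν') N) (resRep (σν ν') N) θ →
        ∃ (c : Res B) (f : (Fin (dν ν') → Res B) →ₗ[Res B] (Fin (dν ν') → Res B)),
          θ = c • LinearMap.id + ∑ u : ↥((P : Subgroup G).subgroupOf N),
            (resRep (σν ν') N) (u : ↥N) ∘ₗ f ∘ₗ (resRep (σν ν') N) (u : ↥N)⁻¹ := by
      intro θ hθ
      obtain ⟨c, f, hcf⟩ := endo_decomp (hν4 ν') N (P : Subgroup G) hPN hTI θ hθ
      refine ⟨c, f, ?_⟩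
      rw [hcf]
      congr 1
      exact (Fintype.sum_equiv (Subgroup.subgroupOfEquivOfLe hPN).toEquiv _ _
        (fun u => rfl)).symm
    have hnp₂ : ¬ Proj ((τν ν').comp (QuotientGroup.mk' ((P : Subgroup G).subgroupOf N)))
        (resRep (σν ν') N) (ψν ν') := by
      haveI := (hν4 ν').1
      have := hν7 ν' _ (σν ν') LinearMap.id (hν4 ν') (Equivar.id _)
        (by
          intro h0
          obtain ⟨w, hw⟩ := exists_ne (0 : Fin (dν ν') → Res B)
          exact hw (LinearMap.congr_fun h0 w))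
      rwa [LinearMap.id_comp] at this
    obtain ⟨β', hβ'0, hβ'⟩ := lemma_U hS (resRep (σν ν') N) hE
      ((τν ν').comp (QuotientGroup.mk' ((P : Subgroup G).subgroupOf N)))
      ((τν ν).comp (QuotientGroup.mk' ((P : Subgroup G).subgroupOf N)))
      (simple_comp_mk _ (hν1 ν')) (htrivν ν') (htrivν ν)
      (ψν ν') (hν6 ν') hnp₂
      (β ∘ₗ ψν ν) ((equivar_res hβ N).comp (hν6 ν)) (hν7 ν _ (σν ν') β (hν4 ν') hβ hβ0)
    apply hβ'0
    have hβ'q : Equivar (τν ν) (τν ν') β' := by
      rw [equivar_iff]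
      intro q v
      obtain ⟨n', rfl⟩ := QuotientGroup.mk'_surjective ((P : Subgroup G).subgroupOf N) q
      exact hβ'.apply n' v
    have h1 : β' = β' ∘ₗ (∑ q, sepCoef B ν q • τν ν q) := by
      rw [hν2 ν, LinearMap.comp_id]
    rw [h1, comp_sum_smul hβ'q, hν3 ν' ν hne', LinearMap.zero_comp]
  have hli := frobenius_schur (k := Res B) (G := G)
    (ι := {χ : IrrCharacter G // p ∣ charDegree χ.1} ⊕
      IrrCharacter (↥N ⧸ (P : Subgroup G).subgroupOf N))
    (Sum.elim nχ dν)
    (fun i => Sum.rec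
      (motive := fun i => Representation (Res B) G (Fin (Sum.elim nχ dν i) → Res B))
      (fun χ => σχ χ) (fun ν => σν ν) i)
    (by
      rintro (χ | ν)
      · exact hχ1 χ
      · exact hν4 ν)
    (by
      rintro (χ | ν) (χ' | ν') hne β hβ
      · exact hAA χ χ' (fun h => hne (by rw [Subtype.ext h])) β hβ
      · exact hAB χ ν' β hβ
      · exact hBA ν χ' β hβ
      · exact hBB ν ν' (fun h => hne (by rw [h])) β hβ)
  have hcount := card_le_regClasses p _ hli
  rw [← Nat.card_eq_fintype_card, Nat.card_sum] at hcount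
  exact hcount

end Main

/-- The modular half of the counting argument for a Sylow `p`-subgroup of order `p`. -/
theorem mod_half {G : Type u} [Group G] [Finite G] (p : ℕ) [Fact p.Prime] (P : Sylow p G)
    (hP : Nat.card P = p) :
    Nat.card {χ : IrrCharacter G // p ∣ charDegree χ.1} +
      Nat.card (IrrCharacter (↥(Subgroup.normalizer ((P : Subgroup G) : Set G)) ⧸
        (P : Subgroup G).subgroupOf (Subgroup.normalizer ((P : Subgroup G) : Set G)))) ≤
    Nat.card {c : ConjClasses G // ¬ p ∣ orderOf (Quotient.out c)} := by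
  haveI := Fintype.ofFinite G
  obtain ⟨B, hv⟩ := Cfsg.Agent.H4.exists_valuation p Fact.out
  exact mod_half_aux P B hv hP _ Subgroup.le_normalizer
    (fun g hg u hu h => sylp_ti P hP g hg u hu h) (sylp_not_dvd_relIndex P hP)

end Cfsg.Agent.H82.Md
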