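import Cfsg.Agent.H82.P1D

/-!
# Sylow subgroups of prime order, part E: the character count (helper82)

In a local setup with `N / C` cyclic, the number of irreducible characters of `G` of degree
not divisible by `|P|` is at most the number of irreducible characters of `N`.
-/

set_option autoImplicit false
set_option linter.style.haveILetI false
set_option linter.unusedSectionVars false

namespace Cfsg.Agent.H82.P1

open Cfsg Cfsg.Agent.H4 Cfsg.Agent.H82 Cfsg.Agent.H82.BL Cfsg.Agent.Clifford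
open scoped ComplexConjugate
open Classical

universe u

/-- Sum of the values at `x` of all the characters of a finite abelian group. -/
theorem sum_hom_apply {A : Type*} [Group A] [Finite A] (hA : ∀ a b : A, a * b = b * a)
    [Fintype (A →* ℂˣ)] (x : A) :
    ∑ μ : A →* ℂˣ, ((μ x : ℂˣ) : ℂ) = if x = 1 then (Fintype.card (A →* ℂˣ) : ℂ) else 0 := by
  by_cases hx : x = 1
  · rw [if_pos hx, hx]
    simp
  · rw [if_neg hx]
    letI : CommGroup A := { (inferInstance : Group A) with mul_comm := hA }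
    obtain ⟨μ₀, hμ₀⟩ := CommGroup.exists_apply_ne_one_of_hasEnoughRootsOfUnity A ℂ hx
    have h1 : ∑ μ : A →* ℂˣ, ((μ x : ℂˣ) : ℂ) =
        ((μ₀ x : ℂˣ) : ℂ) * ∑ μ : A →* ℂˣ, ((μ x : ℂˣ) : ℂ) := by
      conv_lhs => rw [← Equiv.sum_comp (Equiv.mulLeft μ₀) (fun μ : A →* ℂˣ => ((μ x : ℂˣ) : ℂ))]
      rw [Finset.mul_sum]
      refine Finset.sum_congr rfl fun μ _ => ?_
      rw [Equiv.coe_mulLeft, MonoidHom.mul_apply, Units.val_mul]
    have h2 : (1 - ((μ₀ x : ℂˣ) : ℂ)) * ∑ μ : A →* ℂˣ, ((μ x : ℂˣ) : ℂ) = 0 := by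
      rw [sub_mul, one_mul, ← h1, sub_self]
    rcases mul_eq_zero.mp h2 with h | h
    · exfalso
      apply hμ₀
      apply Units.ext
      rw [Units.val_one]
      exact (sub_eq_zero.mp h).symm
    · exact h

variable {G : Type u} [Group G] [Fintype G] {p : ℕ} {N C P : Subgroup G} [Fintype N] [Fintype C]
  (S : Setup p N C P)
  [Fintype (IrrCharacter G)] [Fintype (IrrCharacter N)] [Fintype (IrrCharacter C)]
  [Fintype (P.subgroupOf C)] [Fintype (P.subgroupOf C →* ℂˣ)]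

/-- The irreducible characters of `G` met by some `Gam μ ϑ`. -/
noncomputable def setX (ϑ : Irr0 S) : Finset (IrrCharacter G) :=
  Finset.univ.filter fun χ =>
    ∃ μ : {μ : P.subgroupOf C →* ℂˣ // μ ≠ 1}, classInner (Gam S μ.1 ϑ.1.1) χ.1 ≠ 0

/-- The irreducible characters `(tw μ ϑ)^N` of `N`, `μ ≠ 1`. -/
noncomputable def setB (ϑ : Irr0 S) : Finset (IrrCharacter N) :=
  Finset.univ.image (fun μ : {μ : P.subgroupOf C →* ℂˣ // μ ≠ 1} => LamN S μ ϑ)

theorem card_setX_le (ϑ : Irr0 S) (e : ℕ) (he : classInner ϑ.1.1 (trN S ϑ.1.1) = e) :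
    (setX S ϑ).card ≤ e + (setB S ϑ).card := by
  have hint : ∀ (μ : {μ : P.subgroupOf C →* ℂˣ // μ ≠ 1}) (χ : IrrCharacter G),
      ∃ z : ℤ, classInner (Gam S μ.1 ϑ.1.1) χ.1 = z := fun μ χ => inner_Gam_int S μ.1 ϑ.1 χ
  choose v hv using hint
  have hG : ∀ μ μ' : {μ : P.subgroupOf C →* ℂˣ // μ ≠ 1},
      ∑ χ : IrrCharacter G, v μ χ * v μ' χ =
        (e : ℤ) + if LamN S μ ϑ = LamN S μ' ϑ then 1 else 0 := by
    intro μ μ'
    have h1 := gram_Gam S μ μ' ϑ
    rw [he, classInner_eq_sum_irr (A := Gam S μ.1 ϑ.1.1) (indFun_isClassFunction C _),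
      finsum_eq_sum_of_fintype] at h1
    have h2 : ∀ χ : IrrCharacter G, classInner (Gam S μ.1 ϑ.1.1) χ.1 *
        classInner χ.1 (Gam S μ'.1 ϑ.1.1) = ((v μ χ * v μ' χ : ℤ) : ℂ) := by
      intro χ
      rw [← classInner_conj_symm χ.1 (Gam S μ'.1 ϑ.1.1), hv, hv]
      simp
    simp only [h2] at h1
    have h3 : ((∑ χ : IrrCharacter G, v μ χ * v μ' χ : ℤ) : ℂ) =
        (((e : ℤ) + if LamN S μ ϑ = LamN S μ' ϑ then 1 else 0 : ℤ) : ℂ) := by
      rw [Int.cast_sum, h1]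
      push_cast
      split_ifs <;> simp
    exact_mod_cast h3
  have h := lattice_bound v (fun μ => LamN S μ ϑ) e hG
  have e1 : (Finset.univ.filter fun χ : IrrCharacter G => ∃ μ, v μ χ ≠ 0) = setX S ϑ := by
    simp only [setX]
    apply Finset.filter_congr
    intro χ _
    constructor
    · rintro ⟨μ, hμ⟩
      refine ⟨μ, ?_⟩
      rw [hv]
      exact_mod_cast hμ
    · rintro ⟨μ, hμ⟩
      refine ⟨μ, ?_⟩
      rw [hv] at hμ
      exact_mod_cast hμ
  rw [e1] at h
  have e2 : setB S ϑ = Finset.univ.image (fun μ => LamN S μ ϑ) := rfl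
  rw [e2]
  exact h

/-- The indicator function of `P` on `C`. -/
noncomputable def indD (_S : Setup p N C P) : C → ℂ :=
  fun c => if c ∈ P.subgroupOf C then 1 else 0

theorem isCen_indD : IsCen (indD S) (1 : P.subgroupOf C →* ℂˣ) := by
  intro x c
  simp only [indD, MonoidHom.one_apply, Units.val_one, one_mul]
  rw [Subgroup.mul_mem_cancel_left _ x.2]

theorem isClassFunction_indD : IsClassFunction C (indD S) := by
  haveI := normal_sub S
  intro c h
  simp only [indD]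
  by_cases hc : c ∈ P.subgroupOf C
  · rw [if_pos hc, if_pos ((normal_sub S).conj_mem c hc h)]
  · rw [if_neg hc, if_neg]
    intro hc'
    apply hc
    have := (normal_sub S).conj_mem _ hc' h⁻¹
    simpa [mul_assoc] using this

/-- **Cover**: an irreducible character orthogonal to all `Gam μ ϑ` has degree divisible by
`|P|`. -/
theorem cover (χ : IrrCharacter G)
    (h : ∀ (ϑ : Irr0 S) (μ : {μ : P.subgroupOf C →* ℂˣ // μ ≠ 1}),
      classInner (Gam S μ.1 ϑ.1.1) χ.1 = 0) : Nat.card P ∣ charDegree χ.1 := by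
  set χC : C → ℂ := fun c : C => χ.1 c with hχC
  have hres : IsCharacter C χC := isCharacter_restrict C (isCharacter_of_isIrrCharacter χ.2)
  -- Step 1
  have hA : ∀ (ϑ : Irr0 S) (μ : P.subgroupOf C →* ℂˣ), classInner (Fm S μ ϑ.1.1) χC = 0 := by
    intro ϑ μ
    by_cases hμ : μ = 1
    · rw [hμ]
      simp only [Fm, tw_one, sub_self]
      exact classInner_zero_left _
    · have := h ϑ ⟨μ, hμ⟩
      rwa [inner_Gam S μ ϑ.1.1 (irr_isClassFunction χ)] at this
  -- Step 3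
  have hB : ∀ μ : P.subgroupOf C →* ℂˣ, classInner (Fm S μ (indD S)) χC = 0 := by
    intro μ
    have hexp := classFunction_eq_finsum (isClassFunction_indD S)
    rw [finsum_eq_sum_of_fintype] at hexp
    rw [hexp, Fm_sum, classInner_sum_left]
    refine Finset.sum_eq_zero fun β _ => ?_
    rw [Fm_smul, classInner_smul_left]
    by_cases hβ : IsCen β.1 (1 : P.subgroupOf C →* ℂˣ)
    · rw [hA ⟨β, hβ⟩ μ, mul_zero]
    · obtain ⟨ω, hω⟩ := exists_isCen S β
      have hne : (1 : P.subgroupOf C →* ℂˣ) ≠ ω := by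
        rintro rfl
        exact hβ hω
      rw [inner_cen_ne (isCen_indD S) hω hne, zero_mul]
  -- Step 4
  have hC : ∀ μ : P.subgroupOf C →* ℂˣ,
      ∑ x : P.subgroupOf C, (1 - ((μ (S.ρ (x : C)) : ℂˣ) : ℂ)) * conj (χC x) = 0 := by
    intro μ
    have h1 := hB μ
    unfold classInner at h1
    have hCne : (Nat.card C : ℂ)⁻¹ ≠ 0 := inv_ne_zero (cardC_ne_zero C)
    have h2 := (mul_eq_zero.mp h1).resolve_left hCne
    rw [sum_coe_eq (P.subgroupOf C) (fun c : C => (1 - ((μ (S.ρ c) : ℂˣ) : ℂ)) * conj (χC c))]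
    refine Eq.trans ?_ h2
    refine Finset.sum_congr rfl fun c _ => ?_
    rw [Fm_apply]
    simp only [indD]
    by_cases hc : c ∈ P.subgroupOf C
    · rw [if_pos hc, if_pos hc, mul_one]
    · rw [if_neg hc, if_neg hc, mul_zero, zero_mul]
  have hC' : ∀ μ : P.subgroupOf C →* ℂˣ,
      ∑ x : P.subgroupOf C, (1 - ((μ x : ℂˣ) : ℂ)) * conj (χC x) = 0 := by
    intro μ
    rw [← hC μ]
    refine Finset.sum_congr rfl fun x _ => ?_
    rw [S.hρ]
  -- Step 5
  have hcomm : ∀ a b : P.subgroupOf C, a * b = b * a := by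
    intro a b
    apply Subtype.ext
    apply Subtype.ext
    have := S.cent (a : G) (Subgroup.mem_subgroupOf.mp a.2) (b : G) (b : C).2
    simpa using this
  have hD : ∑ x : P.subgroupOf C, conj (χC x) = conj (χC 1) := by
    have h1 : ∑ μ : P.subgroupOf C →* ℂˣ,
        ∑ x : P.subgroupOf C, (1 - ((μ x : ℂˣ) : ℂ)) * conj (χC x) = 0 :=
      Finset.sum_eq_zero fun μ _ => hC' μ
    rw [Finset.sum_comm] at h1
    have h2 : ∀ x : P.subgroupOf C,
        ∑ μ : P.subgroupOf C →* ℂˣ, (1 - ((μ x : ℂˣ) : ℂ)) * conj (χC x) =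
          ((Fintype.card (P.subgroupOf C →* ℂˣ) : ℂ) -
            if x = 1 then (Fintype.card (P.subgroupOf C →* ℂˣ) : ℂ) else 0) * conj (χC x) := by
      intro x
      rw [← Finset.sum_mul, Finset.sum_sub_distrib, sum_hom_apply hcomm x]
      simp
    have h1' : ∑ x : P.subgroupOf C, ((Fintype.card (P.subgroupOf C →* ℂˣ) : ℂ) -
        if x = 1 then (Fintype.card (P.subgroupOf C →* ℂˣ) : ℂ) else 0) * conj (χC x) = 0 := by
      refine Eq.trans ?_ h1
      exact Finset.sum_congr rfl fun x _ => (h2 x).symm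
    have h1'' : ∑ x : P.subgroupOf C, ((Fintype.card (P.subgroupOf C →* ℂˣ) : ℂ) -
        if x = 1 then (Fintype.card (P.subgroupOf C →* ℂˣ) : ℂ) else 0) * conj (χC x) =
        (Fintype.card (P.subgroupOf C →* ℂˣ) : ℂ) * ∑ x : P.subgroupOf C, conj (χC x) -
          (Fintype.card (P.subgroupOf C →* ℂˣ) : ℂ) * conj (χC ((1 : P.subgroupOf C) : C)) := by
      simp only [sub_mul, Finset.sum_sub_distrib, ← Finset.mul_sum, ite_mul, zero_mul]
      rw [Finset.sum_ite_eq' Finset.univ (1 : P.subgroupOf C)]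
      simp
    rw [h1''] at h1'
    replace h1 := h1'
    have hne : (Fintype.card (P.subgroupOf C →* ℂˣ) : ℂ) ≠ 0 := by
      have : 0 < Fintype.card (P.subgroupOf C →* ℂˣ) := Fintype.card_pos
      exact_mod_cast this.ne'
    have h3 : (Fintype.card (P.subgroupOf C →* ℂˣ) : ℂ) *
        (∑ x : P.subgroupOf C, conj (χC x) - conj (χC ((1 : P.subgroupOf C) : C))) = 0 := by
      rw [mul_sub]
      exact h1
    have h4 := (mul_eq_zero.mp h3).resolve_left hne
    rw [sub_eq_zero] at h4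
    rw [h4]
    rfl
  -- Step 6
  haveI := normal_sub S
  have hresD : IsCharacter (P.subgroupOf C) (fun x : P.subgroupOf C => χC x) :=
    isCharacter_restrict (P.subgroupOf C) hres
  obtain ⟨a, ha⟩ := classInner_isCharacter_nat
    (isCharacter_of_isIrrCharacter (Cfsg.Agent.H82.isIrrCharacter_one (P.subgroupOf C))) hresD
  unfold classInner at ha
  simp only [Pi.one_apply, one_mul] at ha
  rw [hD] at ha
  have hDne : (Nat.card (P.subgroupOf C) : ℂ) ≠ 0 := by
    have : 0 < Nat.card (P.subgroupOf C) := Nat.card_pos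
    exact_mod_cast this.ne'
  have h5 : conj (χC 1) = (Nat.card (P.subgroupOf C) : ℂ) * a := by
    rw [← ha, ← mul_assoc, mul_inv_cancel₀ hDne, one_mul]
  have h6 : χC 1 = (charDegree χ.1 : ℂ) := irr_one_eq_charDegree χ
  rw [h6, Complex.conj_natCast] at h5
  have hcard : Nat.card (P.subgroupOf C) = Nat.card P :=
    Nat.card_congr (Subgroup.subgroupOfEquivOfLe S.hPC).toEquiv
  rw [hcard] at h5
  refine ⟨a, ?_⟩
  exact_mod_cast h5

/-- `N`-conjugacy on the characters of `C` trivial on `P`. -/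
def relN (ϑ ϑ' : Irr0 S) : Prop := ∃ n : N, ϑ'.1.1 = fun c => ϑ.1.1 (cj S n c)

theorem relN_refl (ϑ : Irr0 S) : relN S ϑ ϑ :=
  ⟨1, (comp_cj_of_mem S (irr_isClassFunction ϑ.1) 1 (by simp)).symm⟩

theorem relN_symm {ϑ ϑ' : Irr0 S} (h : relN S ϑ ϑ') : relN S ϑ' ϑ := by
  obtain ⟨n, hn⟩ := h
  refine ⟨n⁻¹, ?_⟩
  funext c
  rw [hn]
  simp only
  rw [← cj_mul, mul_inv_cancel]
  exact (congrFun (comp_cj_of_mem S (irr_isClassFunction ϑ.1) 1 (by simp)) c).symm

theorem relN_trans {ϑ ϑ' ϑ'' : Irr0 S} (h : relN S ϑ ϑ') (h' : relN S ϑ' ϑ'') :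
    relN S ϑ ϑ'' := by
  obtain ⟨n, hn⟩ := h
  obtain ⟨m, hm⟩ := h'
  refine ⟨n * m, ?_⟩
  funext c
  rw [hm, hn]
  simp only
  rw [cj_mul]

/-- The setoid of `N`-conjugacy. -/
def setoidN : Setoid (Irr0 S) where
  r := relN S
  iseqv := ⟨relN_refl S, relN_symm S, relN_trans S⟩

theorem setX_subset {ϑ ϑ' : Irr0 S} (h : relN S ϑ ϑ') : setX S ϑ ⊆ setX S ϑ' := by
  obtain ⟨n, hn⟩ := h
  intro χ hχ
  simp only [setX, Finset.mem_filter, Finset.mem_univ, true_and] at hχ ⊢
  obtain ⟨μ, hμ⟩ := hχ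
  refine ⟨⟨μ.1.comp (cjP S n), comp_cjP_ne_one S μ.2 n⟩, ?_⟩
  rw [inner_Gam S _ _ (irr_isClassFunction χ)] at hμ ⊢
  rw [hn, ← Fm_comp_cj, classInner_inv_left S (A := fun c : C => χ.1 c)
    (ninv_res S (irr_isClassFunction χ))]
  exact hμ

theorem setA_inter_setB (ϑ : Irr0 S) : Disjoint (setA S ϑ.1) (setB S ϑ) := by
  rw [Finset.disjoint_left]
  intro ξ hA hB
  rw [mem_setA] at hA
  simp only [setB, Finset.mem_image, Finset.mem_univ, true_and] at hB
  obtain ⟨μ, rfl⟩ := hB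
  apply hA
  rw [LamN_val, resC_indN, ← classInner_conj_symm, inner_one_trN_tw S μ.1 μ.2 ϑ ϑ, map_zero]

theorem over_of_mem (ϑ : Irr0 S) (ξ : IrrCharacter N) (h : ξ ∈ setA S ϑ.1 ∪ setB S ϑ) :
    ∃ μ : P.subgroupOf C →* ℂˣ, classInner (resC S ξ.1) (tw S μ ϑ.1.1) ≠ 0 := by
  rcases Finset.mem_union.mp h with hA | hB
  · refine ⟨1, ?_⟩
    rw [tw_one]
    exact (mem_setA S ϑ.1 ξ).mp hA
  · simp only [setB, Finset.mem_image, Finset.mem_univ, true_and] at hB
    obtain ⟨μ, rfl⟩ := hB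
    refine ⟨μ.1, ?_⟩
    have h1 := inner_self_trN S (twI S μ.1 ϑ.1) (isCen_tw S μ.1 ϑ.2) μ.2
    rw [twI_val] at h1
    rw [LamN_val, resC_indN, ← classInner_conj_symm, h1]
    simp

theorem conj_of_common (ξ : IrrCharacter N) (β β' : IrrCharacter C)
    (h : classInner (resC S ξ.1) β.1 ≠ 0) (h' : classInner (resC S ξ.1) β'.1 ≠ 0) :
    ∃ n : N, (fun c => β'.1 (cj S n c)) = β.1 := by
  have hξ := irr_isClassFunction ξ
  have h1 : classInner (indN S β.1) ξ.1 ≠ 0 := by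
    rw [inner_indN S β.1 hξ, ← classInner_conj_symm]
    exact (map_ne_zero _).mpr h
  have h2 : classInner (indN S β'.1) ξ.1 ≠ 0 := by
    rw [inner_indN S β'.1 hξ, ← classInner_conj_symm]
    exact (map_ne_zero _).mpr h'
  have h3 := classInner_ne_zero_of_common
    (isCharacter_indN S (isCharacter_of_isIrrCharacter β.2))
    (isCharacter_indN S (isCharacter_of_isIrrCharacter β'.2)) ξ.2 h1 h2
  rw [inner_indN_indN, inner_irr_trN] at h3
  have h4 : (Finset.univ.filter fun n : N => (fun c => β'.1 (cj S n c)) = β.1).card ≠ 0 := by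
    intro h0
    apply h3
    rw [h0]
    simp
  obtain ⟨n, hn⟩ := Finset.card_pos.mp (Nat.pos_of_ne_zero h4)
  exact ⟨n, (Finset.mem_filter.mp hn).2⟩

theorem setY_disjoint {ϑ ϑ' : Irr0 S} (h : ¬ relN S ϑ ϑ') :
    Disjoint (setA S ϑ.1 ∪ setB S ϑ) (setA S ϑ'.1 ∪ setB S ϑ') := by
  rw [Finset.disjoint_left]
  intro ξ h1 h2
  apply h
  obtain ⟨μ, hμ⟩ := over_of_mem S ϑ ξ h1
  obtain ⟨μ', hμ'⟩ := over_of_mem S ϑ' ξ h2
  obtain ⟨n, hn⟩ := conj_of_common S ξ (twI S μ ϑ.1) (twI S μ' ϑ'.1) hμ hμ'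
  simp only [twI_val] at hn
  rw [tw_comp_cj] at hn
  have hc1 : IsCen (fun c => ϑ'.1.1 (cj S n c)) (1 : P.subgroupOf C →* ℂˣ) := by
    have := ϑ'.2.comp_cj S n
    rwa [MonoidHom.one_comp] at this
  have hc2 := isCen_tw S (μ'.comp (cjP S n)) hc1
  rw [hn] at hc2
  have hμeq : μ'.comp (cjP S n) = μ :=
    IsCen.eq_of hc2 (isCen_tw S μ ϑ.2) (irr_one_ne_zero (twI S μ ϑ.1))
  rw [hμeq] at hn
  apply relN_symm
  refine ⟨n, ?_⟩
  funext c
  have h3 := congrFun hn c
  simp only [tw] at h3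
  exact (mul_left_cancel₀ (Units.ne_zero _) h3).symm

/-- **The character count**: at most `|Irr(N)|` irreducible characters of `G` have degree
prime to `|P|`. -/
theorem card_pprime_le (hcyc : haveI := normal_CN S; IsCyclic (N ⧸ C.subgroupOf N)) :
    (Finset.univ.filter fun χ : IrrCharacter G => ¬ Nat.card P ∣ charDegree χ.1).card ≤
      Fintype.card (IrrCharacter N) := by
  have hle : ∀ ϑ : Irr0 S, (setX S ϑ).card ≤ (setA S ϑ.1 ∪ setB S ϑ).card := by
    intro ϑ
    rw [Finset.card_union_of_disjoint (setA_inter_setB S ϑ)]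
    exact card_setX_le S ϑ _ (card_setA S hcyc ϑ.1)
  have h1 := card_biUnion_le_of_setoid (setoidN S) (setX S)
    (fun ϑ => setA S ϑ.1 ∪ setB S ϑ)
    (fun ϑ ϑ' hr => Finset.Subset.antisymm (setX_subset S hr) (setX_subset S (relN_symm S hr)))
    (fun ϑ ϑ' hr => setY_disjoint S hr) hle
  have h2 : (Finset.univ.filter fun χ : IrrCharacter G => ¬ Nat.card P ∣ charDegree χ.1) ⊆
      Finset.univ.biUnion (setX S) := by
    intro χ hχ
    rw [Finset.mem_filter] at hχ
    by_contra hcon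
    apply hχ.2
    apply cover S χ
    intro ϑ μ
    by_contra hne
    apply hcon
    rw [Finset.mem_biUnion]
    refine ⟨ϑ, Finset.mem_univ _, ?_⟩
    simp only [setX, Finset.mem_filter, Finset.mem_univ, true_and]
    exact ⟨μ, hne⟩
  calc (Finset.univ.filter fun χ : IrrCharacter G => ¬ Nat.card P ∣ charDegree χ.1).card
      ≤ (Finset.univ.biUnion (setX S)).card := Finset.card_le_card h2
    _ ≤ (Finset.univ.biUnion fun ϑ => setA S ϑ.1 ∪ setB S ϑ).card := h1
    _ ≤ Fintype.card (IrrCharacter N) := Finset.card_le_univ _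

end Cfsg.Agent.H82.P1
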