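import Cfsg.Agent.H82.BL12
import Cfsg.Agent.H82.MdP
import Cfsg.Agent.H82.P1E

/-!
# Sylow subgroups of prime order, part G: group theory (helper82)

For a Sylow `p`-subgroup `P` of order `p`: the local setup, `N_G(P) / C_G(P)` is cyclic, and
the comparison of the conjugacy classes of `N_G(P)` with those of `N_G(P) / P` (`p`-regular
classes) and of `G` (`p`-singular classes).
-/

set_option autoImplicit false
set_option linter.style.haveILetI false
set_option linter.unusedSectionVars false

namespace Cfsg.Agent.H82.P1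

open Cfsg Cfsg.Agent.H82 Cfsg.Agent.H82.BL Cfsg.Agent.H82.Md

universe u

section General

variable {H : Type u} [Group H]

theorem orderOf_out_mk (a : H) : orderOf (Quotient.out (ConjClasses.mk a)) = orderOf a := by
  have h1 : ConjClasses.mk (Quotient.out (ConjClasses.mk a)) = ConjClasses.mk a :=
    Quotient.out_eq _
  rw [ConjClasses.mk_eq_mk_iff_isConj, isConj_iff] at h1
  obtain ⟨c, hc⟩ := h1
  calc orderOf (Quotient.out (ConjClasses.mk a))
      = orderOf (c * Quotient.out (ConjClasses.mk a) * c⁻¹) := (orderOf_conj_left c _).symm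
    _ = orderOf a := by rw [hc]

theorem card_split {α : Type*} [Finite α] (q : α → Prop) :
    Nat.card α = Nat.card {x // q x} + Nat.card {x // ¬ q x} := by
  classical
  haveI := Fintype.ofFinite α
  rw [Nat.card_eq_fintype_card, Nat.card_eq_fintype_card, Nat.card_eq_fintype_card,
    Fintype.card_subtype_compl]
  have := Fintype.card_subtype_le q
  omega

theorem card_classes_split [Finite H] (p : ℕ) :
    Nat.card (ConjClasses H) =
      Nat.card {c : ConjClasses H // ¬ p ∣ orderOf (Quotient.out c)} +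
        Nat.card {c : ConjClasses H // p ∣ orderOf (Quotient.out c)} := by
  rw [card_split (fun c : ConjClasses H => p ∣ orderOf (Quotient.out c)), add_comm]

theorem card_irr_split [Finite H] (p : ℕ) :
    Nat.card (IrrCharacter H) =
      Nat.card {χ : IrrCharacter H // p ∣ charDegree χ.1} +
        Nat.card {χ : IrrCharacter H // ¬ p ∣ charDegree χ.1} := by
  haveI : Finite (IrrCharacter H) := Cfsg.Agent.H4.finite_irr H
  exact card_split (fun χ : IrrCharacter H => p ∣ charDegree χ.1)

end General

variable {G : Type u} [Group G] [Finite G] {p : ℕ} [Fact p.Prime] (P : Sylow p G)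

theorem card_sylow_eq (hdiv : p ∣ Nat.card G) (hsq : ¬ p ^ 2 ∣ Nat.card G) :
    Nat.card P = p := by
  have hp : p.Prime := Fact.out
  have h1 := P.card_eq_multiplicity
  have hG : Nat.card G ≠ 0 := Nat.card_pos.ne'
  have h2 : 1 ≤ (Nat.card G).factorization p :=
    (hp.pow_dvd_iff_le_factorization hG).mp (by rwa [pow_one])
  have h3 : ¬ 2 ≤ (Nat.card G).factorization p := fun h =>
    hsq ((hp.pow_dvd_iff_le_factorization hG).mpr h)
  have h4 : (Nat.card G).factorization p = 1 := by omega
  rw [h4, pow_one] at h1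
  exact h1

theorem hstar_of_card (hP : Nat.card P = p) : ∀ x ∈ (P : Subgroup G), x ≠ 1 →
    Subgroup.centralizer ({x} : Set G) = Subgroup.centralizer ((P : Subgroup G) : Set G) := by
  intro x hx hx1
  apply le_antisymm
  · intro c hc
    rw [mem_cent_singleton] at hc
    rw [Subgroup.mem_centralizer_iff]
    intro v hv
    obtain ⟨i, rfl⟩ := sylp_gen_of_ne_one P hP hx hx1 v hv
    have : Commute (x ^ i) c := (show Commute x c from hc).pow_left i
    exact this
  · intro c hc
    rw [mem_cent_singleton]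
    exact Subgroup.mem_centralizer_iff.mp hc x hx

theorem exists_setup_of_card (hP : Nat.card P = p) :
    Nonempty (Setup p (NN P) (CC P) (P : Subgroup G)) := by
  have hp : p.Prime := Fact.out
  exact exists_setup P (hstar_of_card P hP)
    (exists_ne_one_of_card P (by rw [hP]; exact hp.one_lt))

theorem isCyclic_norm_mod_cent (hP : Nat.card P = p)
    (S : Setup p (NN P) (CC P) (P : Subgroup G)) :
    haveI := normal_CN S
    IsCyclic (↥(NN P) ⧸ (CC P).subgroupOf (NN P)) := by
  haveI := normal_CN S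
  haveI hcP : IsCyclic ↥(P : Subgroup G) := isCyclic_of_prime_card hP
  have hprime : (Nat.card ↥(P : Subgroup G)).Prime := by
    have h3 : Nat.card ↥(P : Subgroup G) = p := hP
    rw [h3]
    exact Fact.out
  haveI : IsCyclic (ZMod (Nat.card ↥(P : Subgroup G)))ˣ := ZMod.isCyclic_units_prime hprime
  haveI : IsCyclic (MulAut ↥(P : Subgroup G)) :=
    isCyclic_of_injective (IsCyclic.mulAutMulEquiv ↥(P : Subgroup G)).toMonoidHom
      (MulEquiv.injective _)
  have hker : (P : Subgroup G).normalizerMonoidHom.ker = (CC P).subgroupOf (NN P) :=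
    Subgroup.normalizerMonoidHom_ker (P : Subgroup G)
  let f : ↥(NN P) ⧸ (CC P).subgroupOf (NN P) →* MulAut ↥(P : Subgroup G) :=
    QuotientGroup.lift _ (P : Subgroup G).normalizerMonoidHom (by rw [← hker])
  have hf : Function.Injective f := by
    rw [injective_iff_map_eq_one]
    intro q
    induction q using QuotientGroup.induction_on with
    | H n =>
      intro h
      have h1 : f (QuotientGroup.mk n) = (P : Subgroup G).normalizerMonoidHom n := rfl
      rw [h1] at h
      have h2 : n ∈ (P : Subgroup G).normalizerMonoidHom.ker := MonoidHom.mem_ker.mpr h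
      rw [hker] at h2
      exact (QuotientGroup.eq_one_iff n).mpr h2
  exact isCyclic_of_injective f hf

/-- A `p`-singular element of the normalizer centralizes `P`. -/
theorem sing_mem_cent (hP : Nat.card P = p) (x : G) (hx : x ∈ NN P) (hpx : p ∣ orderOf x) :
    x ∈ CC P := by
  obtain ⟨k, hk1, hkp⟩ := exists_pow_order_p x hpx
  have huN : x ^ k ∈ NN P := Subgroup.pow_mem _ hx k
  have huP : x ^ k ∈ (P : Subgroup G) := mem_of_pel P (x ^ k) huN ⟨1, hkp⟩
  have h := hstar_of_card P hP (x ^ k) huP hk1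
  show x ∈ Subgroup.centralizer ((P : Subgroup G) : Set G)
  rw [← h, mem_cent_singleton]
  exact ((Commute.refl x).pow_left k).eq

/-- A `p`-regular element of the normalizer is conjugate under `P` to each of its `p`-regular
translates by `P`. -/
theorem conj_of_reg (hP : Nat.card P = p) (x w : G) (hx : x ∈ NN P)
    (hw : w ∈ (P : Subgroup G)) (hx1 : ¬ p ∣ orderOf x) (hxw : ¬ p ∣ orderOf (x * w)) :
    ∃ u ∈ (P : Subgroup G), u * x * u⁻¹ = x * w := by
  have hp : p.Prime := Fact.out
  by_cases hc : ∀ v ∈ (P : Subgroup G), x * v = v * x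
  · -- `x` centralizes `P`: then `w = 1`
    refine ⟨1, Subgroup.one_mem _, ?_⟩
    have hcomm : Commute x w := hc w hw
    have h1 : (x * w) ^ orderOf x = w ^ orderOf x := by
      rw [hcomm.mul_pow, pow_orderOf_eq_one, one_mul]
    have h2 : orderOf (w ^ orderOf x) ∣ orderOf (x * w) := by
      rw [← h1]
      exact orderOf_pow_dvd _
    have h3 : (w ^ orderOf x) ^ p = 1 := sylp_pow_eq_one P hP (Subgroup.pow_mem _ hw _)
    have h4 : orderOf (w ^ orderOf x) ∣ p := orderOf_dvd_of_pow_eq_one h3
    have h5 : orderOf (w ^ orderOf x) = 1 := by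
      rcases (Nat.dvd_prime hp).mp h4 with h | h
      · exact h
      · exfalso
        rw [h] at h2
        exact hxw h2
    have h6 : w ^ orderOf x = 1 := orderOf_eq_one_iff.mp h5
    have h7 : orderOf w ∣ orderOf x := orderOf_dvd_of_pow_eq_one h6
    have h8 : orderOf w ∣ p := orderOf_dvd_of_pow_eq_one (sylp_pow_eq_one P hP hw)
    have h9 : orderOf w = 1 := by
      rcases (Nat.dvd_prime hp).mp h8 with h | h
      · exact h
      · exfalso
        rw [h] at h7
        exact hx1 h7
    rw [orderOf_eq_one_iff.mp h9]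
    simp
  · push Not at hc
    obtain ⟨v, hv, hvx⟩ := hc
    have hxinv : x⁻¹ ∈ NN P := Subgroup.inv_mem _ hx
    have hmem : ∀ u : ↥(P : Subgroup G), x⁻¹ * (u : G) * x * (u : G)⁻¹ ∈ (P : Subgroup G) := by
      intro u
      have h1 : x⁻¹ * (u : G) * x⁻¹⁻¹ ∈ (P : Subgroup G) :=
        (Subgroup.mem_normalizer_iff.mp hxinv (u : G)).mp u.2
      rw [inv_inv] at h1
      exact Subgroup.mul_mem _ h1 (Subgroup.inv_mem _ u.2)
    let φ : ↥(P : Subgroup G) → ↥(P : Subgroup G) := fun u => ⟨x⁻¹ * (u : G) * x * (u : G)⁻¹, hmem u⟩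
    have hinj : Function.Injective φ := by
      intro u u' huu
      have h1 : x⁻¹ * (u : G) * x * (u : G)⁻¹ = x⁻¹ * (u' : G) * x * (u' : G)⁻¹ :=
        congrArg Subtype.val huu
      set t : G := (u' : G)⁻¹ * (u : G) with ht
      have htP : t ∈ (P : Subgroup G) := Subgroup.mul_mem _ (Subgroup.inv_mem _ u'.2) u.2
      have htx : t * x = x * t := by
        have h2 : (u : G) * x * (u : G)⁻¹ = (u' : G) * x * (u' : G)⁻¹ := by
          have := congrArg (fun z => x * z) h1
          simpa [mul_assoc] using this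
        have h3 : (u' : G)⁻¹ * ((u : G) * x * (u : G)⁻¹) * (u : G) =
            (u' : G)⁻¹ * ((u' : G) * x * (u' : G)⁻¹) * (u : G) := by rw [h2]
        rw [ht]
        calc (u' : G)⁻¹ * (u : G) * x = (u' : G)⁻¹ * ((u : G) * x * (u : G)⁻¹) * (u : G) := by
              group
          _ = (u' : G)⁻¹ * ((u' : G) * x * (u' : G)⁻¹) * (u : G) := h3
          _ = x * ((u' : G)⁻¹ * (u : G)) := by group
      by_contra hne
      have ht1 : t ≠ 1 := by
        intro h
        apply hne
        apply Subtype.ext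
        rw [ht] at h
        have := congrArg (fun z => (u' : G) * z) h
        simpa using this
      obtain ⟨i, hi⟩ := sylp_gen_of_ne_one P hP htP ht1 v hv
      apply hvx
      rw [hi]
      have : Commute x (t ^ i) := (show Commute x t from htx.symm).pow_right i
      exact this.eq
    have hsurj : Function.Surjective φ := Finite.injective_iff_surjective.mp hinj
    obtain ⟨u, hu⟩ := hsurj ⟨w, hw⟩
    refine ⟨u, u.2, ?_⟩
    have h1 : x⁻¹ * (u : G) * x * (u : G)⁻¹ = w := congrArg Subtype.val hu
    rw [← h1]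
    group

/-- The `p`-regular classes of the normalizer inject into the classes of `N / P`. -/
theorem card_reg_le (hP : Nat.card P = p) :
    Nat.card {c : ConjClasses ↥(NN P) // ¬ p ∣ orderOf (Quotient.out c)} ≤
      Nat.card (ConjClasses (↥(NN P) ⧸ (P : Subgroup G).subgroupOf (NN P))) := by
  apply Nat.card_le_card_of_injective
    (fun c : {c : ConjClasses ↥(NN P) // ¬ p ∣ orderOf (Quotient.out c)} =>
      ConjClasses.mk (QuotientGroup.mk (Quotient.out c.1) :
        ↥(NN P) ⧸ (P : Subgroup G).subgroupOf (NN P)))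
  rintro ⟨c, hc⟩ ⟨c', hc'⟩ h
  apply Subtype.ext
  simp only at h ⊢
  set x : ↥(NN P) := Quotient.out c with hx
  set y : ↥(NN P) := Quotient.out c' with hy
  rw [ConjClasses.mk_eq_mk_iff_isConj, isConj_iff] at h
  obtain ⟨q, hq⟩ := h
  obtain ⟨g, rfl⟩ := QuotientGroup.mk_surjective q
  have h1 : (QuotientGroup.mk (g * x * g⁻¹) : ↥(NN P) ⧸ (P : Subgroup G).subgroupOf (NN P)) =
      QuotientGroup.mk y := hq
  rw [QuotientGroup.eq] at h1
  set x' : ↥(NN P) := g * x * g⁻¹ with hx'
  set w : ↥(NN P) := x'⁻¹ * y with hw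
  have hwP : (w : G) ∈ (P : Subgroup G) := Subgroup.mem_subgroupOf.mp h1
  have hyw : y = x' * w := by rw [hw, mul_inv_cancel_left]
  have ho1 : ¬ p ∣ orderOf (x' : G) := by
    rw [Subgroup.orderOf_coe, hx', orderOf_conj_left]
    exact hc
  have ho2 : ¬ p ∣ orderOf ((x' : G) * (w : G)) := by
    have : ((x' : G) * (w : G)) = ((x' * w : ↥(NN P)) : G) := rfl
    rw [this, Subgroup.orderOf_coe, ← hyw]
    exact hc'
  obtain ⟨u, hu, huc⟩ := conj_of_reg P hP (x' : G) (w : G) x'.2 hwP ho1 ho2
  have huN : u ∈ NN P := Subgroup.le_normalizer hu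
  have hconj : IsConj x y := by
    rw [isConj_iff]
    refine ⟨⟨u, huN⟩ * g, ?_⟩
    apply Subtype.ext
    rw [hyw]
    have h2 : (((⟨u, huN⟩ * g : ↥(NN P)) * x * (⟨u, huN⟩ * g : ↥(NN P))⁻¹ : ↥(NN P)) : G) =
        u * (x' : G) * u⁻¹ := by
      rw [hx']
      push_cast
      group
    rw [h2, huc]
    rfl
  have h3 : ConjClasses.mk x = ConjClasses.mk y := ConjClasses.mk_eq_mk_iff_isConj.mpr hconj
  have h4 : ConjClasses.mk x = c := Quotient.out_eq c
  have h5 : ConjClasses.mk y = c' := Quotient.out_eq c'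
  rw [← h4, ← h5, h3]

/-- The `p`-singular classes of the normalizer inject into those of `G`. -/
theorem card_sing_le (hP : Nat.card P = p) :
    Nat.card {c : ConjClasses ↥(NN P) // p ∣ orderOf (Quotient.out c)} ≤
      Nat.card {c : ConjClasses G // p ∣ orderOf (Quotient.out c)} := by
  obtain ⟨S⟩ := exists_setup_of_card P hP
  apply Nat.card_le_card_of_injective
    (fun c : {c : ConjClasses ↥(NN P) // p ∣ orderOf (Quotient.out c)} =>
      (⟨ConjClasses.mk ((Quotient.out c.1 : ↥(NN P)) : G), by
        rw [orderOf_out_mk, Subgroup.orderOf_coe]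
        exact c.2⟩ : {c : ConjClasses G // p ∣ orderOf (Quotient.out c)}))
  rintro ⟨c, hc⟩ ⟨c', hc'⟩ h
  apply Subtype.ext
  have h0 := congrArg Subtype.val h
  simp only at h0 ⊢
  set x : ↥(NN P) := Quotient.out c with hx
  set y : ↥(NN P) := Quotient.out c' with hy
  rw [ConjClasses.mk_eq_mk_iff_isConj, isConj_iff] at h0
  obtain ⟨g, hg⟩ := h0
  have hxC : (x : G) ∈ CC P :=
    sing_mem_cent P hP (x : G) x.2 (by rw [Subgroup.orderOf_coe]; exact hc)
  have hyC : (y : G) ∈ CC P :=
    sing_mem_cent P hP (y : G) y.2 (by rw [Subgroup.orderOf_coe]; exact hc')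
  have hgN : g ∈ NN P :=
    S.ti g (x : G) hxC (by rw [Subgroup.orderOf_coe]; exact hc) (by rw [hg]; exact hyC)
  have hconj : IsConj x y := by
    rw [isConj_iff]
    exact ⟨⟨g, hgN⟩, Subtype.ext hg⟩
  have h3 : ConjClasses.mk x = ConjClasses.mk y := ConjClasses.mk_eq_mk_iff_isConj.mpr hconj
  have h4 : ConjClasses.mk x = c := Quotient.out_eq c
  have h5 : ConjClasses.mk y = c' := Quotient.out_eq c'
  rw [← h4, ← h5, h3]

end Cfsg.Agent.H82.P1
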