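import Mathlib
import Cfsg.Agent.H33.C2.Defs

/-!
# S2070 team project (helper33): piece C2-RHO (helper82)

The stabiliser `G2` of `b32` acts on the table of 4600 vectors (port of the C3 piece `C3-RHO`).
-/

set_option autoImplicit false
set_option maxRecDepth 100000

namespace Cfsg.Agent.H82.C2

open Cfsg Cfsg.Agent.H9 Cfsg.Agent.H93 Cfsg.Agent.H33 Cfsg.Agent.H33.C3 Cfsg.Agent.H33.C2

/-- The table of the 4600 minimal vectors of inner product `-16` with `(-3, 1^23)`. -/
theorem table_4600 : ∀ x ∈ Xdot (-16) ⟨vec LF4600A, LF4600A_mem⟩,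
    ∃ j < 4600, (x : GolayPt → ℤ) = vec (fldW 192 LF4600E j) := by
  have h := forest_trans LF4600A_mem LF4600W_mem LF4600_gens LF4600_sorted LF4600_forest
    (Xdot (-16) ⟨vec LF4600A, LF4600A_mem⟩)
    (finite_sub (fun w => dotInt (vec LF4600A) w = -16))
    (by rw [Xdot_ncard]; exact le_of_eq (cnt32_values LF4600A_mem_V).2.2)
    ⟨by show sqNorm (vec LF4600W) = 32
        rw [sqNorm_vec, LF4600W_sq]; rfl,
     by show dotInt (vec LF4600A) (vec LF4600W) = -16
        rw [dotInt_vec, LF4600_dot]; rfl⟩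
    (by
      intro g hg ea x hx
      have := Xdot_inv (-16) g hg _ x hx
      rw [ea] at this
      exact this)
  exact h.2.2

/-- the 4600 vectors -/
abbrev X4600 : Set leechLattice := Xdot (-16) b32

theorem X4600_finite : (X4600).Finite := finite_sub (fun w => dotInt (vec LF4600A) w = -16)

noncomputable instance fintypeX4600 : Fintype ↥X4600 := X4600_finite.fintype

theorem ncard_X4600 : (X4600).ncard = 4600 := by
  show (Xdot (-16) b32).ncard = 4600
  rw [Xdot_ncard]
  exact (cnt32_values LF4600A_mem_V).2.2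

theorem card_X4600 : Fintype.card ↥X4600 = 4600 := by
  rw [← Nat.card_eq_fintype_card, Nat.card_coe_set_eq]
  exact ncard_X4600

theorem table_X4600 : ∀ x ∈ X4600, ∃ j < 4600, (x : GolayPt → ℤ) = vec (fldW 192 LF4600E j) :=
  table_4600

theorem X4600_inv {g : Equiv.Perm leechLattice} (hg : g ∈ Co0) (ea : g b32 = b32)
    {x : leechLattice} (hx : x ∈ X4600) : g x ∈ X4600 := by
  have h := Xdot_inv (-16) g hg b32 x hx
  rw [ea] at h
  exact h

/-- the index of a vector in the table -/
noncomputable def idx4600 (x : ↥X4600) : Fin 4600 :=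
  ⟨Classical.choose (table_X4600 x.1 x.2), (Classical.choose_spec (table_X4600 x.1 x.2)).1⟩

theorem idx4600_spec (x : ↥X4600) :
    ((x.1 : leechLattice) : GolayPt → ℤ) = vec (fldW 192 LF4600E (idx4600 x).val) :=
  (Classical.choose_spec (table_X4600 x.1 x.2)).2

theorem idx4600_injective : Function.Injective idx4600 := by
  intro x y h
  apply Subtype.ext
  apply Subtype.ext
  rw [idx4600_spec x, idx4600_spec y, h]

theorem idx4600_bijective : Function.Bijective idx4600 := by
  rw [Fintype.bijective_iff_injective_and_card]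
  exact ⟨idx4600_injective, by rw [card_X4600, Fintype.card_fin]⟩

/-- the table as a bijection -/
noncomputable def eIdx4600 : ↥X4600 ≃ Fin 4600 := Equiv.ofBijective idx4600 idx4600_bijective

theorem eIdx4600_spec (x : ↥X4600) :
    ((x.1 : leechLattice) : GolayPt → ℤ) = vec (fldW 192 LF4600E (eIdx4600 x).val) :=
  idx4600_spec x

theorem eIdx4600_symm_spec (j : Fin 4600) :
    (((eIdx4600.symm j).1 : leechLattice) : GolayPt → ℤ) = vec (fldW 192 LF4600E j.val) := by
  have h := eIdx4600_spec (eIdx4600.symm j)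
  rwa [Equiv.apply_symm_apply] at h

/-- the entries of the table are distinct -/
theorem table4600_inj (j j' : Fin 4600)
    (h : vec (fldW 192 LF4600E j.val) = vec (fldW 192 LF4600E j'.val)) : j = j' := by
  have e : eIdx4600.symm j = eIdx4600.symm j' := by
    apply Subtype.ext
    apply Subtype.ext
    rw [eIdx4600_symm_spec, eIdx4600_symm_spec, h]
  exact eIdx4600.symm.injective e

theorem G2_fix (k : ↥G2) : (k.1 : Equiv.Perm leechLattice) b32 = b32 :=
  MulAction.mem_stabilizer_iff.mp k.2

theorem G2_fix_inv (k : ↥G2) : (k.1 : Equiv.Perm leechLattice)⁻¹ b32 = b32 := by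
  rw [Equiv.Perm.inv_eq_iff_eq]
  exact (G2_fix k).symm

/-- the stabiliser of `b32` acts on the 4600 vectors -/
noncomputable def actX4600 : ↥G2 →* Equiv.Perm ↥X4600 where
  toFun k :=
    { toFun := fun x => ⟨(k.1 : Equiv.Perm leechLattice) x.1, X4600_inv k.1.2 (G2_fix k) x.2⟩
      invFun := fun x => ⟨(k.1 : Equiv.Perm leechLattice)⁻¹ x.1,
        X4600_inv (inv_mem k.1.2) (G2_fix_inv k) x.2⟩
      left_inv := fun x => Subtype.ext (by simp)
      right_inv := fun x => Subtype.ext (by simp) }
  map_one' := by ext x; rfl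
  map_mul' k k' := by ext x; rfl

theorem actX4600_apply (k : ↥G2) (x : ↥X4600) :
    ((actX4600 k) x).1 = (k.1 : Equiv.Perm leechLattice) x.1 := rfl

/-- the action on the indices of the table -/
noncomputable def rhoHom4600 : ↥G2 →* Equiv.Perm (Fin 4600) :=
  (eIdx4600.permCongrHom).toMonoidHom.comp actX4600

theorem rhoHom4600_apply (k : ↥G2) (j : Fin 4600) :
    rhoHom4600 k j = eIdx4600 ((actX4600 k) (eIdx4600.symm j)) := rfl

theorem rhoHom4600_acts (k : ↥G2) : ActsAs4600 k.1 (rhoHom4600 k) := by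
  intro j v hv
  have ev : v = (eIdx4600.symm j).1 := Subtype.ext (hv.trans (eIdx4600_symm_spec j).symm)
  subst ev
  rw [rhoHom4600_apply]
  exact eIdx4600_spec ((actX4600 k) (eIdx4600.symm j))

/-- piece C2-RHO -/
theorem rho2 : StRho2 := by
  refine ⟨rhoHom4600, rhoHom4600_acts, ?_⟩
  intro k p hp
  ext j
  have h1 := hp j (eIdx4600.symm j).1 (eIdx4600_symm_spec j)
  have h2 := rhoHom4600_acts k j (eIdx4600.symm j).1 (eIdx4600_symm_spec j)
  exact congrArg Fin.val (table4600_inj _ _ (h2.symm.trans h1))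

end Cfsg.Agent.H82.C2

example : Cfsg.Agent.H33.C2.StRho2 := Cfsg.Agent.H82.C2.rho2
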