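import Mathlib
import Cfsg.Agent.H33.C2.Defs

/-!
# S2070 team project (helper33): piece C2-WT (helper82)

The lattice word `wT2` gives an element of `G2` acting on the table of 4600 vectors as `pT2`
(port of the C3 piece `C3-WT`).  The check of the 4600 table entries is split into 20 chunks
of 230 entries (each chunk is one kernel evaluation).
-/

set_option autoImplicit false
set_option maxRecDepth 100000

namespace Cfsg.Agent.H82.C2

open Cfsg Cfsg.Agent.H9 Cfsg.Agent.H93 Cfsg.Agent.H33 Cfsg.Agent.H33.C3 Cfsg.Agent.H33.C2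

theorem wT2_gen : genOK LF4600A wT2 = true := by decide +kernel

/-- the check of one table entry: the word `wT2` maps the entry `j` to the entry `cT2 j` -/
def wtF (j : ℕ) : Bool := runOK wT2 (fldW 192 LF4600E j) &&
    Nat.beq (runW wT2 (fldW 192 LF4600E j)) (fldW 192 LF4600E (g16 cT2 j))

/-- a checked chunk gives its entries -/
theorem wt_key {F : ℕ → Bool} {o j : ℕ} (h : allB (fun i => F (Nat.add i o)) 230 = true)
    (h1 : o ≤ j) (h2 : j < o + 230) : F j = true := by
  have h3 := (allB_iff _ _).mp h (j - o) (by omega)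
  have e : Nat.add (j - o) o = j := by show (j - o) + o = j; omega
  simp only [e] at h3
  exact h3

theorem wt_c0 : allB (fun i => wtF (Nat.add i 0)) 230 = true := by decide +kernel

theorem wt_c1 : allB (fun i => wtF (Nat.add i 230)) 230 = true := by decide +kernel

theorem wt_c2 : allB (fun i => wtF (Nat.add i 460)) 230 = true := by decide +kernel

theorem wt_c3 : allB (fun i => wtF (Nat.add i 690)) 230 = true := by decide +kernel

theorem wt_c4 : allB (fun i => wtF (Nat.add i 920)) 230 = true := by decide +kernel

theorem wt_c5 : allB (fun i => wtF (Nat.add i 1150)) 230 = true := by decide +kernel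

theorem wt_c6 : allB (fun i => wtF (Nat.add i 1380)) 230 = true := by decide +kernel

theorem wt_c7 : allB (fun i => wtF (Nat.add i 1610)) 230 = true := by decide +kernel

theorem wt_c8 : allB (fun i => wtF (Nat.add i 1840)) 230 = true := by decide +kernel

theorem wt_c9 : allB (fun i => wtF (Nat.add i 2070)) 230 = true := by decide +kernel

theorem wt_c10 : allB (fun i => wtF (Nat.add i 2300)) 230 = true := by decide +kernel

theorem wt_c11 : allB (fun i => wtF (Nat.add i 2530)) 230 = true := by decide +kernel

theorem wt_c12 : allB (fun i => wtF (Nat.add i 2760)) 230 = true := by decide +kernel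

theorem wt_c13 : allB (fun i => wtF (Nat.add i 2990)) 230 = true := by decide +kernel

theorem wt_c14 : allB (fun i => wtF (Nat.add i 3220)) 230 = true := by decide +kernel

theorem wt_c15 : allB (fun i => wtF (Nat.add i 3450)) 230 = true := by decide +kernel

theorem wt_c16 : allB (fun i => wtF (Nat.add i 3680)) 230 = true := by decide +kernel

theorem wt_c17 : allB (fun i => wtF (Nat.add i 3910)) 230 = true := by decide +kernel

theorem wt_c18 : allB (fun i => wtF (Nat.add i 4140)) 230 = true := by decide +kernel

theorem wt_c19 : allB (fun i => wtF (Nat.add i 4370)) 230 = true := by decide +kernel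


theorem wtF_all (j : ℕ) (hj : j < 4600) : wtF j = true := by
  by_cases h0 : j < 230
  · exact wt_key wt_c0 (by omega) (by omega)
  by_cases h1 : j < 460
  · exact wt_key wt_c1 (by omega) (by omega)
  by_cases h2 : j < 690
  · exact wt_key wt_c2 (by omega) (by omega)
  by_cases h3 : j < 920
  · exact wt_key wt_c3 (by omega) (by omega)
  by_cases h4 : j < 1150
  · exact wt_key wt_c4 (by omega) (by omega)
  by_cases h5 : j < 1380
  · exact wt_key wt_c5 (by omega) (by omega)
  by_cases h6 : j < 1610
  · exact wt_key wt_c6 (by omega) (by omega)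
  by_cases h7 : j < 1840
  · exact wt_key wt_c7 (by omega) (by omega)
  by_cases h8 : j < 2070
  · exact wt_key wt_c8 (by omega) (by omega)
  by_cases h9 : j < 2300
  · exact wt_key wt_c9 (by omega) (by omega)
  by_cases h10 : j < 2530
  · exact wt_key wt_c10 (by omega) (by omega)
  by_cases h11 : j < 2760
  · exact wt_key wt_c11 (by omega) (by omega)
  by_cases h12 : j < 2990
  · exact wt_key wt_c12 (by omega) (by omega)
  by_cases h13 : j < 3220
  · exact wt_key wt_c13 (by omega) (by omega)
  by_cases h14 : j < 3450
  · exact wt_key wt_c14 (by omega) (by omega)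
  by_cases h15 : j < 3680
  · exact wt_key wt_c15 (by omega) (by omega)
  by_cases h16 : j < 3910
  · exact wt_key wt_c16 (by omega) (by omega)
  by_cases h17 : j < 4140
  · exact wt_key wt_c17 (by omega) (by omega)
  by_cases h18 : j < 4370
  · exact wt_key wt_c18 (by omega) (by omega)
  exact wt_key wt_c19 (by omega) (by omega)

/-- a lattice word fixing `b32` and acting on the table as the coded permutation -/
theorem word_acts4600 {W : List (ℕ × ℕ)} {c ci : ℕ} (hc : invOK2 c ci = true)
    (hW : genOK LF4600A W = true)
    (htab : ∀ j < 4600, (runOK W (fldW 192 LF4600E j) &&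
      Nat.beq (runW W (fldW 192 LF4600E j)) (fldW 192 LF4600E (g16 c j))) = true) :
    ∃ g : ↥Co0, g ∈ G2 ∧ ActsAs4600 g (permOf2 c ci hc) := by
  obtain ⟨g, hg, hfix, hrun⟩ := gen_elt LF4600A_mem hW
  refine ⟨⟨g, hg⟩, MulAction.mem_stabilizer_iff.mpr hfix, ?_⟩
  intro j v hv
  have hc' := htab j.val j.isLt
  simp only [Bool.and_eq_true] at hc'
  obtain ⟨h1, h2⟩ := hc'
  have hm : vec (fldW 192 LF4600E j.val) ∈ leechLattice := by rw [← hv]; exact v.2
  have ev : v = ⟨vec (fldW 192 LF4600E j.val), hm⟩ := Subtype.ext hv
  have r1 := hrun _ h1 hm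
  rw [ev]
  show ((g ⟨vec (fldW 192 LF4600E j.val), hm⟩ : leechLattice) : GolayPt → ℤ)
    = vec (fldW 192 LF4600E (g16 c j.val))
  rw [r1, Nat.eq_of_beq_eq_true h2]

/-- piece C2-WT -/
theorem wT2_ok : StWT2 := word_acts4600 cT2_ok wT2_gen wtF_all

end Cfsg.Agent.H82.C2

example : Cfsg.Agent.H33.C2.StWT2 := Cfsg.Agent.H82.C2.wT2_ok
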