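import Cfsg.Agent.H82.JtDich

/-!
# The dichotomy `Cfsg.Agent.H82.Jt.dich` in the two-conjugates form (F1)

`dich_ab`: the hypotheses of `dich` give, for all `a b`: if `V^a ∩ N(V^b) ≠ 1` then `V^a` and
`V^b` commute elementwise (this is verbatim the hypothesis `hF1` of
`Cfsg.Agent.H59.PushKill.pushKill`, `rKill`, `vLeCore`).  `dich_ab_L`: the same with the
hypotheses stated relative to a subgroup `L = N_G(V)`.
-/

set_option autoImplicit false

namespace Cfsg.Agent.H82.Jt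

universe u v

variable {G : Type u} [Group G]

theorem conj_eq_of_mem_normalizer {V : Subgroup G} {g : G}
    (hg : g ∈ Subgroup.normalizer (V : Set G)) : V.map (MulAut.conj g).toMonoidHom = V := by
  ext x
  rw [mem_conj]
  have hg' : g⁻¹ ∈ Subgroup.normalizer (V : Set G) := Subgroup.inv_mem _ hg
  have h := Subgroup.mem_normalizer_iff.mp hg' x
  rw [inv_inv] at h
  exact h.symm

/-- (a,b)-form of `dich`. -/
theorem dich_ab {ι : Type v} (V : Subgroup G) (W : ι → Subgroup G)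
    (hcent : ∀ v ∈ V, v ≠ 1 →
      Subgroup.centralizer ({v} : Set G) ≤ Subgroup.normalizer (V : Set G))
    (hV2 : ∀ v ∈ V, v * v = 1) (hsup : ⨆ i, W i = V) (hind : iSupIndep W)
    (hcard : ∀ i, Nat.card ↥(W i) = 4)
    (hperm : ∀ l ∈ Subgroup.normalizer (V : Set G), ∀ i, ∃ j,
      (W i).map (MulAut.conj l).toMonoidHom = W j)
    (hr : ∃ i j : ι, i ≠ j)
    (hTI : ∀ g : G, V ⊓ V.map (MulAut.conj g).toMonoidHom ≠ ⊥ →
      V.map (MulAut.conj g).toMonoidHom = V) :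
    ∀ a b : G, V.map (MulAut.conj a).toMonoidHom ⊓
        Subgroup.normalizer ((V.map (MulAut.conj b).toMonoidHom : Subgroup G) : Set G) ≠ ⊥ →
      ∀ u ∈ V.map (MulAut.conj a).toMonoidHom, ∀ v ∈ V.map (MulAut.conj b).toMonoidHom,
        u * v = v * u := by
  intro a b hne u hu v hv
  obtain ⟨⟨u₀, hu₀m⟩, hu₀1⟩ := Subgroup.ne_bot_iff_exists_ne_one.mp hne
  have hu₀1' : u₀ ≠ 1 := fun h => hu₀1 (Subtype.ext h)
  have hmem : ∀ x : G, x ∈ V.map (MulAut.conj a).toMonoidHom →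
      b⁻¹ * x * b ∈ V.map (MulAut.conj (b⁻¹ * a)).toMonoidHom := by
    intro x hx
    rw [mem_conj] at hx ⊢
    have e : (b⁻¹ * a)⁻¹ * (b⁻¹ * x * b) * (b⁻¹ * a) = a⁻¹ * x * a := by group
    rw [e]; exact hx
  have hg : V.map (MulAut.conj (b⁻¹ * a)).toMonoidHom ⊓ Subgroup.normalizer (V : Set G) ≠ ⊥ := by
    intro hbot
    have h1 : b⁻¹ * u₀ * b ∈ V.map (MulAut.conj (b⁻¹ * a)).toMonoidHom ⊓
        Subgroup.normalizer (V : Set G) :=
      ⟨hmem u₀ hu₀m.1, conj_normalizer.mp hu₀m.2⟩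
    rw [hbot, Subgroup.mem_bot] at h1
    apply hu₀1'
    have e : u₀ = b * (b⁻¹ * u₀ * b) * b⁻¹ := by group
    rw [e, h1]; group
  have hle := dich V W hcent hV2 hsup hind hcard hperm hr hTI (b⁻¹ * a) hg
  have h2 := hle (hmem u hu)
  rw [Subgroup.mem_centralizer_iff] at h2
  have h3 := h2 (b⁻¹ * v * b) (mem_conj.mp hv)
  have h4 : u * v = b * ((b⁻¹ * u * b) * (b⁻¹ * v * b)) * b⁻¹ := by group
  have h5 : v * u = b * ((b⁻¹ * v * b) * (b⁻¹ * u * b)) * b⁻¹ := by group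
  rw [h4, h5, h3]

/-- (a,b)-form of `dich`, hypotheses relative to `L = N_G(V)`. -/
theorem dich_ab_L {ι : Type v} (V L : Subgroup G) (W : ι → Subgroup G)
    (hLN : L ≤ Subgroup.normalizer (V : Set G)) (hNL : Subgroup.normalizer (V : Set G) ≤ L)
    (hcent : ∀ v ∈ V, v ≠ 1 → Subgroup.centralizer ({v} : Set G) ≤ L)
    (hV2 : ∀ v ∈ V, v * v = 1) (hsup : ⨆ i, W i = V) (hind : iSupIndep W)
    (hcard : ∀ i, Nat.card ↥(W i) = 4)
    (hperm : ∀ l ∈ L, ∀ i, ∃ j, (W i).map (MulAut.conj l).toMonoidHom = W j)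
    (hr : ∃ i j : ι, i ≠ j)
    (hTI : ∀ g : G, V ⊓ V.map (MulAut.conj g).toMonoidHom ≠ ⊥ → g ∈ L) :
    ∀ a b : G, V.map (MulAut.conj a).toMonoidHom ⊓
        Subgroup.normalizer ((V.map (MulAut.conj b).toMonoidHom : Subgroup G) : Set G) ≠ ⊥ →
      ∀ u ∈ V.map (MulAut.conj a).toMonoidHom, ∀ v ∈ V.map (MulAut.conj b).toMonoidHom,
        u * v = v * u :=
  dich_ab V W (fun v hv hv1 => (hcent v hv hv1).trans hLN) hV2 hsup hind hcard
    (fun l hl i => hperm l (hNL hl) i) hr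
    (fun g hg => conj_eq_of_mem_normalizer (hLN (hTI g hg)))

end Cfsg.Agent.H82.Jt
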