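import Mathlib
import Cfsg.Prelude.Def_Blocks
import Cfsg.Agent.H82.Irr
import Cfsg.Agent.H82.Triv
import Cfsg.Agent.S0135

set_option autoImplicit false

namespace Cfsg.Agent.H82

open Representation

section

variable {G : Type*} [Group G] [Finite G]

/-- The degree of an irreducible character divides the index of its kernel. -/
theorem charDegree_dvd_index_irrKer (χ : Cfsg.IrrCharacter G) :
    Cfsg.charDegree χ.1 ∣ (irrKer χ).index := by
  obtain ⟨χ', hχ'⟩ := exists_deflate (irrKer χ) χ (fun x hx => hx)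
  obtain ⟨n, ρ, hirr, hρ, -, -, hdeg⟩ := irr_rep χ'
  have h := Cfsg.Agent.S0135.result ρ
  rw [Module.finrank_fin_fun, ← hdeg, ← charDegree_inflate (irrKer χ) χ', hχ'] at h
  rw [Subgroup.index_eq_card]
  exact h

/-- The codegree of an irreducible character, in the form used by the statements. -/
noncomputable def codeg (χ : Cfsg.IrrCharacter G) : ℕ :=
  Nat.card G / (Nat.card {g : G // χ.1 g = χ.1 1} * Cfsg.charDegree χ.1)

theorem card_ker_eq (χ : Cfsg.IrrCharacter G) :
    Nat.card {g : G // χ.1 g = χ.1 1} = Nat.card (irrKer χ) := rfl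

theorem codeg_mul (χ : Cfsg.IrrCharacter G) :
    codeg χ * (Nat.card (irrKer χ) * Cfsg.charDegree χ.1) = Nat.card G := by
  obtain ⟨c, hc⟩ := charDegree_dvd_index_irrKer χ
  have h1 := Subgroup.card_mul_index (irrKer χ)
  have hpos : 0 < Nat.card (irrKer χ) * Cfsg.charDegree χ.1 :=
    Nat.mul_pos Nat.card_pos (charDegree_pos χ)
  have h2 : Nat.card G = c * (Nat.card (irrKer χ) * Cfsg.charDegree χ.1) := by
    rw [← h1, hc]; ring
  unfold codeg
  rw [card_ker_eq, h2, Nat.mul_div_cancel _ hpos]

theorem codeg_dvd_card (χ : Cfsg.IrrCharacter G) : codeg χ ∣ Nat.card G :=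
  Dvd.intro _ (codeg_mul χ)

theorem codeg_mul_charDegree (χ : Cfsg.IrrCharacter G) :
    codeg χ * Cfsg.charDegree χ.1 = (irrKer χ).index := by
  have h1 := Subgroup.card_mul_index (irrKer χ)
  have h2 := codeg_mul χ
  have hpos : 0 < Nat.card (irrKer χ) := Nat.card_pos
  have : Nat.card (irrKer χ) * (codeg χ * Cfsg.charDegree χ.1) =
      Nat.card (irrKer χ) * (irrKer χ).index := by
    rw [h1, ← h2]; ring
  exact Nat.eq_of_mul_eq_mul_left hpos this

theorem codeg_pos (χ : Cfsg.IrrCharacter G) : 0 < codeg χ := by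
  have h := codeg_mul χ
  have hG : 0 < Nat.card G := Nat.card_pos
  by_contra h0
  have : codeg χ = 0 := by omega
  rw [this, zero_mul] at h
  omega

end

end Cfsg.Agent.H82
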