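import Mathlib
import Cfsg.Prelude.Def_Characters
import Cfsg.Prelude.Def_Blocks
import Cfsg.Agent.H4.Induction
import Cfsg.Agent.H4.Irr
import Cfsg.Agent.H4.Chars
import Cfsg.Agent.Lib.Clifford
import Cfsg.Agent.H82.Extra
import Cfsg.Agent.H82.Irr

/-!
# Leonard's theorem, part 1: the local setup (helper82)

`Setup p N C P` packages the local data of a Sylow `p`-subgroup `P` of `G` all of whose
non-identity elements have centralizer `C = C_G(P)`; `N = N_G(P)`:
`C ≤ N` normalizes `P` and `C`, `P` is central in `C`, `N/C` acts semiregularly on `P`, the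
`p`-singular elements of `C` form a TI-set with normalizer `N` meeting every class of
`p`-singular elements of `G`, and `ρ : C → P` is the projection with kernel the `p`-regular
elements of `C`.

Here: conjugation `cj` of `C` by elements of `N`, the `N`-trace `trN` of a function on `C`,
central homs, semiregularity on the dual of `P`, norms of traces.
-/

set_option autoImplicit false
set_option linter.style.haveILetI false
set_option linter.unusedSectionVars false

namespace Cfsg.Agent.H82.BL

open Cfsg Cfsg.Agent.H4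
open scoped ComplexConjugate

universe u

section General

/-- A central subgroup acts on an irreducible character through a homomorphism to `ℂˣ`. -/
theorem exists_central_hom {C : Type u} [Group C] [Finite C] (χ : IrrCharacter C)
    (Z : Subgroup C) (hZ : ∀ z ∈ Z, ∀ g : C, g * z = z * g) :
    ∃ ω : Z →* ℂˣ, ∀ (z : Z) (g : C), χ.1 ((z : C) * g) = ((ω z : ℂˣ) : ℂ) * χ.1 g := by
  have h1 := Cfsg.Agent.H82.irr_one_ne_zero χ
  have hsc : ∀ z : Z, ∃ c : ℂ, (∀ g : C, χ.1 ((z : C) * g) = c * χ.1 g) ∧ c ≠ 0 := by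
    intro z
    obtain ⟨c, hc, hpow, -⟩ := Cfsg.Agent.H82.irr_central_scalar χ (z : C) (hZ z z.2)
    refine ⟨c, hc, ?_⟩
    intro h0
    have := hpow (orderOf (z : C)) (pow_orderOf_eq_one _)
    rw [h0, zero_pow (orderOf_pos (z : C)).ne'] at this
    exact zero_ne_one this
  choose c hc hc0 using hsc
  have hmul : ∀ z w : Z, c (z * w) = c z * c w := by
    intro z w
    have e1 := hc (z * w) 1
    have e2 := hc z ((w : C) * 1)
    have e3 := hc w 1
    have e4 : (((z * w : Z) : C)) * 1 = (z : C) * ((w : C) * 1) := by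
      rw [Subgroup.coe_mul, mul_assoc]
    rw [e4, e2, e3, ← mul_assoc] at e1
    exact (mul_right_cancel₀ h1 e1).symm
  have hone : c 1 = 1 := by
    have e1 := hc 1 1
    rw [Subgroup.coe_one, one_mul] at e1
    have e2 : (1 : ℂ) * χ.1 1 = c 1 * χ.1 1 := by rw [one_mul]; exact e1
    exact (mul_right_cancel₀ h1 e2).symm
  refine ⟨MonoidHom.toHomUnits { toFun := c, map_one' := hone, map_mul' := hmul }, ?_⟩
  intro z g
  rw [MonoidHom.coe_toHomUnits]
  exact hc z g

end General

variable {G : Type u} [Group G]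

/-- The local data around a Sylow `p`-subgroup `P` whose non-identity elements all have
centralizer `C`. -/
structure Setup (p : ℕ) (N C P : Subgroup G) where
  hCN : C ≤ N
  hPC : P ≤ C
  normC : ∀ n ∈ N, ∀ c ∈ C, n * c * n⁻¹ ∈ C
  normP : ∀ n ∈ N, ∀ x ∈ P, n * x * n⁻¹ ∈ P
  cent : ∀ x ∈ P, ∀ c ∈ C, x * c = c * x
  semi : ∀ n ∈ N, ∀ x ∈ P, x ≠ 1 → n * x = x * n → n ∈ C
  ti : ∀ g : G, ∀ d ∈ C, p ∣ orderOf d → g * d * g⁻¹ ∈ C → g ∈ N
  conjIn : ∀ g : G, p ∣ orderOf g → ∃ h : G, h * g * h⁻¹ ∈ C
  ρ : C →* P.subgroupOf C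
  hρ : ∀ x : P.subgroupOf C, ρ (x : C) = x
  hreg : ∀ c : C, ¬ p ∣ orderOf (c : G) ↔ ρ c = 1

variable {p : ℕ} {N C P : Subgroup G} (S : Setup p N C P)

/-- Conjugation of `C` by an element of `N`. -/
def cj (n : N) : C ≃* C where
  toFun c := ⟨(n : G) * c * (n : G)⁻¹, S.normC n n.2 c c.2⟩
  invFun c := ⟨(n : G)⁻¹ * c * n, by
    have := S.normC (n : G)⁻¹ (N.inv_mem n.2) c c.2
    rwa [inv_inv] at this⟩
  left_inv c := by apply Subtype.ext; simp [mul_assoc]
  right_inv c := by apply Subtype.ext; simp [mul_assoc]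
  map_mul' a b := by apply Subtype.ext; simp [mul_assoc]

theorem cj_coe (n : N) (c : C) : ((cj S n c : C) : G) = (n : G) * c * (n : G)⁻¹ := rfl

theorem cj_mul (n m : N) (c : C) : cj S (n * m) c = cj S n (cj S m c) := by
  apply Subtype.ext
  simp [cj_coe, mul_assoc]

theorem cj_one (n : N) : cj S n 1 = 1 := map_one _

theorem orderOf_cj (n : N) (c : C) : orderOf ((cj S n c : C) : G) = orderOf (c : G) := by
  rw [cj_coe]
  exact (MulAut.conj (n : G)).orderOf_eq (c : G)

/-- Conjugation by an element of `C` is inner. -/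
theorem cj_of_mem (n : N) (hn : (n : G) ∈ C) (c : C) :
    cj S n c = (⟨n, hn⟩ : C) * c * (⟨n, hn⟩ : C)⁻¹ := by
  apply Subtype.ext
  rfl

theorem comp_cj_of_mem {f : C → ℂ} (hf : IsClassFunction C f) (n : N) (hn : (n : G) ∈ C) :
    (fun c => f (cj S n c)) = f := by
  funext c
  rw [cj_of_mem S n hn c]
  exact hf c ⟨n, hn⟩

/-- Conjugation of `P` (inside `C`) by an element of `N`. -/
def cjP (n : N) : P.subgroupOf C →* P.subgroupOf C where
  toFun x := ⟨cj S n x, by
    rw [Subgroup.mem_subgroupOf]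
    exact S.normP n n.2 _ (Subgroup.mem_subgroupOf.mp x.2)⟩
  map_one' := by apply Subtype.ext; exact map_one (cj S n)
  map_mul' a b := by apply Subtype.ext; exact map_mul (cj S n) _ _

theorem cjP_coe (n : N) (x : P.subgroupOf C) : ((cjP S n x : P.subgroupOf C) : C) = cj S n x :=
  rfl

/-- `N/C` acts semiregularly on the dual group of `P`. -/
theorem dual_semireg [Finite G] (n : N) (hn : (n : G) ∉ C) (lam : P.subgroupOf C →* ℂˣ)
    (h : lam.comp (cjP S n) = lam) : lam = 1 := by
  have hinj : Function.Injective (fun x : P.subgroupOf C => cjP S n x * x⁻¹) := by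
    intro x y hxy
    have hxy' : cjP S n x * x⁻¹ = cjP S n y * y⁻¹ := hxy
    have h1 : cjP S n (y⁻¹ * x) = y⁻¹ * x := by
      rw [map_mul, map_inv]
      calc (cjP S n y)⁻¹ * cjP S n x = (cjP S n y)⁻¹ * (cjP S n x * x⁻¹) * x := by group
        _ = (cjP S n y)⁻¹ * (cjP S n y * y⁻¹) * x := by rw [hxy']
        _ = y⁻¹ * x := by group
    have h2 : (n : G) * (((y⁻¹ * x : P.subgroupOf C) : C) : G) =
        (((y⁻¹ * x : P.subgroupOf C) : C) : G) * (n : G) := by
      have h3 := congrArg (fun z : P.subgroupOf C => ((z : C) : G)) h1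
      simp only [cjP_coe, cj_coe] at h3
      calc (n : G) * (((y⁻¹ * x : P.subgroupOf C) : C) : G)
          = ((n : G) * (((y⁻¹ * x : P.subgroupOf C) : C) : G) * (n : G)⁻¹) * n := by group
        _ = _ := by rw [h3]
    have h4 : (y⁻¹ * x : P.subgroupOf C) = 1 := by
      by_contra hne
      apply hn
      refine S.semi n n.2 _ (Subgroup.mem_subgroupOf.mp (y⁻¹ * x).2) ?_ h2
      intro h5
      apply hne
      apply Subtype.ext
      apply Subtype.ext
      exact h5
    exact (inv_mul_eq_one.mp h4).symm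
  have hsurj := Finite.surjective_of_injective hinj
  ext y
  obtain ⟨x, hx⟩ := hsurj y
  have hx' : y = cjP S n x * x⁻¹ := hx.symm
  have h1 : lam (cjP S n x) = lam x := by
    have := congrArg (fun f : P.subgroupOf C →* ℂˣ => f x) h
    exact this
  rw [hx', map_mul, map_inv, h1, mul_inv_cancel]
  rfl


theorem cjP_mul (n m : N) : cjP S (n * m) = (cjP S n).comp (cjP S m) := by
  ext x
  rw [MonoidHom.comp_apply, cjP_coe, cjP_coe, cjP_coe, cj_mul]

theorem cjP_of_mem (n : N) (hn : (n : G) ∈ C) : cjP S n = MonoidHom.id _ := by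
  ext x
  rw [cjP_coe, cj_coe, MonoidHom.id_apply]
  have h := S.cent _ (Subgroup.mem_subgroupOf.mp x.2) _ hn
  rw [← h, mul_assoc, mul_inv_cancel, mul_one]

theorem cjP_one_eq : cjP S 1 = MonoidHom.id _ := cjP_of_mem S 1 (by simp)

/-- `cjP` as a permutation of `P`. -/
def cjPE (n : N) : P.subgroupOf C ≃ P.subgroupOf C where
  toFun := cjP S n
  invFun := cjP S n⁻¹
  left_inv x := by
    rw [← MonoidHom.comp_apply, ← cjP_mul, inv_mul_cancel, cjP_one_eq]; rfl
  right_inv x := by
    rw [← MonoidHom.comp_apply, ← cjP_mul, mul_inv_cancel, cjP_one_eq]; rfl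

theorem cjPE_apply (n : N) (x : P.subgroupOf C) : cjPE S n x = cjP S n x := rfl

/-- The index `|N : C|`. -/
noncomputable def ind (_S : Setup p N C P) : ℕ := Nat.card N / Nat.card C

theorem ind_mul [Finite G] : ind S * Nat.card C = Nat.card N :=
  Nat.div_mul_cancel (Subgroup.card_dvd_of_le S.hCN)

theorem ind_pos [Finite G] : 0 < ind S := by
  have h := ind_mul S
  have hN : 0 < Nat.card N := Nat.card_pos
  by_contra h0
  have : ind S = 0 := by omega
  rw [this, zero_mul] at h
  omega

theorem cardN_cast [Finite G] : (Nat.card N : ℂ) = (ind S : ℂ) * (Nat.card C : ℂ) := by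
  rw [← ind_mul S]; push_cast; rfl

theorem cardC_ne_zero [Finite G] (C : Subgroup G) : (Nat.card C : ℂ) ≠ 0 := by
  have : 0 < Nat.card C := Nat.card_pos
  exact_mod_cast this.ne'

theorem cinv_mul_cardN [Finite G] : (Nat.card C : ℂ)⁻¹ * (Nat.card N : ℂ) = (ind S : ℂ) := by
  rw [cardN_cast S, mul_comm, mul_assoc, mul_inv_cancel₀ (cardC_ne_zero C), mul_one]

/-- `N`-invariant functions on `C`. -/
def NInv (A : C → ℂ) : Prop := ∀ (n : N) (c : C), A (cj S n c) = A c

theorem ninv_res {F : G → ℂ} (hF : IsClassFunction G F) : NInv S (fun c : C => F c) := by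
  intro n c
  change F ((cj S n c : C) : G) = F c
  rw [cj_coe]
  exact hF _ _

section Trace

variable [Fintype N]

/-- The `N`-trace of a function on `C`. -/
noncomputable def trN (f : C → ℂ) : C → ℂ :=
  fun c => (Nat.card C : ℂ)⁻¹ * ∑ n : N, f (cj S n c)

theorem trN_eq (f : C → ℂ) :
    trN S f = (Nat.card C : ℂ)⁻¹ • ∑ n : N, (fun c => f (cj S n c)) := by
  funext c
  simp [trN, Finset.sum_apply]

theorem trN_sub (f g : C → ℂ) : trN S (f - g) = trN S f - trN S g := by
  funext c
  simp only [trN, Pi.sub_apply, Finset.sum_sub_distrib, mul_sub]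

theorem trN_add (f g : C → ℂ) : trN S (f + g) = trN S f + trN S g := by
  funext c
  simp only [trN, Pi.add_apply, Finset.sum_add_distrib, mul_add]

theorem trN_one (f : C → ℂ) :
    trN S f 1 = (Nat.card C : ℂ)⁻¹ * (Nat.card N : ℂ) * f 1 := by
  simp only [trN, cj_one, Finset.sum_const, Finset.card_univ, nsmul_eq_mul]
  rw [Nat.card_eq_fintype_card (α := N), mul_assoc]

theorem trN_cj (f : C → ℂ) (m : N) (c : C) : trN S f (cj S m c) = trN S f c := by
  simp only [trN]
  congr 1
  rw [← Equiv.sum_comp (Equiv.mulRight m) (fun n : N => f (cj S n c))]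
  refine Finset.sum_congr rfl fun n _ => ?_
  rw [Equiv.coe_mulRight, cj_mul]

variable [Fintype C]

theorem classInner_trN_right (A f : C → ℂ) :
    classInner A (trN S f) =
      (Nat.card C : ℂ)⁻¹ * ∑ n : N, classInner A (fun c => f (cj S n c)) := by
  rw [trN_eq, classInner_smul_right, classInner_sum_right, map_inv₀, Complex.conj_natCast]

theorem classInner_trN_left (f A : C → ℂ) :
    classInner (trN S f) A =
      (Nat.card C : ℂ)⁻¹ * ∑ n : N, classInner (fun c => f (cj S n c)) A := by
  rw [trN_eq, classInner_smul_left, classInner_sum_left]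

theorem classInner_comp_cj (A f : C → ℂ) (n : N) :
    classInner (fun c => A (cj S n c)) (fun c => f (cj S n c)) = classInner A f :=
  Cfsg.Agent.Clifford.classInner_comp_equiv (cj S n) A f

theorem classInner_inv_right {A : C → ℂ} (hA : ∀ (n : N) (c : C), A (cj S n c) = A c)
    (f : C → ℂ) (n : N) : classInner A (fun c => f (cj S n c)) = classInner A f := by
  rw [← classInner_comp_cj S A f n]
  congr 1
  funext c
  exact (hA n c).symm

theorem classInner_inv_left {A : C → ℂ} (hA : ∀ (n : N) (c : C), A (cj S n c) = A c)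
    (f : C → ℂ) (n : N) : classInner (fun c => f (cj S n c)) A = classInner f A := by
  rw [← classInner_comp_cj S f A n]
  congr 1
  funext c
  exact (hA n c).symm

/-- Inner product of an `N`-invariant function with a trace. -/
theorem classInner_inv_trN {A : C → ℂ} (hA : ∀ (n : N) (c : C), A (cj S n c) = A c)
    (f : C → ℂ) :
    classInner A (trN S f) = (Nat.card C : ℂ)⁻¹ * (Nat.card N : ℂ) * classInner A f := by
  rw [classInner_trN_right]
  simp only [classInner_inv_right S hA]
  rw [Finset.sum_const, Finset.card_univ, nsmul_eq_mul, Nat.card_eq_fintype_card (α := N),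
    mul_assoc]

theorem classInner_trN_inv {A : C → ℂ} (hA : ∀ (n : N) (c : C), A (cj S n c) = A c)
    (f : C → ℂ) :
    classInner (trN S f) A = (Nat.card C : ℂ)⁻¹ * (Nat.card N : ℂ) * classInner f A := by
  rw [classInner_trN_left]
  simp only [classInner_inv_left S hA]
  rw [Finset.sum_const, Finset.card_univ, nsmul_eq_mul, Nat.card_eq_fintype_card (α := N),
    mul_assoc]

theorem ninv_trN (f : C → ℂ) : NInv S (trN S f) := fun n c => trN_cj S f n c

theorem trN_comp_cj (f : C → ℂ) (m : N) : trN S (fun c => f (cj S m c)) = trN S f := by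
  funext c
  simp only [trN]
  congr 1
  rw [← Equiv.sum_comp (Equiv.mulLeft m) (fun n : N => f (cj S n c))]
  refine Finset.sum_congr rfl fun n _ => ?_
  rw [Equiv.coe_mulLeft, cj_mul]

theorem trN_smul (a : ℂ) (f : C → ℂ) : trN S (a • f) = a • trN S f := by
  funext c
  simp only [trN, Pi.smul_apply, smul_eq_mul, ← Finset.mul_sum]
  ring

theorem inner_ninv_trN [Finite G] {A : C → ℂ} (hA : NInv S A) (f : C → ℂ) :
    classInner A (trN S f) = (ind S : ℂ) * classInner A f := by
  rw [classInner_inv_trN S hA, cinv_mul_cardN]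

theorem inner_trN_ninv [Finite G] {A : C → ℂ} (hA : NInv S A) (f : C → ℂ) :
    classInner (trN S f) A = (ind S : ℂ) * classInner f A := by
  rw [classInner_trN_inv S hA, cinv_mul_cardN]

theorem card_filter_mem (hCN : C ≤ N) [DecidablePred fun n : N => (n : G) ∈ C] :
    (Finset.univ.filter (fun n : N => (n : G) ∈ C)).card = Nat.card C := by
  rw [← Fintype.card_subtype, ← Nat.card_eq_fintype_card]
  exact Nat.card_congr (Subgroup.subgroupOfEquivOfLe hCN).toEquiv

end Trace

end Cfsg.Agent.H82.BL
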