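import Cfsg.Agent.H82.BL9

/-!
# Leonard's theorem, part 10: the local setup from the centralizer hypothesis (helper82)

If every non-identity element of a Sylow `p`-subgroup `P` of `G` has centralizer `C_G(P)`, then
`Setup p N_G(P) C_G(P) P` holds (`exists_setup`).
-/

set_option autoImplicit false
set_option linter.style.haveILetI false
set_option linter.unusedSectionVars false

namespace Cfsg.Agent.H82.BL

open Cfsg
open scoped Pointwise

universe u

variable {G : Type u} [Group G] [Finite G] {p : ℕ} [Fact p.Prime] (P : Sylow p G)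

theorem isPGroup_zpowers {y : G} (h : ∃ k : ℕ, y ^ p ^ k = 1) :
    IsPGroup p (Subgroup.zpowers y) := by
  obtain ⟨k, hk⟩ := h
  rintro ⟨z, hz⟩
  obtain ⟨i, rfl⟩ := Subgroup.mem_zpowers_iff.mp hz
  refine ⟨k, Subtype.ext ?_⟩
  push_cast
  rw [← zpow_natCast, ← zpow_mul, mul_comm, zpow_mul, zpow_natCast, hk, one_zpow]

/-- A `p`-element normalizing a Sylow `p`-subgroup lies in it. -/
theorem mem_of_pel (y : G) (hy : y ∈ Subgroup.normalizer ((P : Subgroup G) : Set G))
    (h : ∃ k : ℕ, y ^ p ^ k = 1) : y ∈ (P : Subgroup G) := by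
  have hQ : IsPGroup p (Subgroup.zpowers y ⊔ (P : Subgroup G) : Subgroup G) :=
    IsPGroup.to_sup_of_normal_right' (isPGroup_zpowers h) P.isPGroup'
      (by rw [Subgroup.zpowers_le]; exact hy)
  have h1 := P.is_maximal' hQ le_sup_right
  rw [← h1]
  exact (le_sup_left : Subgroup.zpowers y ≤ _) (Subgroup.mem_zpowers y)

theorem pel_of_mem {x : G} (hx : x ∈ (P : Subgroup G)) : ∃ k : ℕ, x ^ p ^ k = 1 := by
  obtain ⟨k, hk⟩ := P.isPGroup' ⟨x, hx⟩
  exact ⟨k, congrArg Subtype.val hk⟩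

theorem pel_conj {x : G} (h : ∃ k : ℕ, x ^ p ^ k = 1) (g : G) :
    ∃ k : ℕ, (g * x * g⁻¹) ^ p ^ k = 1 := by
  obtain ⟨k, hk⟩ := h
  exact ⟨k, by rw [conj_pow, hk, mul_one, mul_inv_cancel]⟩

/-- An element of order `p` among the powers of a `p`-singular element. -/
theorem exists_pow_order_p (g : G) (hpg : p ∣ orderOf g) :
    ∃ k : ℕ, g ^ k ≠ 1 ∧ (g ^ k) ^ p ^ 1 = 1 := by
  have hp : p.Prime := Fact.out
  have h1 : orderOf (g ^ (orderOf g / p)) = p :=
    orderOf_pow_orderOf_div (orderOf_pos g).ne' hpg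
  refine ⟨orderOf g / p, ?_, ?_⟩
  · intro h
    rw [h, orderOf_one] at h1
    exact hp.one_lt.ne h1
  · have h2 := pow_orderOf_eq_one (g ^ (orderOf g / p))
    rw [h1] at h2
    rw [pow_one]
    exact h2

variable (hstar : ∀ x ∈ (P : Subgroup G), x ≠ 1 →
  Subgroup.centralizer ({x} : Set G) = Subgroup.centralizer ((P : Subgroup G) : Set G))

theorem le_cent_of_hstar (hstar : ∀ x ∈ (P : Subgroup G), x ≠ 1 →
      Subgroup.centralizer ({x} : Set G) = Subgroup.centralizer ((P : Subgroup G) : Set G))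
    (hP1 : ∃ x ∈ (P : Subgroup G), x ≠ 1) :
    (P : Subgroup G) ≤ Subgroup.centralizer ((P : Subgroup G) : Set G) := by
  haveI : Nontrivial (P : Subgroup G) := by
    obtain ⟨x, hx, hx1⟩ := hP1
    exact ⟨⟨⟨x, hx⟩, 1, fun h => hx1 (congrArg Subtype.val h)⟩⟩
  haveI := IsPGroup.center_nontrivial P.isPGroup'
  obtain ⟨z, hz⟩ := exists_ne (1 : Subgroup.center (P : Subgroup G))
  have hzP : ((z : (P : Subgroup G)) : G) ∈ (P : Subgroup G) := (z : (P : Subgroup G)).2
  have hz1 : ((z : (P : Subgroup G)) : G) ≠ 1 := by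
    intro h
    apply hz
    apply Subtype.ext
    apply Subtype.ext
    exact h
  rw [← hstar _ hzP hz1]
  intro x hx
  rw [Subgroup.mem_centralizer_iff]
  intro h hh
  rw [Set.mem_singleton_iff] at hh
  subst hh
  have h2 := Subgroup.mem_center_iff.mp z.2 ⟨x, hx⟩
  exact (congrArg Subtype.val h2).symm

theorem mem_cent_singleton {x c : G} : c ∈ Subgroup.centralizer ({x} : Set G) ↔ x * c = c * x := by
  rw [Subgroup.mem_centralizer_iff]
  constructor
  · intro h
    exact h x (Set.mem_singleton x)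
  · intro h y hy
    rw [Set.mem_singleton_iff] at hy
    rw [hy]
    exact h

theorem cent_le_norm : Subgroup.centralizer ((P : Subgroup G) : Set G) ≤
    Subgroup.normalizer ((P : Subgroup G) : Set G) := by
  intro c hc
  rw [Subgroup.mem_normalizer_iff]
  intro h
  have key : ∀ h ∈ (P : Subgroup G), c * h * c⁻¹ = h := by
    intro h hh
    have h1 := Subgroup.mem_centralizer_iff.mp hc h hh
    rw [← h1, mul_inv_cancel_right]
  constructor
  · intro hh
    rw [key h hh]
    exact hh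
  · intro hh
    have h2 := key _ hh
    have h3 : h = c * h * c⁻¹ := by
      have h4 : c⁻¹ * (c * (c * h * c⁻¹) * c⁻¹) * c = c⁻¹ * (c * h * c⁻¹) * c := by rw [h2]
      have h5 : c⁻¹ * (c * (c * h * c⁻¹) * c⁻¹) * c = c * h * c⁻¹ := by group
      have h6 : c⁻¹ * (c * h * c⁻¹) * c = h := by group
      rw [h5, h6] at h4
      exact h4.symm
    rw [h3]
    exact hh

theorem ti_of_hstar (hstar : ∀ x ∈ (P : Subgroup G), x ≠ 1 →
      Subgroup.centralizer ({x} : Set G) = Subgroup.centralizer ((P : Subgroup G) : Set G))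
    (hPC : (P : Subgroup G) ≤ Subgroup.centralizer ((P : Subgroup G) : Set G))
    (g d : G) (hd : d ∈ Subgroup.centralizer ((P : Subgroup G) : Set G)) (hpd : p ∣ orderOf d)
    (hg : g * d * g⁻¹ ∈ Subgroup.centralizer ((P : Subgroup G) : Set G)) :
    g ∈ Subgroup.normalizer ((P : Subgroup G) : Set G) := by
  obtain ⟨k, hy1, hyp⟩ := exists_pow_order_p d hpd
  set y := d ^ k with hy
  have hCN := cent_le_norm P
  have hyC : y ∈ Subgroup.centralizer ((P : Subgroup G) : Set G) := Subgroup.pow_mem _ hd k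
  have hyP : y ∈ (P : Subgroup G) := mem_of_pel P y (hCN hyC) ⟨1, hyp⟩
  have hy'C : g * y * g⁻¹ ∈ Subgroup.centralizer ((P : Subgroup G) : Set G) := by
    rw [hy, ← conj_pow]
    exact Subgroup.pow_mem _ hg k
  have hy'P : g * y * g⁻¹ ∈ (P : Subgroup G) :=
    mem_of_pel P _ (hCN hy'C) (pel_conj ⟨1, hyp⟩ g)
  have hy'1 : g * y * g⁻¹ ≠ 1 := by
    intro h
    apply hy1
    have h2 : y = g⁻¹ * (g * y * g⁻¹) * g := by group
    rw [h2, h]
    group
  have h1 : ∀ c ∈ Subgroup.centralizer ((P : Subgroup G) : Set G),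
      g * c * g⁻¹ ∈ Subgroup.centralizer ((P : Subgroup G) : Set G) := by
    intro c hc
    rw [← hstar y hyP hy1, mem_cent_singleton] at hc
    rw [← hstar _ hy'P hy'1, mem_cent_singleton]
    calc g * y * g⁻¹ * (g * c * g⁻¹) = g * (y * c) * g⁻¹ := by group
      _ = g * (c * y) * g⁻¹ := by rw [hc]
      _ = g * c * g⁻¹ * (g * y * g⁻¹) := by group
  have h2 : ∀ c ∈ Subgroup.centralizer ((P : Subgroup G) : Set G),
      g⁻¹ * c * g ∈ Subgroup.centralizer ((P : Subgroup G) : Set G) := by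
    intro c hc
    rw [← hstar _ hy'P hy'1, mem_cent_singleton] at hc
    rw [← hstar y hyP hy1, mem_cent_singleton]
    calc y * (g⁻¹ * c * g) = g⁻¹ * ((g * y * g⁻¹) * c) * g := by group
      _ = g⁻¹ * (c * (g * y * g⁻¹)) * g := by rw [hc]
      _ = g⁻¹ * c * g * y := by group
  rw [Subgroup.mem_normalizer_iff]
  intro h
  constructor
  · intro hh
    exact mem_of_pel P _ (hCN (h1 h (hPC hh))) (pel_conj (pel_of_mem P hh) g)
  · intro hh
    have h5 : ∃ k : ℕ, (g⁻¹ * (g * h * g⁻¹) * g) ^ p ^ k = 1 := by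
      have h6 := pel_conj (pel_of_mem P hh) g⁻¹
      rwa [inv_inv] at h6
    have h3 := mem_of_pel P _ (hCN (h2 _ (hPC hh))) h5
    have h4 : g⁻¹ * (g * h * g⁻¹) * g = h := by group
    rw [h4] at h3
    exact h3

theorem conjIn_of_hstar (hstar : ∀ x ∈ (P : Subgroup G), x ≠ 1 →
      Subgroup.centralizer ({x} : Set G) = Subgroup.centralizer ((P : Subgroup G) : Set G))
    (g : G) (hpg : p ∣ orderOf g) :
    ∃ h : G, h * g * h⁻¹ ∈ Subgroup.centralizer ((P : Subgroup G) : Set G) := by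
  obtain ⟨k, hy1, hyp⟩ := exists_pow_order_p g hpg
  set y := g ^ k with hy
  obtain ⟨Q, hQ⟩ := (isPGroup_zpowers (p := p) ⟨1, hyp⟩).exists_le_sylow
  obtain ⟨a, ha⟩ := MulAction.exists_smul_eq G Q P
  have h1 : MulAut.conj a • y ∈ MulAut.conj a • (Q : Subgroup G) :=
    Subgroup.smul_mem_pointwise_smul _ _ _ (hQ (Subgroup.mem_zpowers y))
  rw [← Sylow.coe_subgroup_smul, ha] at h1
  have h2 : a * y * a⁻¹ ∈ (P : Subgroup G) := h1
  have h3 : a * y * a⁻¹ ≠ 1 := by
    intro h
    apply hy1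
    have h4 : y = a⁻¹ * (a * y * a⁻¹) * a := by group
    rw [h4, h]
    group
  refine ⟨a, ?_⟩
  rw [← hstar _ h2 h3, mem_cent_singleton]
  have hcomm : y * g = g * y := by
    rw [hy, ← pow_succ, ← pow_succ']
  calc a * y * a⁻¹ * (a * g * a⁻¹) = a * (y * g) * a⁻¹ := by group
    _ = a * (g * y) * a⁻¹ := by rw [hcomm]
    _ = a * g * a⁻¹ * (a * y * a⁻¹) := by group

end Cfsg.Agent.H82.BL
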