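import Cfsg.Agent.H82.BL10

/-!
# Leonard's theorem, part 11: `exists_setup` (helper82)
-/

set_option autoImplicit false
set_option linter.style.haveILetI false
set_option linter.unusedSectionVars false

namespace Cfsg.Agent.H82.BL

open Cfsg
open scoped Pointwise

universe u

variable {G : Type u} [Group G] [Finite G] {p : ℕ} [Fact p.Prime] (P : Sylow p G)

/-- The centralizer of `P`. -/
abbrev CC (P : Sylow p G) : Subgroup G := Subgroup.centralizer ((P : Subgroup G) : Set G)

/-- The normalizer of `P`. -/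
abbrev NN (P : Sylow p G) : Subgroup G := Subgroup.normalizer ((P : Subgroup G) : Set G)

theorem exists_setup (hstar : ∀ x ∈ (P : Subgroup G), x ≠ 1 →
      Subgroup.centralizer ({x} : Set G) = Subgroup.centralizer ((P : Subgroup G) : Set G))
    (hP1 : ∃ x ∈ (P : Subgroup G), x ≠ 1) :
    Nonempty (Setup p (NN P) (CC P) (P : Subgroup G)) := by
  have hPC : (P : Subgroup G) ≤ CC P := le_cent_of_hstar P hstar hP1
  have hCN : CC P ≤ NN P := cent_le_norm P
  let P' : Sylow p (CC P) := P.subtype hPC
  have hcent : Subgroup.normalizer ((P' : Subgroup (CC P)) : Set (CC P)) ≤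
      Subgroup.centralizer ((P' : Subgroup (CC P)) : Set (CC P)) := by
    intro c _
    rw [Subgroup.mem_centralizer_iff]
    intro x hx
    apply Subtype.ext
    exact (Subgroup.mem_centralizer_iff.mp c.2) x (Subgroup.mem_subgroupOf.mp hx)
  let τ : (CC P) →* (P' : Subgroup (CC P)) := MonoidHom.transferSylow P' hcent
  have hbij : Function.Bijective (τ.domRestrict (P' : Subgroup (CC P))) :=
    (MonoidHom.transferSylow_domRestrict_eq_pow P' hcent).symm ▸
      (P'.2.powEquiv' P'.not_dvd_index).bijective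
  let σ : (P' : Subgroup (CC P)) ≃* (P' : Subgroup (CC P)) :=
    MulEquiv.ofBijective (τ.domRestrict (P' : Subgroup (CC P))) hbij
  let ρ' : (CC P) →* (P' : Subgroup (CC P)) := σ.symm.toMonoidHom.comp τ
  have hρ' : ∀ x : (P' : Subgroup (CC P)), ρ' (x : CC P) = x := by
    intro x
    change σ.symm (τ (x : CC P)) = x
    have h1 : τ (x : CC P) = σ x := rfl
    rw [h1, MulEquiv.symm_apply_apply]
  have hreg' : ∀ c : CC P, ¬ p ∣ orderOf (c : G) ↔ ρ' c = 1 := by
    intro c
    constructor
    · intro hc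
      have h1 : orderOf (ρ' c) ∣ orderOf c := orderOf_map_dvd ρ' c
      obtain ⟨k, hk⟩ := (IsPGroup.iff_orderOf.mp P'.isPGroup') (ρ' c)
      rw [Subgroup.orderOf_coe] at hc
      by_contra hne
      have hk0 : k ≠ 0 := by
        intro h0
        rw [h0, pow_zero] at hk
        exact hne (orderOf_eq_one_iff.mp hk)
      apply hc
      exact dvd_trans (dvd_trans (dvd_pow_self p hk0) (hk ▸ dvd_refl _)) h1
    · intro hρc hpc
      obtain ⟨k, hy1, hyp⟩ := exists_pow_order_p (c : G) hpc
      have hyC : (c : G) ^ k ∈ CC P := Subgroup.pow_mem _ c.2 k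
      have hyP : (c : G) ^ k ∈ (P : Subgroup G) := mem_of_pel P _ (hCN hyC) ⟨1, hyp⟩
      have hmem : c ^ k ∈ (P' : Subgroup (CC P)) := by
        change c ^ k ∈ (P : Subgroup G).subgroupOf (CC P)
        rw [Subgroup.mem_subgroupOf, Subgroup.coe_pow]
        exact hyP
      have h1 := hρ' ⟨c ^ k, hmem⟩
      have h2 : ρ' (c ^ k) = 1 := by rw [map_pow, hρc, one_pow]
      have h3 : (⟨c ^ k, hmem⟩ : (P' : Subgroup (CC P))) = 1 := h1.symm.trans h2
      apply hy1
      have h4 := congrArg (fun z : (P' : Subgroup (CC P)) => ((z : CC P) : G)) h3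
      simpa using h4
  refine ⟨{ hCN := hCN, hPC := hPC, normC := ?_, normP := ?_, cent := ?_, semi := ?_, ti := ?_,
            conjIn := ?_, ρ := ρ', hρ := hρ', hreg := hreg' }⟩
  · intro n hn c hc
    rw [Subgroup.mem_centralizer_iff]
    intro x hx
    have hx' : n⁻¹ * x * n ∈ (P : Subgroup G) := (Subgroup.mem_normalizer_iff''.mp hn x).mp hx
    have h1 := Subgroup.mem_centralizer_iff.mp hc _ hx'
    calc x * (n * c * n⁻¹) = n * ((n⁻¹ * x * n) * c) * n⁻¹ := by group
      _ = n * (c * (n⁻¹ * x * n)) * n⁻¹ := by rw [h1]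
      _ = n * c * n⁻¹ * x := by group
  · intro n hn x hx
    exact (Subgroup.mem_normalizer_iff.mp hn x).mp hx
  · intro x hx c hc
    exact Subgroup.mem_centralizer_iff.mp hc x hx
  · intro n hn x hx hx1 hnx
    change n ∈ Subgroup.centralizer ((P : Subgroup G) : Set G)
    rw [← hstar x hx hx1, mem_cent_singleton]
    exact hnx.symm
  · intro g d hd hpd hg
    exact ti_of_hstar P hstar hPC g d hd hpd hg
  · intro g hpg
    exact conjIn_of_hstar P hstar g hpg

end Cfsg.Agent.H82.BL
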