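import Cfsg.Agent.H82.BL11
import Cfsg.Agent.H82.Triv
import Cfsg.Agent.H82.IndDeg

/-!
# Leonard's theorem, part 12: the global statements (helper82)

`G` finite, `P` a Sylow `p`-subgroup all of whose non-identity elements have centralizer `C_G(P)`.
* `linear_of_small`: if `G` is the normal closure of `P`, every irreducible character `ψ` with
  `ψ(1)² + 1 < |P|` is linear.
* `exists_normal_complement`: if moreover some nonprincipal linear character exists, `P` has a
  normal complement.
* `normal_of_faithful`: a faithful character `χ` with `χ(1)² + 1 < |P|` forces `P ⊴ G`.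
-/

set_option autoImplicit false
set_option linter.style.haveILetI false
set_option linter.unusedSectionVars false

namespace Cfsg.Agent.H82.BL

open Cfsg Cfsg.Agent.H4 Cfsg.Agent.H82

universe u

section

variable {G : Type u} [Group G] [Finite G] {p : ℕ} [Fact p.Prime] (P : Sylow p G)

theorem exists_ne_one_of_card (h : 1 < Nat.card P) : ∃ x ∈ (P : Subgroup G), x ≠ 1 := by
  haveI : Nontrivial (P : Subgroup G) := Finite.one_lt_card_iff_nontrivial.mp h
  obtain ⟨x, hx⟩ := exists_ne (1 : (P : Subgroup G))
  exact ⟨x, x.2, fun h => hx (Subtype.ext h)⟩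

theorem ker_hyp (hcl : ∀ K : Subgroup G, K.Normal → (P : Subgroup G) ≤ K → K = ⊤) :
    ∀ Φ : IrrCharacter G, (∀ x ∈ (P : Subgroup G), Φ.1 x = Φ.1 1) → Φ.1 = fun _ => 1 := by
  intro Φ hΦ
  apply irr_eq_one_of_irrKer_eq_top
  apply hcl _ inferInstance
  intro x hx
  exact (mem_irrKer Φ x).mpr (hΦ x hx)

theorem linear_of_small (hstar : ∀ x ∈ (P : Subgroup G), x ≠ 1 →
      Subgroup.centralizer ({x} : Set G) = Subgroup.centralizer ((P : Subgroup G) : Set G))
    (hcl : ∀ K : Subgroup G, K.Normal → (P : Subgroup G) ≤ K → K = ⊤)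
    (ψ : IrrCharacter G) (hdeg : charDegree ψ.1 ^ 2 + 1 < Nat.card P) :
    charDegree ψ.1 = 1 := by
  classical
  letI := Fintype.ofFinite G
  obtain ⟨S⟩ := exists_setup P hstar (exists_ne_one_of_card P (by omega))
  letI : Fintype (NN P) := Fintype.ofFinite _
  letI : Fintype (CC P) := Fintype.ofFinite _
  letI : Fintype ((P : Subgroup G).subgroupOf (CC P)) := Fintype.ofFinite _
  exact claimB S (ker_hyp P hcl) ψ hdeg

theorem exists_normal_complement (hstar : ∀ x ∈ (P : Subgroup G), x ≠ 1 →
      Subgroup.centralizer ({x} : Set G) = Subgroup.centralizer ((P : Subgroup G) : Set G))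
    (hcl : ∀ K : Subgroup G, K.Normal → (P : Subgroup G) ≤ K → K = ⊤)
    (χ : IrrCharacter G) (h1 : χ.1 ≠ fun _ => 1) (hlin : charDegree χ.1 = 1)
    (hP1 : 1 < Nat.card P) :
    ∃ K : Subgroup G, K.Normal ∧ K.index = Nat.card P := by
  classical
  obtain ⟨S⟩ := exists_setup P hstar (exists_ne_one_of_card P hP1)
  have hχ1 : χ.1 1 = 1 := by
    rw [irr_one_eq_charDegree, hlin]
    simp
  set α := irrLinearHom χ hχ1 with hα
  have hNC : Subgroup.normalizer ((P : Subgroup G) : Set G) ≤
      Subgroup.centralizer ((P : Subgroup G) : Set G) := by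
    intro n hn
    by_contra hnC
    set lam : (P : Subgroup G).subgroupOf (CC P) →* ℂˣ :=
      α.comp ((CC P).subtype.comp ((P : Subgroup G).subgroupOf (CC P)).subtype) with hlam
    have h : lam.comp (cjP S ⟨n, hn⟩) = lam := by
      ext x
      change ((α (((cjP S ⟨n, hn⟩ x : (P : Subgroup G).subgroupOf (CC P)) : CC P) : G) : ℂˣ) : ℂ) =
        ((α ((x : CC P) : G) : ℂˣ) : ℂ)
      rw [cjP_coe, cj_coe, map_mul, map_mul, map_inv, mul_comm (α n), mul_assoc,
        mul_inv_cancel, mul_one]
    have hlam1 := dual_semireg S ⟨n, hn⟩ hnC lam h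
    apply h1
    apply ker_hyp P hcl χ
    intro x hx
    have hxC : x ∈ CC P := S.hPC hx
    have h2 := congrArg (fun f : (P : Subgroup G).subgroupOf (CC P) →* ℂˣ =>
      ((f ⟨⟨x, hxC⟩, Subgroup.mem_subgroupOf.mpr hx⟩ : ℂˣ) : ℂ)) hlam1
    have h3 : ((α x : ℂˣ) : ℂ) = 1 := h2
    rw [hχ1, ← h3]
    rfl
  have hcompl := MonoidHom.ker_transferSylow_isComplement' P hNC
  exact ⟨(MonoidHom.transferSylow P hNC).ker, MonoidHom.normal_ker _,
    hcompl.symm.index_eq_card⟩

end

/-- A faithful character of small degree forces the Sylow subgroup to be normal. -/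
theorem normal_of_faithful : ∀ (m : ℕ) (G : Type u) [Group G] [Finite G], Nat.card G = m →
    ∀ (p : ℕ) [Fact p.Prime] (P : Sylow p G),
      (∀ x ∈ (P : Subgroup G), x ≠ 1 → Subgroup.centralizer ({x} : Set G) =
        Subgroup.centralizer ((P : Subgroup G) : Set G)) →
      ∀ (χ : G → ℂ), IsCharacter G χ → (∀ g : G, χ g = χ 1 → g = 1) →
        charDegree χ ^ 2 + 1 < Nat.card P → (P : Subgroup G).Normal := by
  intro m
  induction m using Nat.strong_induction_on with
  | _ m ih =>
    intro G _ _ hm p _ P hstar χ hχ hfaith hdeg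
    classical
    set G₁ := Subgroup.normalClosure ((P : Subgroup G) : Set G) with hG₁
    have hle : (P : Subgroup G) ≤ G₁ := Subgroup.le_normalClosure
    by_cases htop : G₁ = ⊤
    · have hcl : ∀ K : Subgroup G, K.Normal → (P : Subgroup G) ≤ K → K = ⊤ := by
        intro K hK hPK
        have h1 : G₁ ≤ K := Subgroup.normalClosure_le_normal hPK
        rw [htop] at h1
        exact top_le_iff.mp h1
      letI := Fintype.ofFinite G
      have hlin : ∀ ψ : IrrCharacter G, classInner χ ψ.1 ≠ 0 → ψ.1 1 = 1 := by
        intro ψ hψ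
        obtain ⟨r, hr, -⟩ := constituent_degree hχ ψ hψ
        have hdψ : charDegree ψ.1 ≤ charDegree χ := by
          have h2 : χ 1 = ((charDegree ψ.1 + r : ℕ) : ℂ) := by
            rw [hr, irr_one_eq_charDegree]
            push_cast
            rfl
          rw [charDegree_of_natCast h2]
          omega
        have h3 : charDegree ψ.1 ^ 2 ≤ charDegree χ ^ 2 := Nat.pow_le_pow_left hdψ 2
        have h4 := linear_of_small P hstar hcl ψ (by omega)
        rw [irr_one_eq_charDegree, h4]
        simp
      have hcomm : ∀ a b : G, a * b = b * a := by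
        intro a b
        have h5 : a * b * a⁻¹ * b⁻¹ = 1 := by
          apply hfaith
          letI := fintypeIrr G
          obtain ⟨mm, hmm⟩ := isCharacter_iff.mp hχ
          have hinner : ∀ ψ : IrrCharacter G, classInner χ ψ.1 = mm ψ := by
            intro ψ
            rw [hmm, classInner_finsum_irr]
          rw [finsum_irr_eq_sum] at hmm
          rw [hmm, Finset.sum_apply, Finset.sum_apply]
          refine Finset.sum_congr rfl fun ψ _ => ?_
          rw [Pi.smul_apply, Pi.smul_apply]
          by_cases h0 : mm ψ = 0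
          · rw [h0]; simp
          · congr 1
            have hψ1 := hlin ψ (by rw [hinner]; exact_mod_cast h0)
            rw [irr_linear_mul ψ hψ1, irr_linear_mul ψ hψ1, irr_linear_mul ψ hψ1]
            have e1 : ψ.1 a * ψ.1 a⁻¹ = 1 := by
              rw [← irr_linear_mul ψ hψ1, mul_inv_cancel, hψ1]
            have e2 : ψ.1 b * ψ.1 b⁻¹ = 1 := by
              rw [← irr_linear_mul ψ hψ1, mul_inv_cancel, hψ1]
            rw [hψ1]
            calc ψ.1 a * ψ.1 b * ψ.1 a⁻¹ * ψ.1 b⁻¹
                = (ψ.1 a * ψ.1 a⁻¹) * (ψ.1 b * ψ.1 b⁻¹) := by ring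
              _ = 1 := by rw [e1, e2, mul_one]
        calc a * b = (a * b * a⁻¹ * b⁻¹) * b * a := by group
          _ = b * a := by rw [h5, one_mul]
      constructor
      intro x hx g
      have h6 : g * x * g⁻¹ = x := by rw [hcomm g x, mul_inv_cancel_right]
      rw [h6]
      exact hx
    · have hlt : Nat.card G₁ < m := by
        rw [← hm]
        have h1 : Nat.card G₁ ≤ Nat.card G := Subgroup.card_le_card_group G₁
        have h2 : Nat.card G₁ ≠ Nat.card G := fun h => htop ((Subgroup.card_eq_iff_eq_top G₁).mp h)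
        omega
      let P₁ : Sylow p G₁ := P.subtype hle
      have hstar₁ : ∀ x ∈ (P₁ : Subgroup G₁), x ≠ 1 → Subgroup.centralizer ({x} : Set G₁) =
          Subgroup.centralizer ((P₁ : Subgroup G₁) : Set G₁) := by
        intro x hx hx1
        have hxP : (x : G) ∈ (P : Subgroup G) := Subgroup.mem_subgroupOf.mp hx
        have hx1' : (x : G) ≠ 1 := fun h => hx1 (Subtype.ext h)
        have key := hstar (x : G) hxP hx1'
        ext c
        rw [mem_cent_singleton, Subgroup.mem_centralizer_iff]
        constructor
        · intro h y hy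
          have hc : (c : G) ∈ Subgroup.centralizer ({(x : G)} : Set G) :=
            mem_cent_singleton.mpr (congrArg Subtype.val h)
          rw [key] at hc
          apply Subtype.ext
          exact Subgroup.mem_centralizer_iff.mp hc (y : G) (Subgroup.mem_subgroupOf.mp hy)
        · intro h
          have hc : (c : G) ∈ Subgroup.centralizer ((P : Subgroup G) : Set G) := by
            rw [Subgroup.mem_centralizer_iff]
            intro y hy
            exact congrArg Subtype.val (h ⟨y, hle hy⟩ (Subgroup.mem_subgroupOf.mpr hy))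
          rw [← key] at hc
          apply Subtype.ext
          exact mem_cent_singleton.mp hc
      have hχ₁ : IsCharacter G₁ (fun g : G₁ => χ g) := isCharacter_restrict G₁ hχ
      have hfaith₁ : ∀ g : G₁, (fun g : G₁ => χ g) g = (fun g : G₁ => χ g) 1 → g = 1 := by
        intro g hg
        apply Subtype.ext
        exact hfaith g hg
      have hcard₁ : Nat.card P₁ = Nat.card P :=
        Nat.card_congr (Subgroup.subgroupOfEquivOfLe hle).toEquiv
      have hdeg₁ : charDegree (fun g : G₁ => χ g) ^ 2 + 1 < Nat.card P₁ := by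
        rw [hcard₁]
        exact hdeg
      have hnorm₁ : (P₁ : Subgroup G₁).Normal :=
        ih (Nat.card G₁) hlt G₁ rfl p P₁ hstar₁ _ hχ₁ hfaith₁ hdeg₁
      haveI : G₁.Normal := Subgroup.normalClosure_normal
      haveI hchar : (P₁ : Subgroup G₁).Characteristic := Sylow.characteristic_of_normal P₁ hnorm₁
      have hmap : ((P₁ : Subgroup G₁).map G₁.subtype).Normal :=
        ConjAct.normal_of_characteristic_of_normal
      have heq : (P₁ : Subgroup G₁).map G₁.subtype = (P : Subgroup G) := by
        change ((P : Subgroup G).subgroupOf G₁).map G₁.subtype = _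
        rw [Subgroup.subgroupOf_map_subtype]
        exact inf_eq_left.mpr hle
      rw [← heq]
      exact hmap

end Cfsg.Agent.H82.BL
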