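import Cfsg.Agent.H82.BL1

/-!
# Leonard's theorem, part 2: counting with the TI-set (helper82)

`sum_sing`: a sum of a class function over the `p`-singular elements of `G` is `|G|/|N|` times
the sum over the `p`-singular elements of `C`.  `ti_inner`: the resulting formula for inner
products of class functions of `G`.  Induction from `C` of functions vanishing on `p`-regular
elements.
-/

set_option autoImplicit false
set_option linter.style.haveILetI false
set_option linter.unusedSectionVars false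

namespace Cfsg.Agent.H82.BL

open Cfsg Cfsg.Agent.H4
open scoped ComplexConjugate
open Classical

universe u

variable {G : Type u} [Group G]

theorem orderOf_conj_left (x g : G) : orderOf (x * g * x⁻¹) = orderOf g :=
  (MulAut.conj x).orderOf_eq g

theorem orderOf_conj_right (x g : G) : orderOf (x⁻¹ * g * x) = orderOf g := by
  have h := orderOf_conj_left x⁻¹ g
  rwa [inv_inv] at h

variable [Fintype G] {p : ℕ} {N C P : Subgroup G} [Fintype N] [Fintype C]

theorem sum_coe_eq (C : Subgroup G) [Fintype C] (F : G → ℂ) :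
    ∑ c : C, F c = ∑ g : G, if g ∈ C then F g else 0 := by
  rw [← Finset.sum_filter]
  rw [Finset.sum_subtype (Finset.univ.filter fun g => g ∈ C) (p := fun g => g ∈ C) (by simp)]

/-- Sums over `p`-singular elements reduce to `C`. -/
theorem sum_sing (S : Setup p N C P) {f : G → ℂ} (hf : IsClassFunction G f) :
    (∑ g : G, if p ∣ orderOf g then f g else 0) * (Nat.card N : ℂ) =
      (Nat.card G : ℂ) * ∑ c : C, if p ∣ orderOf (c : G) then f c else 0 := by
  set A : ℂ := ∑ h : G, ∑ s : G, if (h * s * h⁻¹ ∈ C ∧ p ∣ orderOf s) then f s else 0 with hA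
  have h1 : A = (Nat.card G : ℂ) * ∑ c : C, if p ∣ orderOf (c : G) then f c else 0 := by
    have key : ∀ h : G, (∑ s : G, if (h * s * h⁻¹ ∈ C ∧ p ∣ orderOf s) then f s else 0) =
        ∑ c : C, if p ∣ orderOf (c : G) then f c else 0 := by
      intro h
      rw [sum_coe_eq C (fun g => if p ∣ orderOf g then f g else 0)]
      rw [← Equiv.sum_comp (MulAut.conj h).toEquiv
        (fun g => if g ∈ C then (if p ∣ orderOf g then f g else 0) else 0)]
      refine Finset.sum_congr rfl fun s _ => ?_
      have e1 : (MulAut.conj h).toEquiv s = h * s * h⁻¹ := rfl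
      rw [e1, orderOf_conj_left, hf s h]
      by_cases hc : h * s * h⁻¹ ∈ C <;> by_cases hs : p ∣ orderOf s <;> simp [hc, hs]
    rw [hA]
    simp only [key]
    rw [Finset.sum_const, Finset.card_univ, nsmul_eq_mul, Nat.card_eq_fintype_card (α := G)]
  have h2 : A = (∑ g : G, if p ∣ orderOf g then f g else 0) * (Nat.card N : ℂ) := by
    rw [hA, Finset.sum_comm, Finset.sum_mul]
    refine Finset.sum_congr rfl fun s _ => ?_
    by_cases hs : p ∣ orderOf s
    · obtain ⟨h₀, hh₀⟩ := S.conjIn s hs
      rw [if_pos hs]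
      rw [← Equiv.sum_comp (Equiv.mulRight h₀)
        (fun h => if (h * s * h⁻¹ ∈ C ∧ p ∣ orderOf s) then f s else 0)]
      have key : ∀ h : G, (if ((Equiv.mulRight h₀ h) * s * (Equiv.mulRight h₀ h)⁻¹ ∈ C ∧
          p ∣ orderOf s) then f s else 0) = if h ∈ N then f s else 0 := by
        intro h
        have e : (Equiv.mulRight h₀ h) * s * (Equiv.mulRight h₀ h)⁻¹ =
            h * (h₀ * s * h₀⁻¹) * h⁻¹ := by
          simp [mul_assoc]
        rw [e]
        by_cases hN : h ∈ N
        · rw [if_pos hN, if_pos ⟨S.normC h hN _ hh₀, hs⟩]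
        · rw [if_neg hN, if_neg]
          rintro ⟨hc, -⟩
          exact hN (S.ti h _ hh₀ (by rw [orderOf_conj_left]; exact hs) hc)
      simp only [key]
      rw [← sum_coe_eq N (fun _ => f s)]
      rw [Finset.sum_const, Finset.card_univ, nsmul_eq_mul, Nat.card_eq_fintype_card (α := N),
        mul_comm]
    · rw [if_neg hs, zero_mul]
      refine Finset.sum_eq_zero fun h _ => ?_
      rw [if_neg]
      rintro ⟨-, h'⟩
      exact hs h'
  rw [← h2, h1]

/-- The `p`-regular part of the inner product on `G`. -/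
noncomputable def piG (p : ℕ) (F F' : G → ℂ) : ℂ :=
  (Nat.card G : ℂ)⁻¹ * ∑ g : G, if p ∣ orderOf g then 0 else F g * conj (F' g)

/-- The sum over the `p`-regular elements of `C`. -/
noncomputable def SK (p : ℕ) (C : Subgroup G) [Fintype C] (F F' : G → ℂ) : ℂ :=
  ∑ c : C, if p ∣ orderOf (c : G) then 0 else F c * conj (F' c)

theorem ti_inner (S : Setup p N C P) {F F' : G → ℂ} (hF : IsClassFunction G F)
    (hF' : IsClassFunction G F') :
    classInner F F' = piG p F F' +
      (ind S : ℂ)⁻¹ * classInner (fun c : C => F c) (fun c : C => F' c) -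
        (Nat.card N : ℂ)⁻¹ * SK p C F F' := by
  have hf : IsClassFunction G (fun g => F g * conj (F' g)) := by
    intro g h
    change F (h * g * h⁻¹) * conj (F' (h * g * h⁻¹)) = F g * conj (F' g)
    rw [hF g h, hF' g h]
  have h1 := sum_sing S hf
  have hsplitG : ∑ g : G, F g * conj (F' g) =
      (∑ g : G, if p ∣ orderOf g then F g * conj (F' g) else 0) +
        ∑ g : G, if p ∣ orderOf g then 0 else F g * conj (F' g) := by
    rw [← Finset.sum_add_distrib]
    refine Finset.sum_congr rfl fun g _ => ?_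
    by_cases h : p ∣ orderOf g <;> simp [h]
  have hsplitC : ∑ c : C, F c * conj (F' c) =
      (∑ c : C, if p ∣ orderOf (c : G) then F c * conj (F' c) else 0) + SK p C F F' := by
    unfold SK
    rw [← Finset.sum_add_distrib]
    refine Finset.sum_congr rfl fun g _ => ?_
    by_cases h : p ∣ orderOf (g : G)
    · rw [if_pos h, if_pos h, add_zero]
    · rw [if_neg h, if_neg h, zero_add]
  have hG : (Nat.card G : ℂ) ≠ 0 := by
    have : 0 < Nat.card G := Nat.card_pos
    exact_mod_cast this.ne'
  have hN : (Nat.card N : ℂ) ≠ 0 := cardC_ne_zero N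
  have hC : (Nat.card C : ℂ) ≠ 0 := cardC_ne_zero C
  have hNC := cardN_cast S
  have he : (ind S : ℂ) ≠ 0 := by exact_mod_cast (ind_pos S).ne'
  have h3 : (∑ g : G, if p ∣ orderOf g then F g * conj (F' g) else 0) =
      (Nat.card G : ℂ) * (Nat.card N : ℂ)⁻¹ * (∑ c : C, F c * conj (F' c) - SK p C F F') := by
    rw [hsplitC, add_sub_cancel_right]
    have h4 : (∑ g : G, if p ∣ orderOf g then F g * conj (F' g) else 0) =
        ((∑ g : G, if p ∣ orderOf g then F g * conj (F' g) else 0) * (Nat.card N : ℂ)) *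
          (Nat.card N : ℂ)⁻¹ := by
      rw [mul_assoc, mul_inv_cancel₀ hN, mul_one]
    rw [h4, h1]
    ring
  unfold classInner piG
  rw [hsplitG, h3, hNC]
  field_simp
  ring

theorem piG_congr {F₁ F₁' F₂ F₂' : G → ℂ} (h : ∀ g, ¬ p ∣ orderOf g → F₁ g = F₂ g)
    (h' : ∀ g, ¬ p ∣ orderOf g → F₁' g = F₂' g) : piG p F₁ F₁' = piG p F₂ F₂' := by
  unfold piG
  congr 1
  refine Finset.sum_congr rfl fun g _ => ?_
  by_cases hg : p ∣ orderOf g
  · simp [hg]
  · simp [hg, h g hg, h' g hg]

theorem SK_congr {F₁ F₁' F₂ F₂' : G → ℂ} (h : ∀ c : C, ¬ p ∣ orderOf (c : G) → F₁ c = F₂ c)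
    (h' : ∀ c : C, ¬ p ∣ orderOf (c : G) → F₁' c = F₂' c) :
    SK p C F₁ F₁' = SK p C F₂ F₂' := by
  unfold SK
  refine Finset.sum_congr rfl fun g _ => ?_
  by_cases hg : p ∣ orderOf (g : G)
  · rw [if_pos hg, if_pos hg]
  · rw [if_neg hg, if_neg hg, h g hg, h' g hg]

theorem mul_conj_eq_norm_sq (z : ℂ) : z * conj z = ((‖z‖ ^ 2 : ℝ) : ℂ) := by
  rw [Complex.mul_conj, Complex.normSq_eq_norm_sq]

theorem piG_self (F : G → ℂ) : piG p F F =
    (((Nat.card G : ℝ)⁻¹ * ∑ g : G, if p ∣ orderOf g then 0 else ‖F g‖ ^ 2 : ℝ) : ℂ) := by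
  unfold piG
  push_cast
  congr 1
  refine Finset.sum_congr rfl fun g _ => ?_
  by_cases hg : p ∣ orderOf g
  · rw [if_pos hg, if_pos hg]; simp
  · rw [if_neg hg, if_neg hg, mul_conj_eq_norm_sq]

theorem SK_self (F : G → ℂ) : SK p C F F =
    ((∑ c : C, if p ∣ orderOf (c : G) then 0 else ‖F c‖ ^ 2 : ℝ) : ℂ) := by
  unfold SK
  push_cast
  refine Finset.sum_congr rfl fun g _ => ?_
  by_cases hg : p ∣ orderOf (g : G)
  · rw [if_pos hg, if_pos hg]; simp
  · rw [if_neg hg, if_neg hg, mul_conj_eq_norm_sq]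

/-- Induction from `C` of a function vanishing on `p`-regular elements restricts to the
`N`-trace. -/
theorem indFun_eq_trN (S : Setup p N C P) (f : C → ℂ)
    (hf0 : ∀ c : C, ¬ p ∣ orderOf (c : G) → f c = 0) (c : C) :
    indFun C f c = trN S f c := by
  rw [indFun_apply]
  unfold trN
  congr 1
  by_cases hc : p ∣ orderOf (c : G)
  · have h1 : ∀ x : G, extendByZero C f (x⁻¹ * c * x) =
        extendByZero N (fun n : N => f (cj S n⁻¹ c)) x := by
      intro x
      by_cases hx : x ∈ N
      · rw [extendByZero_of_mem N _ hx]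
        have e : x⁻¹ * (c : G) * x = ((cj S (⟨x, hx⟩ : N)⁻¹ c : C) : G) := by
          rw [cj_coe]; simp
        rw [e, extendByZero_coe]
      · rw [extendByZero_of_not_mem N _ hx]
        apply extendByZero_of_not_mem
        intro hmem
        apply hx
        have h2 := S.ti x⁻¹ c c.2 hc (by simpa using hmem)
        simpa using N.inv_mem h2
    simp only [h1]
    rw [sum_extendByZero N]
    exact Equiv.sum_comp (Equiv.inv N) (fun n : N => f (cj S n c))
  · rw [Finset.sum_eq_zero, Finset.sum_eq_zero]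
    · intro n _
      apply hf0
      rw [orderOf_cj]
      exact hc
    · intro x _
      by_cases hx : x⁻¹ * (c : G) * x ∈ C
      · rw [extendByZero_of_mem _ _ hx]
        apply hf0
        change ¬ p ∣ orderOf (x⁻¹ * (c : G) * x)
        rw [orderOf_conj_right]
        exact hc
      · exact extendByZero_of_not_mem _ _ hx

theorem indFun_reg (f : C → ℂ) (hf0 : ∀ c : C, ¬ p ∣ orderOf (c : G) → f c = 0) (g : G)
    (hg : ¬ p ∣ orderOf g) : indFun C f g = 0 := by
  rw [indFun_apply, Finset.sum_eq_zero, mul_zero]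
  intro x _
  by_cases hx : x⁻¹ * g * x ∈ C
  · rw [extendByZero_of_mem _ _ hx]
    apply hf0
    change ¬ p ∣ orderOf (x⁻¹ * g * x)
    rw [orderOf_conj_right]
    exact hg
  · exact extendByZero_of_not_mem _ _ hx

end Cfsg.Agent.H82.BL
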