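import Cfsg.Agent.H82.BL2
import Cfsg.Agent.H4.CharBasic

/-!
# Leonard's theorem, part 3: restriction of a small character to `C` (helper82)

Sums over `p`-regular elements of `C`, central homs of irreducible characters of `C`, stabilizers
in `N`, norms of traces, and `restrict_eq_trN`: an irreducible character `ψ` of `G` with
`ψ(1)² < |P|` not trivial on `P` restricts to `C` as the `N`-trace of an irreducible character.
-/

set_option autoImplicit false
set_option linter.style.haveILetI false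
set_option linter.unusedSectionVars false

namespace Cfsg.Agent.H82.BL

open Cfsg Cfsg.Agent.H4
open scoped ComplexConjugate
open Classical

universe u

section General

variable {A : Type u} [Group A]

theorem inner_self_real [Fintype A] (f : A → ℂ) :
    classInner f f = (((Nat.card A : ℝ)⁻¹ * ∑ g : A, ‖f g‖ ^ 2 : ℝ) : ℂ) := by
  unfold classInner
  push_cast
  congr 1
  refine Finset.sum_congr rfl fun g _ => ?_
  rw [mul_conj_eq_norm_sq]
  push_cast
  rfl

theorem inner_self_nonneg [Fintype A] (f : A → ℂ) :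
    0 ≤ (Nat.card A : ℝ)⁻¹ * ∑ g : A, ‖f g‖ ^ 2 :=
  mul_nonneg (inv_nonneg.mpr (Nat.cast_nonneg _)) (Finset.sum_nonneg fun g _ => sq_nonneg _)

theorem eq_zero_of_inner_self [Fintype A] {f : A → ℂ} (h : classInner f f = 0) : f = 0 := by
  rw [inner_self_real] at h
  have h1 : (Nat.card A : ℝ)⁻¹ * ∑ g : A, ‖f g‖ ^ 2 = 0 := by exact_mod_cast h
  have hN : (Nat.card A : ℝ)⁻¹ ≠ 0 := by
    have : 0 < Nat.card A := Nat.card_pos
    have : (0 : ℝ) < Nat.card A := by exact_mod_cast this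
    exact (inv_pos.mpr this).ne'
  have h2 : ∑ g : A, ‖f g‖ ^ 2 = 0 := by
    rcases mul_eq_zero.mp h1 with h | h
    · exact absurd h hN
    · exact h
  have h3 := (Finset.sum_eq_zero_iff_of_nonneg (fun g _ => sq_nonneg (‖f g‖))).mp h2
  funext g
  have := h3 g (Finset.mem_univ g)
  have h4 : ‖f g‖ = 0 := pow_eq_zero_iff two_ne_zero |>.mp this
  simpa using h4

theorem irr_norm_le_deg [Finite A] (χ : IrrCharacter A) (g : A) :
    ‖χ.1 g‖ ≤ (charDegree χ.1 : ℝ) := by
  obtain ⟨n, ρ, -, hχ, -, -, hd⟩ := Cfsg.Agent.H82.irr_rep χ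
  have h := character_norm_le ρ g
  rw [hχ, Module.finrank_fin_fun] at h
  rw [hd]
  exact h

theorem norm_hom_eq_one [Finite A] (ω : A →* ℂˣ) (x : A) : ‖((ω x : ℂˣ) : ℂ)‖ = 1 := by
  have h1 : ((ω x : ℂˣ) : ℂ) ^ orderOf x = 1 := by
    rw [← Units.val_pow_eq_pow_val, ← map_pow, pow_orderOf_eq_one, map_one, Units.val_one]
  exact Complex.norm_eq_one_of_pow_eq_one h1 (orderOf_pos x).ne'

theorem conj_hom [Finite A] (ω : A →* ℂˣ) (x : A) :
    conj ((ω x : ℂˣ) : ℂ) = ((ω⁻¹ x : ℂˣ) : ℂ) := by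
  rw [MonoidHom.inv_apply, Units.val_inv_eq_inv_val]
  exact (Complex.inv_eq_conj (norm_hom_eq_one ω x)).symm

end General

variable {G : Type u} [Group G] [Fintype G] {p : ℕ} {N C P : Subgroup G} [Fintype N] [Fintype C]

/-- Sums of `P`-invariant functions over the `p`-regular elements of `C`. -/
theorem sum_reg {R : Type*} [CommSemiring R] (S : Setup p N C P) (g : C → R)
    (hg : ∀ (x : P.subgroupOf C) (c : C), g ((x : C) * c) = g c) :
    (Nat.card P : R) * ∑ c : C, (if p ∣ orderOf (c : G) then 0 else g c) = ∑ c : C, g c := by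
  haveI : Fintype (P.subgroupOf C) := Fintype.ofFinite _
  have h1 : ∑ c : C, g c = ∑ x : P.subgroupOf C, ∑ c : C, if S.ρ c = x then g c else 0 := by
    rw [Finset.sum_comm]
    refine Finset.sum_congr rfl fun c _ => ?_
    rw [Finset.sum_ite_eq]
    simp
  have h2 : ∀ x : P.subgroupOf C, (∑ c : C, if S.ρ c = x then g c else 0) =
      ∑ c : C, (if p ∣ orderOf (c : G) then 0 else g c) := by
    intro x
    rw [← Equiv.sum_comp (Equiv.mulLeft (x : C)) (fun c => if S.ρ c = x then g c else 0)]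
    refine Finset.sum_congr rfl fun c _ => ?_
    rw [Equiv.coe_mulLeft, map_mul, S.hρ, hg]
    by_cases hc : p ∣ orderOf (c : G)
    · rw [if_pos hc, if_neg]
      intro h
      have h' : S.ρ c = 1 := by simpa using h
      exact ((S.hreg c).mpr h') hc
    · rw [if_neg hc, if_pos]
      rw [(S.hreg c).mp hc, mul_one]
  rw [h1]
  simp only [h2]
  rw [Finset.sum_const, Finset.card_univ, nsmul_eq_mul, ← Nat.card_eq_fintype_card,
    Nat.card_congr (Subgroup.subgroupOfEquivOfLe S.hPC).toEquiv]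

/-- `ω` is the central hom of `ϑ` on `P`. -/
def IsCen (ϑ : C → ℂ) (ω : P.subgroupOf C →* ℂˣ) : Prop :=
  ∀ (x : P.subgroupOf C) (c : C), ϑ ((x : C) * c) = ((ω x : ℂˣ) : ℂ) * ϑ c

theorem exists_isCen (S : Setup p N C P) (ϑ : IrrCharacter C) :
    ∃ ω : P.subgroupOf C →* ℂˣ, IsCen ϑ.1 ω := by
  obtain ⟨ω, hω⟩ := exists_central_hom ϑ (P.subgroupOf C) (by
    intro z hz g
    apply Subtype.ext
    exact (S.cent (z : G) (Subgroup.mem_subgroupOf.mp hz) g g.2).symm)
  exact ⟨ω, hω⟩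

theorem IsCen.comp_cj (S : Setup p N C P) {ϑ : C → ℂ} {ω : P.subgroupOf C →* ℂˣ}
    (h : IsCen ϑ ω) (n : N) : IsCen (fun c => ϑ (cj S n c)) (ω.comp (cjP S n)) := by
  intro x c
  change ϑ (cj S n ((x : C) * c)) = ((ω (cjP S n x) : ℂˣ) : ℂ) * ϑ (cj S n c)
  rw [map_mul, ← cjP_coe, h]

theorem IsCen.eq_of {ϑ : C → ℂ} {ω ω' : P.subgroupOf C →* ℂˣ} (h : IsCen ϑ ω)
    (h' : IsCen ϑ ω') (h1 : ϑ 1 ≠ 0) : ω = ω' := by
  ext x
  have e1 := h x 1
  have e2 := h' x 1
  rw [e1] at e2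
  exact mul_right_cancel₀ h1 e2

theorem stab_mem (S : Setup p N C P) {ϑ : C → ℂ} {ω : P.subgroupOf C →* ℂˣ} (h : IsCen ϑ ω)
    (hω : ω ≠ 1) (h1 : ϑ 1 ≠ 0) (n : N) (hn : (fun c => ϑ (cj S n c)) = ϑ) : (n : G) ∈ C := by
  by_contra hnC
  apply hω
  apply dual_semireg S n hnC ω
  have h2 := h.comp_cj S n
  rw [hn] at h2
  exact IsCen.eq_of h2 h h1

theorem inner_irr_trN (S : Setup p N C P) (ϑ ϑ' : IrrCharacter C) :
    classInner ϑ.1 (trN S ϑ'.1) = (Nat.card C : ℂ)⁻¹ *
      ((Finset.univ.filter fun n : N => (fun c => ϑ'.1 (cj S n c)) = ϑ.1).card : ℂ) := by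
  rw [classInner_trN_right]
  congr 1
  rw [Finset.card_filter]
  push_cast
  refine Finset.sum_congr rfl fun n _ => ?_
  have hirr : IsIrrCharacter C (fun c => ϑ'.1 (cj S n c)) :=
    Cfsg.Agent.Clifford.isIrrCharacter_comp_equiv (cj S n) ϑ'.2
  have h := irr_inner ϑ (⟨_, hirr⟩ : IrrCharacter C)
  rw [h]
  by_cases h' : (fun c => ϑ'.1 (cj S n c)) = ϑ.1
  · rw [if_pos h', if_pos]
    exact Subtype.ext h'.symm
  · rw [if_neg h', if_neg]
    intro h''
    exact h' (congrArg Subtype.val h'').symm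

theorem inner_self_trN (S : Setup p N C P) (ϑ : IrrCharacter C) {ω : P.subgroupOf C →* ℂˣ}
    (h : IsCen ϑ.1 ω) (hω : ω ≠ 1) : classInner ϑ.1 (trN S ϑ.1) = 1 := by
  rw [inner_irr_trN]
  have e : (Finset.univ.filter fun n : N => (fun c => ϑ.1 (cj S n c)) = ϑ.1) =
      Finset.univ.filter (fun n : N => (n : G) ∈ C) := by
    ext n
    simp only [Finset.mem_filter, Finset.mem_univ, true_and]
    constructor
    · intro hn
      exact stab_mem S h hω (Cfsg.Agent.H82.irr_one_ne_zero ϑ) n hn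
    · intro hn
      exact comp_cj_of_mem S (irr_isClassFunction ϑ) n hn
  rw [e, card_filter_mem S.hCN, inv_mul_cancel₀ (cardC_ne_zero C)]

theorem norm_trN (S : Setup p N C P) (ϑ : IrrCharacter C) {ω : P.subgroupOf C →* ℂˣ}
    (h : IsCen ϑ.1 ω) (hω : ω ≠ 1) : classInner (trN S ϑ.1) (trN S ϑ.1) = (ind S : ℂ) := by
  rw [inner_trN_ninv S (ninv_trN S _), inner_self_trN S ϑ h hω, mul_one]

theorem inner_trN_of_not (S : Setup p N C P) (ϑ ϑ' : IrrCharacter C)
    (h : ∀ n : N, (fun c => ϑ'.1 (cj S n c)) ≠ ϑ.1) : classInner ϑ.1 (trN S ϑ'.1) = 0 := by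
  rw [inner_irr_trN, Finset.filter_false_of_mem (fun n _ => h n)]
  simp

/-- A character of `G` not constant on `P` has a constituent on `C` with nontrivial central
hom. -/
theorem exists_constituent (S : Setup p N C P) {Φ : G → ℂ} (hΦ : IsCharacter G Φ) (x : G)
    (hx : x ∈ P) (hne : Φ x ≠ Φ 1) :
    ∃ (ϑ : IrrCharacter C) (ω : P.subgroupOf C →* ℂˣ), IsCen ϑ.1 ω ∧ ω ≠ 1 ∧
      classInner (fun c : C => Φ c) ϑ.1 ≠ 0 := by
  by_contra hcon
  push Not at hcon
  letI := fintypeIrr C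
  have hres : IsCharacter C (fun c : C => Φ c) := isCharacter_restrict C hΦ
  obtain ⟨m, hm⟩ := isCharacter_iff.mp hres
  have hinner : ∀ ϑ : IrrCharacter C, classInner (fun c : C => Φ c) ϑ.1 = m ϑ := by
    intro ϑ
    rw [hm, classInner_finsum_irr]
  rw [finsum_irr_eq_sum] at hm
  apply hne
  have hxC : x ∈ C := S.hPC hx
  have e1 : Φ x = (fun c : C => Φ c) ⟨x, hxC⟩ := rfl
  have e2 : Φ 1 = (fun c : C => Φ c) 1 := rfl
  rw [e1, e2, hm, Finset.sum_apply, Finset.sum_apply]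
  refine Finset.sum_congr rfl fun ϑ _ => ?_
  rw [Pi.smul_apply, Pi.smul_apply]
  by_cases hm0 : m ϑ = 0
  · rw [hm0]; simp
  · congr 1
    obtain ⟨ω, hω⟩ := exists_isCen S ϑ
    have hω1 : ω = 1 := by
      by_contra hω1
      have h0 := hcon ϑ ω hω hω1
      rw [hinner] at h0
      exact hm0 (by exact_mod_cast h0)
    have h2 := hω ⟨⟨x, hxC⟩, Subgroup.mem_subgroupOf.mpr hx⟩ 1
    rw [hω1] at h2
    simpa using h2

/-- Structure of the restriction to `C` of a small irreducible character. -/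
theorem restrict_eq_trN (S : Setup p N C P) (ψ : IrrCharacter G) (ϑ : IrrCharacter C)
    {ω : P.subgroupOf C →* ℂˣ} (hω : IsCen ϑ.1 ω) (hω1 : ω ≠ 1)
    (hϑ : classInner (fun c : C => ψ.1 c) ϑ.1 ≠ 0)
    (hdeg : charDegree ψ.1 ^ 2 < Nat.card P) :
    (fun c : C => ψ.1 c) = trN S ϑ.1 := by
  set ψC : C → ℂ := fun c : C => ψ.1 c with hψC
  have hres : IsCharacter C ψC := isCharacter_restrict C (isCharacter_of_isIrrCharacter ψ.2)
  obtain ⟨m, hm⟩ := classInner_isCharacter_nat hres hres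
  obtain ⟨a, ha⟩ := classInner_isCharacter_nat hres (isCharacter_of_isIrrCharacter ϑ.2)
  have ha0 : 1 ≤ a := by
    rcases Nat.eq_zero_or_pos a with h | h
    · exfalso; apply hϑ; rw [ha, h]; simp
    · exact h
  have hepos : 0 < ind S := ind_pos S
  have hNC : (Nat.card N : ℝ) = (ind S : ℝ) * (Nat.card C : ℝ) := by
    rw [← ind_mul S]; push_cast; rfl
  have hCpos : (0 : ℝ) < Nat.card C := by
    have : 0 < Nat.card C := Nat.card_pos
    exact_mod_cast this
  have hEpos : (0 : ℝ) < ind S := by exact_mod_cast hepos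
  -- Step 1: `m ≤ e`
  have hm_le : m ≤ ind S := by
    have h1 := ti_inner S (irr_isClassFunction ψ) (irr_isClassFunction ψ)
    rw [irr_inner_self, hm, piG_self, SK_self] at h1
    set r1 : ℝ := (Nat.card G : ℝ)⁻¹ * ∑ g : G, if p ∣ orderOf g then 0 else ‖ψ.1 g‖ ^ 2
      with hr1
    set r2 : ℝ := ∑ c : C, if p ∣ orderOf (c : G) then 0 else ‖ψ.1 c‖ ^ 2 with hr2
    have hr1nn : 0 ≤ r1 := by
      apply mul_nonneg (inv_nonneg.mpr (Nat.cast_nonneg _))
      refine Finset.sum_nonneg fun g _ => ?_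
      split_ifs
      · exact le_refl _
      · exact sq_nonneg _
    have h1R : (1 : ℝ) = r1 + (ind S : ℝ)⁻¹ * m - (Nat.card N : ℝ)⁻¹ * r2 := by
      apply Complex.ofReal_injective
      push_cast
      exact h1
    set d : ℝ := (charDegree ψ.1 : ℝ) with hd
    have hr2le : r2 ≤ ∑ c : C, if p ∣ orderOf (c : G) then 0 else d ^ 2 := by
      refine Finset.sum_le_sum fun c _ => ?_
      split_ifs
      · exact le_refl _
      · have := irr_norm_le_deg ψ (c : G)
        exact pow_le_pow_left₀ (norm_nonneg _) this 2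
    have hr3 := sum_reg S (fun _ : C => d ^ 2) (fun _ _ => rfl)
    rw [Finset.sum_const, Finset.card_univ, nsmul_eq_mul, ← Nat.card_eq_fintype_card] at hr3
    have hdq : d ^ 2 < (Nat.card P : ℝ) := by
      rw [hd]; exact_mod_cast hdeg
    have hqpos : (0 : ℝ) < Nat.card P := by
      have : 0 < Nat.card P := Nat.card_pos
      exact_mod_cast this
    have hr2lt : r2 < Nat.card C := by
      have h5 : (Nat.card P : ℝ) * r2 ≤ (Nat.card C : ℝ) * d ^ 2 := by
        rw [← hr3]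
        exact mul_le_mul_of_nonneg_left hr2le hqpos.le
      have h6 : (Nat.card C : ℝ) * d ^ 2 < (Nat.card C : ℝ) * (Nat.card P : ℝ) :=
        mul_lt_mul_of_pos_left hdq hCpos
      have h7 : (Nat.card P : ℝ) * r2 < (Nat.card P : ℝ) * (Nat.card C : ℝ) := by
        rw [mul_comm (Nat.card P : ℝ) (Nat.card C : ℝ)]
        exact lt_of_le_of_lt h5 h6
      exact lt_of_mul_lt_mul_left h7 hqpos.le
    have hmR : (m : ℝ) = (ind S : ℝ) * (1 - r1) + r2 / (Nat.card C : ℝ) := by
      rw [hNC] at h1R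
      field_simp at h1R ⊢
      linarith
    have hlt : (m : ℝ) < (ind S : ℝ) + 1 := by
      have h8 : r2 / (Nat.card C : ℝ) < 1 := by
        rw [div_lt_one hCpos]; exact hr2lt
      have h9 : (ind S : ℝ) * (1 - r1) ≤ (ind S : ℝ) := by nlinarith
      linarith
    have : m < ind S + 1 := by exact_mod_cast hlt
    omega
  -- Step 2: the norm of the difference vanishes
  have hinv : NInv S ψC := ninv_res S (irr_isClassFunction ψ)
  have e1 : classInner ψC (trN S ϑ.1) = (ind S : ℂ) * a := by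
    rw [inner_ninv_trN S hinv, ha]
  have e2 : classInner (trN S ϑ.1) ψC = (ind S : ℂ) * a := by
    rw [inner_trN_ninv S hinv, ← classInner_conj_symm, ha]
    simp
  have e3 := norm_trN S ϑ hω hω1
  have hzero : classInner (ψC - trN S ϑ.1) (ψC - trN S ϑ.1) = 0 := by
    have h1 : classInner (ψC - trN S ϑ.1) (ψC - trN S ϑ.1) =
        (((m : ℝ) - 2 * (ind S : ℝ) * a + (ind S : ℝ) : ℝ) : ℂ) := by
      rw [classInner_sub_left, classInner_sub_right, classInner_sub_right, hm, e1, e2, e3]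
      push_cast
      ring
    have h2 := inner_self_real (ψC - trN S ϑ.1)
    have h3 := inner_self_nonneg (ψC - trN S ϑ.1)
    rw [h1] at h2
    have h4 : (m : ℝ) - 2 * (ind S : ℝ) * a + (ind S : ℝ) =
        (Nat.card C : ℝ)⁻¹ * ∑ g : C, ‖(ψC - trN S ϑ.1) g‖ ^ 2 := by exact_mod_cast h2
    have h5 : (m : ℝ) ≤ ind S := by exact_mod_cast hm_le
    have h6 : (1 : ℝ) ≤ a := by exact_mod_cast ha0
    have h7 : (m : ℝ) - 2 * (ind S : ℝ) * a + (ind S : ℝ) ≤ 0 := by nlinarith
    have h8 : (m : ℝ) - 2 * (ind S : ℝ) * a + (ind S : ℝ) = 0 := le_antisymm h7 (h4 ▸ h3)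
    rw [h1, h8]
    simp
  have := eq_zero_of_inner_self hzero
  exact sub_eq_zero.mp this

end Cfsg.Agent.H82.BL
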