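import Mathlib
import Cfsg.Prelude.Def_Characters
import Cfsg.Agent.H4.Chars
import Cfsg.Agent.H4.Induction
import Cfsg.Agent.H82.Irr
import Cfsg.Agent.H82.IndDeg
import Cfsg.Agent.H82.PermChar
import Cfsg.Agent.H82.CosetAvg

/-!
# Fully ramified characters and coset averages of class functions

* `nAvg N Θ g = |N|⁻¹ ∑_{x ∈ N} Θ (x g)`; its inner products with irreducible characters.
* `fully_ramified_vanish`: `χ|_N = e θ`, `e² = [G:N]` ⟹ `χ` vanishes off `N`.
* `fully_ramified_unique`: then `χ` is the only irreducible character of `G` over `θ`.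
-/

set_option autoImplicit false

namespace Cfsg.Agent.H82

open Cfsg.Agent.H4
open scoped ComplexConjugate

section NAvg

variable {G : Type*} [Group G] [Fintype G]

/-- The average of a function over the coset `N g`. -/
noncomputable def nAvg (N : Subgroup G) [Fintype N] (Θ : G → ℂ) (g : G) : ℂ :=
  (Nat.card N : ℂ)⁻¹ * ∑ x : N, Θ ((x : G) * g)

theorem nAvg_isClassFunction (N : Subgroup G) [N.Normal] [Fintype N] {Θ : G → ℂ}
    (hΘ : Cfsg.IsClassFunction G Θ) : Cfsg.IsClassFunction G (nAvg N Θ) := by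
  intro g h
  unfold nAvg
  congr 1
  refine ((Equiv.sum_comp (MulAut.conjNormal h : MulAut N).toEquiv
    (fun x : N => Θ ((x : G) * (h * g * h⁻¹)))).symm).trans ?_
  refine Finset.sum_congr rfl fun x _ => ?_
  have h1 : (((MulAut.conjNormal h : MulAut N).toEquiv x : N) : G) * (h * g * h⁻¹) =
      h * ((x : G) * g) * h⁻¹ := by
    change ((MulAut.conjNormal h x : N) : G) * (h * g * h⁻¹) = h * ((x : G) * g) * h⁻¹
    rw [MulAut.conjNormal_apply]
    group
  rw [h1, hΘ]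

theorem classInner_nAvg_aux (N : Subgroup G) [Fintype N] (Θ : G → ℂ) (ψ : G → ℂ) :
    Cfsg.classInner (nAvg N Θ) ψ =
      (Nat.card G : ℂ)⁻¹ * ((Nat.card N : ℂ)⁻¹ *
        ∑ g : G, Θ g * ∑ x : N, conj (ψ ((x : G) * g))) := by
  have hswap := sum_coset_swap N Θ (fun g => conj (ψ g))
  rw [← hswap]
  unfold Cfsg.classInner nAvg
  congr 1
  rw [Finset.mul_sum]
  refine Finset.sum_congr rfl fun g _ => ?_
  ring

theorem classInner_nAvg_of_ker (N : Subgroup G) [N.Normal] [Fintype N] (Θ : G → ℂ)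
    (ψ : Cfsg.IrrCharacter G) (hker : ∀ x ∈ N, ψ.1 x = ψ.1 1) :
    Cfsg.classInner (nAvg N Θ) ψ.1 = Cfsg.classInner Θ ψ.1 := by
  have hN0 : (Nat.card N : ℂ) ≠ 0 := by
    have : 0 < Nat.card N := Nat.card_pos
    exact_mod_cast this.ne'
  rw [classInner_nAvg_aux]
  have h2 : ∀ g : G, ∑ x : N, conj (ψ.1 ((x : G) * g)) = (Nat.card N : ℂ) * conj (ψ.1 g) := by
    intro g
    have : ∀ x : N, conj (ψ.1 ((x : G) * g)) = conj (ψ.1 g) := by
      intro x
      rw [(irr_mul_of_mem_irrKer ψ ((mem_irrKer ψ _).mpr (hker x x.2)) g).1]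
    simp only [this, Finset.sum_const, Finset.card_univ, nsmul_eq_mul, Nat.card_eq_fintype_card]
  simp only [h2]
  unfold Cfsg.classInner
  congr 1
  rw [Finset.mul_sum]
  refine Finset.sum_congr rfl fun g _ => ?_
  field_simp

theorem classInner_nAvg_of_not_ker (N : Subgroup G) [N.Normal] [Fintype N] (Θ : G → ℂ)
    (ψ : Cfsg.IrrCharacter G) (hker : ∃ x ∈ N, ψ.1 x ≠ ψ.1 1) :
    Cfsg.classInner (nAvg N Θ) ψ.1 = 0 := by
  classical
  rw [classInner_nAvg_aux]
  have h2 : ∀ g : G, ∑ x : N, conj (ψ.1 ((x : G) * g)) = 0 := by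
    intro g
    rw [← map_sum]
    have h3 := irr_sum_normal_mul_eq_zero ψ N hker g
    rw [Finset.sum_subtype (Finset.univ.filter (· ∈ N)) (p := (· ∈ N)) (fun x => by simp)
      (fun n => ψ.1 (n * g))] at h3
    rw [h3, map_zero]
  simp [h2]

/-- A class function orthogonal to all irreducible characters with `N` in the kernel has
vanishing coset averages. -/
theorem nAvg_eq_zero (N : Subgroup G) [N.Normal] [Fintype N] {Θ : G → ℂ}
    (hΘ : Cfsg.IsClassFunction G Θ)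
    (h : ∀ ψ : Cfsg.IrrCharacter G, (∀ x ∈ N, ψ.1 x = ψ.1 1) → Cfsg.classInner Θ ψ.1 = 0) :
    nAvg N Θ = 0 := by
  rw [classFunction_eq_finsum (nAvg_isClassFunction N hΘ)]
  apply finsum_eq_zero_of_forall_eq_zero
  intro ψ
  by_cases hker : ∀ x ∈ N, ψ.1 x = ψ.1 1
  · rw [classInner_nAvg_of_ker N Θ ψ hker, h ψ hker, zero_smul]
  · push Not at hker
    rw [classInner_nAvg_of_not_ker N Θ ψ hker, zero_smul]

end NAvg

section Ramified

variable {G : Type*} [Group G] [Fintype G]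

theorem irr_norm_sq_real (χ : Cfsg.IrrCharacter G) :
    ∑ g : G, ‖χ.1 g‖ ^ 2 = (Nat.card G : ℝ) := by
  have h2 := irr_norm_sq χ
  have h3 : ∀ g, χ.1 g * (starRingEnd ℂ) (χ.1 g) = ((‖χ.1 g‖ ^ 2 : ℝ) : ℂ) := by
    intro g
    rw [Complex.mul_conj, Complex.normSq_eq_norm_sq]
  simp only [h3] at h2
  exact_mod_cast h2

/-- A fully ramified character vanishes off the subgroup. -/
theorem fully_ramified_vanish (N : Subgroup G) [Fintype N] (χ : Cfsg.IrrCharacter G)
    (θ : Cfsg.IrrCharacter N) (e : ℕ) (he : e ^ 2 = N.index)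
    (hχθ : ∀ n : N, χ.1 n = (e : ℂ) * θ.1 n) (g : G) (hg : g ∉ N) : χ.1 g = 0 := by
  classical
  have h1 := irr_norm_sq_real χ
  have h2 := irr_norm_sq_real θ
  have h3 : ∑ g ∈ Finset.univ.filter (· ∈ N), ‖χ.1 g‖ ^ 2 = (Nat.card G : ℝ) := by
    rw [Finset.sum_subtype (Finset.univ.filter (· ∈ N)) (p := (· ∈ N)) (fun x => by simp)
      (fun g => ‖χ.1 g‖ ^ 2)]
    have h4 : ∀ n : N, ‖χ.1 n‖ ^ 2 = (e : ℝ) ^ 2 * ‖θ.1 n‖ ^ 2 := by
      intro n
      rw [hχθ n, norm_mul, mul_pow, Complex.norm_natCast]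
    simp only [h4]
    rw [← Finset.mul_sum, h2, ← Subgroup.index_mul_card N, ← he]
    push_cast
    ring
  rw [← Finset.sum_filter_add_sum_filter_not Finset.univ (· ∈ N), h3] at h1
  have h5 : ∑ g ∈ Finset.univ.filter (fun g => ¬ g ∈ N), ‖χ.1 g‖ ^ 2 = 0 := by linarith
  have h6 := (Finset.sum_eq_zero_iff_of_nonneg (fun g _ => by positivity)).mp h5 g
    (by simp [hg])
  have h7 : ‖χ.1 g‖ = 0 := by
    rcases pow_eq_zero_iff (n := 2) (by norm_num) |>.mp h6 with h
    exact h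
  exact norm_eq_zero.mp h7

/-- A fully ramified character is the unique irreducible character over `θ`. -/
theorem fully_ramified_unique (N : Subgroup G) [Fintype N] (χ : Cfsg.IrrCharacter G)
    (θ : Cfsg.IrrCharacter N) (e : ℕ) (he : e ^ 2 = N.index)
    (hχθ : ∀ n : N, χ.1 n = (e : ℂ) * θ.1 n) (ξ : Cfsg.IrrCharacter G) (hξ : ξ ≠ χ) :
    Cfsg.classInner (fun n : N => ξ.1 n) θ.1 = 0 := by
  classical
  letI := fintypeIrr G
  set Φ := Cfsg.indFun N θ.1 with hΦdef
  have hΦ : Cfsg.IsCharacter G Φ := isCharacter_indFun N θ.1 (isCharacter_of_isIrrCharacter θ.2)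
  obtain ⟨m, hm⟩ := isCharacter_iff.mp hΦ
  have hinner : ∀ ψ : Cfsg.IrrCharacter G, Cfsg.classInner Φ ψ.1 = m ψ := by
    intro ψ
    rw [hm, classInner_finsum_irr]
  have hdeg1 : Φ 1 = (N.index : ℂ) * θ.1 1 := indFun_one N θ.1
  have hdeg2 : Φ 1 = ((∑ ψ : Cfsg.IrrCharacter G, m ψ * Cfsg.charDegree ψ.1 : ℕ) : ℂ) := by
    rw [hm]
    exact finsum_irr_one m
  have hmχ : m χ = e := by
    have h1 := hinner χ
    rw [frobenius_reciprocity N θ.1 χ.1 (irr_isClassFunction χ)] at h1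
    have h2 : Cfsg.classInner θ.1 (fun n : N => χ.1 n) = (e : ℂ) := by
      have h3 : (fun n : N => χ.1 n) = (e : ℂ) • θ.1 := by
        funext n
        rw [hχθ n]
        rfl
      rw [h3, classInner_smul_right, Complex.conj_natCast, irr_inner_self, mul_one]
    rw [h2] at h1
    exact_mod_cast h1.symm
  have hdχ : Cfsg.charDegree χ.1 = e * Cfsg.charDegree θ.1 := by
    have h1 := hχθ 1
    rw [show ((1 : N) : G) = 1 from rfl, irr_one_eq_charDegree, irr_one_eq_charDegree] at h1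
    exact_mod_cast h1
  have hsum : ∑ ψ : Cfsg.IrrCharacter G, m ψ * Cfsg.charDegree ψ.1 =
      m χ * Cfsg.charDegree χ.1 := by
    have h1 : ((∑ ψ : Cfsg.IrrCharacter G, m ψ * Cfsg.charDegree ψ.1 : ℕ) : ℂ) =
        ((N.index * Cfsg.charDegree θ.1 : ℕ) : ℂ) := by
      rw [← hdeg2, hdeg1, irr_one_eq_charDegree]
      push_cast
      rfl
    have h2 : ∑ ψ : Cfsg.IrrCharacter G, m ψ * Cfsg.charDegree ψ.1 =
        N.index * Cfsg.charDegree θ.1 := by exact_mod_cast h1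
    rw [h2, hmχ, hdχ, ← he]
    ring
  rw [← Finset.add_sum_erase Finset.univ _ (Finset.mem_univ χ)] at hsum
  have hrest : ∑ ψ ∈ Finset.univ.erase χ, m ψ * Cfsg.charDegree ψ.1 = 0 := by omega
  have hξ0 : m ξ * Cfsg.charDegree ξ.1 = 0 :=
    Finset.sum_eq_zero_iff.mp hrest ξ (Finset.mem_erase.mpr ⟨hξ, Finset.mem_univ ξ⟩)
  have hmξ : m ξ = 0 := by
    rcases Nat.mul_eq_zero.mp hξ0 with h | h
    · exact h
    · exact absurd h (charDegree_pos ξ).ne'
  have h1 := hinner ξ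
  rw [frobenius_reciprocity N θ.1 ξ.1 (irr_isClassFunction ξ), hmξ] at h1
  rw [← classInner_conj_symm, h1]
  simp

end Ramified

end Cfsg.Agent.H82
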