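import Cfsg.Agent.H82.BL3
import Cfsg.Agent.H82.Ramified
import Cfsg.Agent.H4.RealClasses
import Cfsg.Agent.H4.TwoTrans
import Cfsg.Agent.Lib.Gallagher

/-!
# Leonard's theorem, part 4: the part of a character of `C` not trivial on `P` (helper82)

`Qm Z Y = Y - nAvg Z Y` removes from a class function `Y` the constituents with `Z` in the kernel.
For characters of `G` restricted to `C` (with `Z = P`): every nonprincipal irreducible character
`Φ` of `G` has `‖Qm (Φ|C)‖² ≥ |N : C|` (`norm_Q_ge`), hence `norm_Q_res_ge`.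
-/

set_option autoImplicit false
set_option linter.style.haveILetI false
set_option linter.unusedSectionVars false

namespace Cfsg.Agent.H82.BL

open Cfsg Cfsg.Agent.H4
open scoped ComplexConjugate
open Classical

universe u

section General

variable {A : Type u} [Group A] [Fintype A] (Z : Subgroup A) [Fintype Z]

/-- `nAvg` as a linear map. -/
noncomputable def nAvgL : (A → ℂ) →ₗ[ℂ] (A → ℂ) where
  toFun f := nAvg Z f
  map_add' f g := by
    funext a
    simp only [nAvg, Pi.add_apply, Finset.sum_add_distrib, mul_add]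
  map_smul' c f := by
    funext a
    simp only [nAvg, Pi.smul_apply, smul_eq_mul, RingHom.id_apply, ← Finset.mul_sum]
    ring

theorem nAvgL_apply (f : A → ℂ) : nAvgL Z f = nAvg Z f := rfl

/-- The complementary projection. -/
noncomputable def Qm : (A → ℂ) →ₗ[ℂ] (A → ℂ) := LinearMap.id - nAvgL Z

theorem Qm_apply (f : A → ℂ) : Qm Z f = f - nAvg Z f := rfl

theorem nAvg_const_one : nAvg Z (fun _ : A => (1 : ℂ)) = fun _ => 1 := by
  funext a
  have hZ : (Nat.card Z : ℂ) ≠ 0 := by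
    have : 0 < Nat.card Z := Nat.card_pos
    exact_mod_cast this.ne'
  simp only [nAvg, Finset.sum_const, Finset.card_univ, nsmul_eq_mul, mul_one]
  rw [← Nat.card_eq_fintype_card, inv_mul_cancel₀ hZ]

theorem Qm_const_one : Qm Z (fun _ : A => (1 : ℂ)) = 0 := by
  rw [Qm_apply, nAvg_const_one, sub_self]

variable [Z.Normal]

theorem inner_Q_of_ker (Y : A → ℂ) (ϑ : IrrCharacter A) (hker : ∀ x ∈ Z, ϑ.1 x = ϑ.1 1) :
    classInner (Qm Z Y) ϑ.1 = 0 := by
  rw [Qm_apply, classInner_sub_left, classInner_nAvg_of_ker Z Y ϑ hker, sub_self]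

theorem inner_Q_of_not_ker (Y : A → ℂ) (ϑ : IrrCharacter A) (hker : ∃ x ∈ Z, ϑ.1 x ≠ ϑ.1 1) :
    classInner (Qm Z Y) ϑ.1 = classInner Y ϑ.1 := by
  rw [Qm_apply, classInner_sub_left, classInner_nAvg_of_not_ker Z Y ϑ hker, sub_zero]

theorem isClassFunction_Q {Y : A → ℂ} (hY : IsClassFunction A Y) :
    IsClassFunction A (Qm Z Y) := by
  rw [Qm_apply]
  exact isClassFunction_sub hY (nAvg_isClassFunction Z hY)

theorem isCharacter_Q {Y : A → ℂ} (hY : IsCharacter A Y) : IsCharacter A (Qm Z Y) := by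
  apply isCharacter_of_classFunction_of_nat (isClassFunction_Q Z (isClassFunction_of_isCharacter hY))
  intro ϑ
  by_cases hker : ∀ x ∈ Z, ϑ.1 x = ϑ.1 1
  · exact ⟨0, by rw [inner_Q_of_ker Z Y ϑ hker]; simp⟩
  · push Not at hker
    rw [inner_Q_of_not_ker Z Y ϑ hker]
    exact classInner_isCharacter_nat hY (isCharacter_of_isIrrCharacter ϑ.2)

theorem inner_nAvg_Q {Y : A → ℂ} (hY : IsClassFunction A Y) :
    classInner (nAvg Z Y) (Qm Z Y) = 0 := by
  rw [Cfsg.Agent.Clifford.classInner_eq_sum_irr (nAvg_isClassFunction Z hY)]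
  apply finsum_eq_zero_of_forall_eq_zero
  intro ϑ
  by_cases hker : ∀ x ∈ Z, ϑ.1 x = ϑ.1 1
  · rw [← classInner_conj_symm ϑ.1 (Qm Z Y), inner_Q_of_ker Z Y ϑ hker]
    simp
  · push Not at hker
    rw [classInner_nAvg_of_not_ker Z Y ϑ hker, zero_mul]

/-- Pythagoras for the two projections. -/
theorem pyth {Y : A → ℂ} (hY : IsClassFunction A Y) :
    classInner Y Y = classInner (nAvg Z Y) (nAvg Z Y) + classInner (Qm Z Y) (Qm Z Y) := by
  have h0 := inner_nAvg_Q Z hY
  have h0' : classInner (Qm Z Y) (nAvg Z Y) = 0 := by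
    rw [← classInner_conj_symm, h0]; simp
  have hY' : Y = nAvg Z Y + Qm Z Y := by rw [Qm_apply]; abel
  conv_lhs => rw [hY']
  rw [classInner_add_left, classInner_add_right, classInner_add_right, h0, h0']
  ring

end General

variable {G : Type u} [Group G] [Fintype G] {p : ℕ} {N C P : Subgroup G} [Fintype N] [Fintype C]
  [Fintype (P.subgroupOf C)]

theorem normal_sub (S : Setup p N C P) : (P.subgroupOf C).Normal := by
  constructor
  intro x hx g
  have h : g * x * g⁻¹ = x := by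
    have h1 := S.cent (x : G) (Subgroup.mem_subgroupOf.mp hx) g g.2
    apply Subtype.ext
    push_cast
    rw [← h1]
    group
  rw [h]
  exact hx

theorem IsCen.not_ker {ϑ : C → ℂ} {ω : P.subgroupOf C →* ℂˣ} (h : IsCen ϑ ω) (hω : ω ≠ 1)
    (h1 : ϑ 1 ≠ 0) : ∃ x ∈ P.subgroupOf C, ϑ x ≠ ϑ 1 := by
  have hex : ∃ x, ω x ≠ 1 := by
    by_contra hcon
    push Not at hcon
    apply hω
    ext x
    rw [hcon x]
    rfl
  obtain ⟨x, hx⟩ := hex
  refine ⟨x, x.2, ?_⟩
  have e := h x 1
  rw [mul_one] at e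
  rw [e]
  intro h2
  have h3 : ((ω x : ℂˣ) : ℂ) = 1 := mul_right_cancel₀ h1 (h2.trans (one_mul _).symm)
  exact hx (Units.ext h3)

theorem comp_cjP_ne_one (S : Setup p N C P) {ω : P.subgroupOf C →* ℂˣ} (hω : ω ≠ 1) (n : N) :
    ω.comp (cjP S n) ≠ 1 := by
  intro h
  apply hω
  have e : ω = (ω.comp (cjP S n)).comp (cjP S n⁻¹) := by
    rw [MonoidHom.comp_assoc, ← cjP_mul, mul_inv_cancel, cjP_one_eq, MonoidHom.comp_id]
  rw [e, h]
  rfl

/-- The part of `Φ|C` not trivial on `P` has norm at least `|N : C|`. -/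
theorem norm_Q_ge (S : Setup p N C P) {Φ : G → ℂ} (hΦ : IsCharacter G Φ) (x : G) (hx : x ∈ P)
    (hne : Φ x ≠ Φ 1) :
    ∃ k : ℕ, ind S ≤ k ∧ classInner (Qm (P.subgroupOf C) (fun c : C => Φ c))
      (Qm (P.subgroupOf C) (fun c : C => Φ c)) = k := by
  haveI := normal_sub S
  obtain ⟨ϑ, ω, hcen, hω1, hne0⟩ := exists_constituent S hΦ x hx hne
  set Y : C → ℂ := fun c : C => Φ c with hY
  have hYc : IsCharacter C Y := isCharacter_restrict C hΦ
  have hQc := isCharacter_Q (P.subgroupOf C) hYc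
  obtain ⟨k, hk⟩ := classInner_isCharacter_nat hQc hQc
  obtain ⟨a, ha⟩ := classInner_isCharacter_nat hYc (isCharacter_of_isIrrCharacter ϑ.2)
  have ha1 : 1 ≤ a := by
    rcases Nat.eq_zero_or_pos a with h | h
    · exfalso; apply hne0; rw [ha, h]; simp
    · exact h
  refine ⟨k, ?_, hk⟩
  have hinv : NInv S Y := ninv_res S (isClassFunction_of_isCharacter hΦ)
  have e1 : classInner (Qm (P.subgroupOf C) Y) (trN S ϑ.1) = (ind S : ℂ) * a := by
    rw [classInner_trN_right]
    have key : ∀ n : N, classInner (Qm (P.subgroupOf C) Y) (fun c => ϑ.1 (cj S n c)) =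
        classInner Y (fun c => ϑ.1 (cj S n c)) := by
      intro n
      have hirr : IsIrrCharacter C (fun c => ϑ.1 (cj S n c)) :=
        Cfsg.Agent.Clifford.isIrrCharacter_comp_equiv (cj S n) ϑ.2
      have hcen' := hcen.comp_cj S n
      exact inner_Q_of_not_ker (P.subgroupOf C) Y ⟨_, hirr⟩
        (IsCen.not_ker hcen' (comp_cjP_ne_one S hω1 n)
          (Cfsg.Agent.H82.irr_one_ne_zero ⟨_, hirr⟩))
    simp only [key]
    rw [← classInner_trN_right, inner_ninv_trN S hinv, ha]
  have e2 : classInner (trN S ϑ.1) (Qm (P.subgroupOf C) Y) = (ind S : ℂ) * a := by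
    rw [← classInner_conj_symm, e1]
    simp
  have e3 := norm_trN S ϑ hcen hω1
  have h1 : classInner (Qm (P.subgroupOf C) Y - (a : ℂ) • trN S ϑ.1)
      (Qm (P.subgroupOf C) Y - (a : ℂ) • trN S ϑ.1) =
        (((k : ℝ) - (ind S : ℝ) * a ^ 2 : ℝ) : ℂ) := by
    rw [classInner_sub_left, classInner_sub_right, classInner_sub_right, classInner_smul_left,
      classInner_smul_right, classInner_smul_left, classInner_smul_right, hk, e1, e2, e3,
      Complex.conj_natCast]
    push_cast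
    ring
  have h2 := inner_self_real (Qm (P.subgroupOf C) Y - (a : ℂ) • trN S ϑ.1)
  have h3 := inner_self_nonneg (Qm (P.subgroupOf C) Y - (a : ℂ) • trN S ϑ.1)
  rw [h1] at h2
  have h4 := Complex.ofReal_injective h2
  have h5 : (ind S : ℝ) * (a : ℝ) ^ 2 ≤ k := by
    rw [← h4] at h3
    linarith
  have h6 : ind S * a ^ 2 ≤ k := by exact_mod_cast h5
  calc ind S = ind S * 1 := (mul_one _).symm
    _ ≤ ind S * a ^ 2 := Nat.mul_le_mul_left _ (Nat.one_le_pow _ _ ha1)
    _ ≤ k := h6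

/-- Lower bound for the norm of the part of `W|C` not trivial on `P`. -/
theorem norm_Q_res_ge (S : Setup p N C P)
    (hP : ∀ Φ : IrrCharacter G, (∀ x ∈ P, Φ.1 x = Φ.1 1) → Φ.1 = fun _ => 1)
    {W : G → ℂ} (hW : IsCharacter G W) (w t : ℕ) (hw : classInner W W = w)
    (ht : classInner W (fun _ => 1) = t) :
    ∃ k : ℕ, ind S * w ≤ k + ind S * t ^ 2 ∧
      classInner (Qm (P.subgroupOf C) (fun c : C => W c))
        (Qm (P.subgroupOf C) (fun c : C => W c)) = k := by
  haveI := normal_sub S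
  letI := fintypeIrr G
  obtain ⟨m, hm⟩ := isCharacter_iff.mp hW
  have hinner : ∀ Φ : IrrCharacter G, classInner W Φ.1 = m Φ := by
    intro Φ
    rw [hm, classInner_finsum_irr]
  rw [finsum_irr_eq_sum] at hm
  have hw' : w = ∑ Φ : IrrCharacter G, m Φ ^ 2 := by
    have h1 : (w : ℂ) = ((∑ Φ : IrrCharacter G, m Φ ^ 2 : ℕ) : ℂ) := by
      rw [← hw]
      have h2 : classInner W W = classInner W (∑ Φ : IrrCharacter G, (m Φ : ℂ) • Φ.1) := by
        rw [← hm]
      rw [h2, classInner_sum_right]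
      push_cast
      refine Finset.sum_congr rfl fun Φ _ => ?_
      rw [classInner_smul_right, hinner, Complex.conj_natCast]
      ring
    exact_mod_cast h1
  have ht' : t = m (trivialIrr G) := by
    have h1 := hinner (trivialIrr G)
    rw [show (trivialIrr G).1 = fun _ => (1 : ℂ) from rfl, ht] at h1
    exact_mod_cast h1
  set QΦ : IrrCharacter G → C → ℂ := fun Φ => Qm (P.subgroupOf C) (fun c : C => Φ.1 c) with hQΦ
  have hQW : Qm (P.subgroupOf C) (fun c : C => W c) = ∑ Φ : IrrCharacter G, (m Φ : ℂ) • QΦ Φ := by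
    have h1 : (fun c : C => W c) = ∑ Φ : IrrCharacter G, (m Φ : ℂ) • (fun c : C => Φ.1 c) := by
      funext c
      rw [hm]
      simp [Finset.sum_apply]
    rw [h1, map_sum]
    simp only [map_smul, hQΦ]
  have hQchar : ∀ Φ : IrrCharacter G, IsCharacter C (QΦ Φ) := fun Φ =>
    isCharacter_Q _ (isCharacter_restrict C (isCharacter_of_isIrrCharacter Φ.2))
  choose kk hkk using fun Φ Φ' : IrrCharacter G =>
    classInner_isCharacter_nat (hQchar Φ) (hQchar Φ')
  refine ⟨∑ Φ : IrrCharacter G, ∑ Φ' : IrrCharacter G, m Φ * m Φ' * kk Φ Φ', ?_, ?_⟩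
  · have hterm : ∀ Φ : IrrCharacter G, ind S * m Φ ^ 2 ≤
        (∑ Φ' : IrrCharacter G, m Φ * m Φ' * kk Φ Φ') +
          (if Φ = trivialIrr G then ind S * t ^ 2 else 0) := by
      intro Φ
      by_cases hΦ : Φ = trivialIrr G
      · rw [if_pos hΦ, hΦ, ← ht']
        exact Nat.le_add_left _ _
      · rw [if_neg hΦ, add_zero]
        have hne : ¬ ∀ x ∈ P, Φ.1 x = Φ.1 1 := fun h => hΦ (Subtype.ext (hP Φ h))
        push Not at hne
        obtain ⟨x, hx, hxne⟩ := hne
        obtain ⟨k, hk1, hk2⟩ := norm_Q_ge S (isCharacter_of_isIrrCharacter Φ.2) x hx hxne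
        have hkk' : kk Φ Φ = k := by
          have h3 := hkk Φ Φ
          rw [hk2] at h3
          exact_mod_cast h3.symm
        calc ind S * m Φ ^ 2 ≤ kk Φ Φ * m Φ ^ 2 := Nat.mul_le_mul_right _ (hkk' ▸ hk1)
          _ = m Φ * m Φ * kk Φ Φ := by ring
          _ ≤ ∑ Φ' : IrrCharacter G, m Φ * m Φ' * kk Φ Φ' :=
              Finset.single_le_sum (f := fun Φ' => m Φ * m Φ' * kk Φ Φ')
                (fun _ _ => Nat.zero_le _) (Finset.mem_univ Φ)
    calc ind S * w = ∑ Φ : IrrCharacter G, ind S * m Φ ^ 2 := by rw [hw', Finset.mul_sum]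
      _ ≤ ∑ Φ : IrrCharacter G, ((∑ Φ' : IrrCharacter G, m Φ * m Φ' * kk Φ Φ') +
            (if Φ = trivialIrr G then ind S * t ^ 2 else 0)) :=
          Finset.sum_le_sum fun Φ _ => hterm Φ
      _ = (∑ Φ : IrrCharacter G, ∑ Φ' : IrrCharacter G, m Φ * m Φ' * kk Φ Φ') +
            ind S * t ^ 2 := by
          rw [Finset.sum_add_distrib, Finset.sum_ite_eq']
          simp
  · rw [hQW, classInner_sum_left]
    push_cast
    refine Finset.sum_congr rfl fun Φ _ => ?_
    rw [classInner_smul_left, classInner_sum_right, Finset.mul_sum]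
    refine Finset.sum_congr rfl fun Φ' _ => ?_
    rw [classInner_smul_right, hkk, Complex.conj_natCast]
    ring

end Cfsg.Agent.H82.BL
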