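import Cfsg.Agent.H82.BL4

/-!
# Leonard's theorem, part 5: the fourth-moment estimate (helper82)

For `ψ ∈ Irr(G)` with `ψ|C = trN ϑ`: the `P`-trivial part of `|ψ|²|C` is `trN |ϑ|²`
(`nAvg_sq_trN`), its norm is at least `e²` (`+ e` if `ϑ` is not linear), and the comparison with
the TI-formula gives `key_bound`: `ϑ` is linear and `π_N - π_G ≥ e - 1`.
-/

set_option autoImplicit false
set_option linter.style.haveILetI false
set_option linter.unusedSectionVars false

namespace Cfsg.Agent.H82.BL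

open Cfsg Cfsg.Agent.H4
open scoped ComplexConjugate
open Classical

universe u

section General

variable {A : Type u} [Group A] [Fintype A]

theorem sum_hom_mul_conj (μ ν : A →* ℂˣ) :
    ∑ x : A, ((μ x : ℂˣ) : ℂ) * conj ((ν x : ℂˣ) : ℂ) =
      if μ = ν then (Nat.card A : ℂ) else 0 := by
  have h1 : ∀ x : A, ((μ x : ℂˣ) : ℂ) * conj ((ν x : ℂˣ) : ℂ) =
      ((Units.coeHom ℂ).comp (μ * ν⁻¹)) x := by
    intro x
    rw [conj_hom]
    simp
  simp only [h1]
  rw [sum_hom_units]
  by_cases h : μ = ν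
  · have h0 : (Units.coeHom ℂ).comp (μ * ν⁻¹) = 1 := by
      subst h
      ext x
      simp
    rw [if_pos h, if_pos h0, Nat.card_eq_fintype_card]
  · have h0 : ¬ (Units.coeHom ℂ).comp (μ * ν⁻¹) = 1 := by
      intro h'
      apply h
      ext x
      have h2 := congrArg (fun f : A →* ℂ => f x) h'
      simp only [MonoidHom.comp_apply, MonoidHom.mul_apply, MonoidHom.inv_apply,
        Units.coeHom_apply, MonoidHom.one_apply] at h2
      have h3 : μ x * (ν x)⁻¹ = 1 := Units.ext h2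
      rw [mul_inv_eq_one.mp h3]
    rw [if_neg h, if_neg h0]
    simp

/-- Orthogonality of linear characters. -/
theorem inner_hom (μ ν : A →* ℂˣ) :
    classInner (fun a => ((μ a : ℂˣ) : ℂ)) (fun a => ((ν a : ℂˣ) : ℂ)) =
      if μ = ν then 1 else 0 := by
  have hA : (Nat.card A : ℂ) ≠ 0 := by
    have : 0 < Nat.card A := Nat.card_pos
    exact_mod_cast this.ne'
  unfold classInner
  rw [sum_hom_mul_conj]
  by_cases h : μ = ν
  · rw [if_pos h, if_pos h, inv_mul_cancel₀ hA]
  · rw [if_neg h, if_neg h, mul_zero]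

end General

variable {G : Type u} [Group G] [Fintype G] {p : ℕ} {N C P : Subgroup G} [Fintype N] [Fintype C]
  [Fintype (P.subgroupOf C)]

theorem comp_cjP_eq_iff (S : Setup p N C P) {ω : P.subgroupOf C →* ℂˣ} (hω1 : ω ≠ 1)
    (n m : N) : ω.comp (cjP S n) = ω.comp (cjP S m) ↔ ((n * m⁻¹ : N) : G) ∈ C := by
  constructor
  · intro h
    by_contra hC
    apply hω1
    apply dual_semireg S (n * m⁻¹) hC ω
    rw [cjP_mul, ← MonoidHom.comp_assoc, h, MonoidHom.comp_assoc, ← cjP_mul, mul_inv_cancel,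
      cjP_one_eq, MonoidHom.comp_id]
  · intro h
    have e : cjP S n = (cjP S (n * m⁻¹)).comp (cjP S m) := by
      rw [← cjP_mul, inv_mul_cancel_right]
    rw [e, cjP_of_mem S _ h, MonoidHom.id_comp]

theorem cj_eq_of_mem (S : Setup p N C P) {f : C → ℂ} (hf : IsClassFunction C f) (n m : N)
    (h : ((n * m⁻¹ : N) : G) ∈ C) (c : C) : f (cj S n c) = f (cj S m c) := by
  have e : cj S n c = cj S (n * m⁻¹) (cj S m c) := by
    rw [← cj_mul, inv_mul_cancel_right]
  rw [e]
  exact congrFun (comp_cj_of_mem S hf (n * m⁻¹) h) (cj S m c)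

theorem sum_ite_coset (S : Setup p N C P) (m : N) (z : ℂ) :
    ∑ n : N, (if ((n * m⁻¹ : N) : G) ∈ C then z else 0) = (Nat.card C : ℂ) * z := by
  rw [← Equiv.sum_comp (Equiv.mulRight m)]
  simp only [Equiv.coe_mulRight, mul_inv_cancel_right]
  rw [← Finset.sum_filter, Finset.sum_const, card_filter_mem S.hCN, nsmul_eq_mul]

/-- The `P`-trivial part of `|trN ϑ|²` is `trN |ϑ|²`. -/
theorem nAvg_sq_trN (S : Setup p N C P) (ϑ : IrrCharacter C) {ω : P.subgroupOf C →* ℂˣ}
    (hω : IsCen ϑ.1 ω) (hω1 : ω ≠ 1) :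
    nAvg (P.subgroupOf C) (fun c => trN S ϑ.1 c * conj (trN S ϑ.1 c)) =
      trN S (fun c => ϑ.1 c * conj (ϑ.1 c)) := by
  funext c
  have hP0 : (Nat.card (P.subgroupOf C) : ℂ) ≠ 0 := by
    have : 0 < Nat.card (P.subgroupOf C) := Nat.card_pos
    exact_mod_cast this.ne'
  have hC0 : (Nat.card C : ℂ) ≠ 0 := cardC_ne_zero C
  set t : N → ℂ := fun n => ϑ.1 (cj S n c) with ht
  have h1 : ∀ x : P.subgroupOf C, trN S ϑ.1 ((x : C) * c) =
      (Nat.card C : ℂ)⁻¹ * ∑ n : N, (((ω.comp (cjP S n)) x : ℂˣ) : ℂ) * t n := by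
    intro x
    unfold trN
    congr 1
    refine Finset.sum_congr rfl fun n _ => ?_
    exact (hω.comp_cj S n) x c
  have h2 : ∀ x : P.subgroupOf C,
      trN S ϑ.1 ((x : C) * c) * conj (trN S ϑ.1 ((x : C) * c)) =
      (Nat.card C : ℂ)⁻¹ * (Nat.card C : ℂ)⁻¹ * ∑ n : N, ∑ m : N,
        (((ω.comp (cjP S n)) x : ℂˣ) : ℂ) * conj (((ω.comp (cjP S m)) x : ℂˣ) : ℂ) *
          (t n * conj (t m)) := by
    intro x
    rw [h1 x, map_mul, map_inv₀, Complex.conj_natCast, map_sum, mul_mul_mul_comm,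
      Finset.sum_mul_sum]
    congr 1
    refine Finset.sum_congr rfl fun n _ => Finset.sum_congr rfl fun m _ => ?_
    rw [map_mul]
    ring
  have h3 : ∑ x : P.subgroupOf C, trN S ϑ.1 ((x : C) * c) * conj (trN S ϑ.1 ((x : C) * c)) =
      (Nat.card C : ℂ)⁻¹ * (Nat.card C : ℂ)⁻¹ * ∑ n : N, ∑ m : N,
        (if ((n * m⁻¹ : N) : G) ∈ C then (Nat.card (P.subgroupOf C) : ℂ) else 0) *
          (t n * conj (t m)) := by
    simp only [h2]
    rw [← Finset.mul_sum, Finset.sum_comm]
    congr 1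
    refine Finset.sum_congr rfl fun n _ => ?_
    rw [Finset.sum_comm]
    refine Finset.sum_congr rfl fun m _ => ?_
    rw [← Finset.sum_mul, sum_hom_mul_conj]
    congr 1
    simp only [comp_cjP_eq_iff S hω1 n m]
  have h4 : ∑ n : N, ∑ m : N,
      (if ((n * m⁻¹ : N) : G) ∈ C then (Nat.card (P.subgroupOf C) : ℂ) else 0) *
        (t n * conj (t m)) =
      (Nat.card (P.subgroupOf C) : ℂ) * ((Nat.card C : ℂ) * ∑ m : N, t m * conj (t m)) := by
    rw [Finset.sum_comm, Finset.mul_sum, Finset.mul_sum]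
    refine Finset.sum_congr rfl fun m _ => ?_
    have key : ∀ n : N,
        (if ((n * m⁻¹ : N) : G) ∈ C then (Nat.card (P.subgroupOf C) : ℂ) else 0) *
          (t n * conj (t m)) =
        if ((n * m⁻¹ : N) : G) ∈ C then
          (Nat.card (P.subgroupOf C) : ℂ) * (t m * conj (t m)) else 0 := by
      intro n
      by_cases h : ((n * m⁻¹ : N) : G) ∈ C
      · rw [if_pos h, if_pos h]
        have e : t n = t m := cj_eq_of_mem S (irr_isClassFunction ϑ) n m h c
        rw [e]
      · rw [if_neg h, if_neg h, zero_mul]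
    simp only [key]
    rw [sum_ite_coset S m]
    ring
  have h5 : nAvg (P.subgroupOf C) (fun c => trN S ϑ.1 c * conj (trN S ϑ.1 c)) c =
      (Nat.card (P.subgroupOf C) : ℂ)⁻¹ *
        ∑ x : P.subgroupOf C, trN S ϑ.1 ((x : C) * c) * conj (trN S ϑ.1 ((x : C) * c)) := rfl
  have h6 : trN S (fun c => ϑ.1 c * conj (ϑ.1 c)) c =
      (Nat.card C : ℂ)⁻¹ * ∑ m : N, t m * conj (t m) := rfl
  rw [h5, h6, h3, h4]
  field_simp

/-- The norm of `trN |ϑ|²`. -/
theorem norm_trN_sq_ge (S : Setup p N C P) (ϑ : IrrCharacter C) :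
    ∃ r : ℝ, classInner (trN S (fun c => ϑ.1 c * conj (ϑ.1 c)))
        (trN S (fun c => ϑ.1 c * conj (ϑ.1 c))) = r ∧
      (ind S : ℝ) ^ 2 ≤ r ∧ (ϑ.1 1 ≠ 1 → (ind S : ℝ) ^ 2 + ind S ≤ r) := by
  set f : C → ℂ := fun c => ϑ.1 c * conj (ϑ.1 c) with hf
  have hϑc : IsCharacter C ϑ.1 := isCharacter_of_isIrrCharacter ϑ.2
  have hfc : IsCharacter C f := isCharacter_mul hϑc (isCharacter_conj hϑc)
  have hfcf : IsClassFunction C f := isClassFunction_of_isCharacter hfc
  have h1 : classInner (trN S f) (trN S f) =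
      (ind S : ℂ) * ((Nat.card C : ℂ)⁻¹ * ∑ n : N, classInner f (fun c => f (cj S n c))) := by
    rw [inner_trN_ninv S (ninv_trN S f), classInner_trN_right]
  have h2 : ∀ n : N, ∃ k : ℕ, 1 ≤ k ∧ classInner f (fun c => f (cj S n c)) = k := by
    intro n
    have hn : IsCharacter C (fun c => ϑ.1 (cj S n c)) :=
      Cfsg.Agent.Clifford.isCharacter_comp_equiv (cj S n) hϑc
    have hprod : IsCharacter C (ϑ.1 * fun c => ϑ.1 (cj S n c)) := isCharacter_mul hϑc hn
    have hne : (ϑ.1 * fun c => ϑ.1 (cj S n c)) ≠ 0 := by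
      intro h0
      have h3 := congrFun h0 1
      simp only [Pi.mul_apply, cj_one, Pi.zero_apply, mul_self_eq_zero] at h3
      exact Cfsg.Agent.H82.irr_one_ne_zero ϑ h3
    obtain ⟨k, hk1, hk⟩ := Cfsg.Agent.Clifford.one_le_norm_of_ne_zero hprod hne
    refine ⟨k, hk1, ?_⟩
    rw [← hk]
    unfold classInner
    congr 1
    refine Finset.sum_congr rfl fun c _ => ?_
    simp only [hf, Pi.mul_apply, map_mul, Complex.conj_conj]
    ring
  choose kn hkn1 hkn using h2
  have hC0 : (0 : ℝ) < Nat.card C := by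
    have : 0 < Nat.card C := Nat.card_pos
    exact_mod_cast this
  have hNC : (Nat.card N : ℝ) = (ind S : ℝ) * (Nat.card C : ℝ) := by
    rw [← ind_mul S]; push_cast; rfl
  have hE : (0 : ℝ) ≤ ind S := Nat.cast_nonneg _
  refine ⟨(ind S : ℝ) * ((Nat.card C : ℝ)⁻¹ * ∑ n : N, (kn n : ℝ)), ?_, ?_, ?_⟩
  · rw [h1]
    push_cast
    congr 2
    refine Finset.sum_congr rfl fun n _ => ?_
    exact hkn n
  · have h3 : (Nat.card N : ℝ) ≤ ∑ n : N, (kn n : ℝ) := by
      have h4 : ∑ _n : N, (1 : ℝ) ≤ ∑ n : N, (kn n : ℝ) :=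
        Finset.sum_le_sum fun n _ => by exact_mod_cast hkn1 n
      rw [Finset.sum_const, Finset.card_univ, nsmul_eq_mul, mul_one,
        ← Nat.card_eq_fintype_card] at h4
      exact h4
    have h5 : (ind S : ℝ) ≤ (Nat.card C : ℝ)⁻¹ * ∑ n : N, (kn n : ℝ) := by
      rw [le_inv_mul_iff₀ hC0, mul_comm, ← hNC]
      exact h3
    calc (ind S : ℝ) ^ 2 = (ind S : ℝ) * (ind S : ℝ) := sq _
      _ ≤ _ := mul_le_mul_of_nonneg_left h5 hE
  · intro hne1
    have htriv : classInner f (trivialIrr C).1 = 1 := by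
      have h3 := irr_inner_self ϑ
      rw [← h3]
      unfold classInner
      congr 1
      refine Finset.sum_congr rfl fun c _ => ?_
      change ϑ.1 c * conj (ϑ.1 c) * conj (1 : ℂ) = ϑ.1 c * conj (ϑ.1 c)
      rw [map_one, mul_one]
    have hR : IsCharacter C (f - (trivialIrr C).1) :=
      isCharacter_sub_irr hfc (trivialIrr C) (by rw [htriv]; exact one_ne_zero)
    have hR0 : f - (trivialIrr C).1 ≠ 0 := by
      intro h0
      have h3 := congrFun h0 1
      obtain ⟨d, hd0, hd⟩ := irr_one_eq_natCast ϑ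
      have h4 : f 1 = (d : ℂ) * d := by
        simp only [hf, hd, Complex.conj_natCast]
      have h5 : (trivialIrr C).1 1 = 1 := rfl
      rw [Pi.sub_apply, h4, h5, Pi.zero_apply, sub_eq_zero] at h3
      have h6 : d * d = 1 := by exact_mod_cast h3
      have h7 : d = 1 := by nlinarith
      apply hne1
      rw [hd, h7]
      simp
    obtain ⟨k', hk'1, hk'⟩ := Cfsg.Agent.Clifford.one_le_norm_of_ne_zero hR hR0
    have hff : classInner f f = ((k' + 1 : ℕ) : ℂ) := by
      have e1 : f = (f - (trivialIrr C).1) + (trivialIrr C).1 := by abel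
      have e2 : classInner (f - (trivialIrr C).1) (trivialIrr C).1 = 0 := by
        rw [classInner_sub_left, htriv, irr_inner_self, sub_self]
      have e3 : classInner (trivialIrr C).1 (f - (trivialIrr C).1) = 0 := by
        rw [← classInner_conj_symm, e2]; simp
      conv_lhs => rw [e1]
      rw [classInner_add_left, classInner_add_right, classInner_add_right, hk', e2, e3,
        irr_inner_self]
      push_cast
      ring
    have hkn2 : ∀ n : N, (n : G) ∈ C → 2 ≤ kn n := by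
      intro n hn
      have h3 := hkn n
      rw [comp_cj_of_mem S hfcf n hn, hff] at h3
      have h4 : k' + 1 = kn n := by exact_mod_cast h3
      omega
    have h3 : (Nat.card N : ℝ) + (Nat.card C : ℝ) ≤ ∑ n : N, (kn n : ℝ) := by
      have h4 : ∑ n : N, ((1 : ℝ) + if (n : G) ∈ C then 1 else 0) ≤ ∑ n : N, (kn n : ℝ) := by
        refine Finset.sum_le_sum fun n _ => ?_
        by_cases hn : (n : G) ∈ C
        · rw [if_pos hn]
          have := hkn2 n hn
          have h5 : (2 : ℝ) ≤ kn n := by exact_mod_cast this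
          linarith
        · rw [if_neg hn, add_zero]
          exact_mod_cast hkn1 n
      rw [Finset.sum_add_distrib, Finset.sum_const, Finset.card_univ, nsmul_eq_mul, mul_one,
        ← Nat.card_eq_fintype_card, ← Finset.sum_filter, Finset.sum_const,
        card_filter_mem S.hCN, nsmul_eq_mul, mul_one] at h4
      exact h4
    have h5 : (ind S : ℝ) + 1 ≤ (Nat.card C : ℝ)⁻¹ * ∑ n : N, (kn n : ℝ) := by
      rw [le_inv_mul_iff₀ hC0]
      calc (Nat.card C : ℝ) * ((ind S : ℝ) + 1) = (Nat.card N : ℝ) + (Nat.card C : ℝ) := by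
            rw [hNC]; ring
        _ ≤ _ := h3
    calc (ind S : ℝ) ^ 2 + ind S = (ind S : ℝ) * ((ind S : ℝ) + 1) := by ring
      _ ≤ _ := mul_le_mul_of_nonneg_left h5 hE

end Cfsg.Agent.H82.BL
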