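import Cfsg.Agent.H82.BL5

/-!
# Leonard's theorem, part 6: `key_bound` (helper82)

For `ψ ∈ Irr(G)` with `ψ|C = trN ϑ` and `ψ(1)² < |P|` (and `G` the normal closure of `P`):
`ϑ` is linear and `π_N(|ψ|⁴) - π_G(|ψ|⁴) ≥ |N : C| - 1`.
-/

set_option autoImplicit false
set_option linter.style.haveILetI false
set_option linter.unusedSectionVars false

namespace Cfsg.Agent.H82.BL

open Cfsg Cfsg.Agent.H4
open scoped ComplexConjugate
open Classical

universe u

variable {G : Type u} [Group G] [Fintype G] {p : ℕ} {N C P : Subgroup G} [Fintype N] [Fintype C]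
  [Fintype (P.subgroupOf C)]

/-- Cauchy–Schwarz bound for the sum of `|trN ϑ|²` over the `p`-regular elements of `C`. -/
theorem sum_reg_trN_le (S : Setup p N C P) (ϑ : IrrCharacter C) {ω : P.subgroupOf C →* ℂˣ}
    (hω : IsCen ϑ.1 ω) :
    (Nat.card P : ℝ) * ∑ c : C, (if p ∣ orderOf (c : G) then 0 else ‖trN S ϑ.1 c‖ ^ 2) ≤
      (ind S : ℝ) ^ 2 * Nat.card C := by
  have hC0 : (0 : ℝ) < Nat.card C := by
    have : 0 < Nat.card C := Nat.card_pos
    exact_mod_cast this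
  have hNC : (Nat.card N : ℝ) = (ind S : ℝ) * (Nat.card C : ℝ) := by
    rw [← ind_mul S]; push_cast; rfl
  set K : ℝ := ((Nat.card C : ℝ)⁻¹) ^ 2 * (Nat.card N : ℝ) with hK
  have hK0 : 0 ≤ K := by positivity
  set g : N → C → ℝ := fun n c => ‖ϑ.1 (cj S n c)‖ ^ 2 with hg
  have hpt : ∀ c : C, ‖trN S ϑ.1 c‖ ^ 2 ≤ K * ∑ n : N, g n c := by
    intro c
    have h1 : ‖trN S ϑ.1 c‖ ≤ (Nat.card C : ℝ)⁻¹ * ∑ n : N, ‖ϑ.1 (cj S n c)‖ := by
      unfold trN
      rw [norm_mul, norm_inv, Complex.norm_natCast]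
      exact mul_le_mul_of_nonneg_left (norm_sum_le _ _) (inv_nonneg.mpr hC0.le)
    have h2 : (∑ n : N, ‖ϑ.1 (cj S n c)‖) ^ 2 ≤
        (Nat.card N : ℝ) * ∑ n : N, ‖ϑ.1 (cj S n c)‖ ^ 2 := by
      have h3 := sq_sum_le_card_mul_sum_sq (s := (Finset.univ : Finset N))
        (f := fun n => ‖ϑ.1 (cj S n c)‖)
      rw [Finset.card_univ, ← Nat.card_eq_fintype_card] at h3
      exact h3
    calc ‖trN S ϑ.1 c‖ ^ 2 ≤ ((Nat.card C : ℝ)⁻¹ * ∑ n : N, ‖ϑ.1 (cj S n c)‖) ^ 2 :=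
          pow_le_pow_left₀ (norm_nonneg _) h1 2
      _ = ((Nat.card C : ℝ)⁻¹) ^ 2 * (∑ n : N, ‖ϑ.1 (cj S n c)‖) ^ 2 := mul_pow _ _ _
      _ ≤ ((Nat.card C : ℝ)⁻¹) ^ 2 *
            ((Nat.card N : ℝ) * ∑ n : N, ‖ϑ.1 (cj S n c)‖ ^ 2) :=
          mul_le_mul_of_nonneg_left h2 (sq_nonneg _)
      _ = K * ∑ n : N, g n c := by rw [hK, mul_assoc]
  have hsum : ∑ c : C, (if p ∣ orderOf (c : G) then 0 else ‖trN S ϑ.1 c‖ ^ 2) ≤
      K * ∑ n : N, ∑ c : C, (if p ∣ orderOf (c : G) then 0 else g n c) := by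
    rw [Finset.sum_comm, Finset.mul_sum]
    refine Finset.sum_le_sum fun c _ => ?_
    by_cases hc : p ∣ orderOf (c : G)
    · rw [if_pos hc]
      simp only [if_pos hc, Finset.sum_const_zero, mul_zero, le_refl]
    · rw [if_neg hc]
      simp only [if_neg hc]
      exact hpt c
  have hn : ∀ n : N, (Nat.card P : ℝ) *
      ∑ c : C, (if p ∣ orderOf (c : G) then 0 else g n c) = Nat.card C := by
    intro n
    have hinv : ∀ (x : P.subgroupOf C) (c : C), g n ((x : C) * c) = g n c := by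
      intro x c
      simp only [hg]
      have h1 : ϑ.1 (cj S n ((x : C) * c)) =
          (((ω.comp (cjP S n)) x : ℂˣ) : ℂ) * ϑ.1 (cj S n c) := (hω.comp_cj S n) x c
      rw [h1, norm_mul, norm_hom_eq_one, one_mul]
    rw [sum_reg S (g n) hinv]
    have h2 := Equiv.sum_comp (cj S n).toEquiv (fun c => ‖ϑ.1 c‖ ^ 2)
    exact h2.trans (Cfsg.Agent.H82.irr_norm_sq_real ϑ)
  calc (Nat.card P : ℝ) * ∑ c : C, (if p ∣ orderOf (c : G) then 0 else ‖trN S ϑ.1 c‖ ^ 2)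
      ≤ (Nat.card P : ℝ) *
          (K * ∑ n : N, ∑ c : C, (if p ∣ orderOf (c : G) then 0 else g n c)) :=
        mul_le_mul_of_nonneg_left hsum (Nat.cast_nonneg _)
    _ = K * ∑ n : N, (Nat.card P : ℝ) *
          ∑ c : C, (if p ∣ orderOf (c : G) then 0 else g n c) := by
        rw [← Finset.mul_sum]; ring
    _ = K * ((Nat.card N : ℝ) * Nat.card C) := by
        simp only [hn]
        rw [Finset.sum_const, Finset.card_univ, nsmul_eq_mul, Nat.card_eq_fintype_card (α := N)]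
    _ = (ind S : ℝ) ^ 2 * Nat.card C := by
        rw [hK, hNC]; field_simp

/-- The fourth-moment estimate. -/
theorem key_bound (S : Setup p N C P)
    (hP : ∀ Φ : IrrCharacter G, (∀ x ∈ P, Φ.1 x = Φ.1 1) → Φ.1 = fun _ => 1)
    (ψ : IrrCharacter G) (ϑ : IrrCharacter C) {ω : P.subgroupOf C →* ℂˣ}
    (hω : IsCen ϑ.1 ω) (hω1 : ω ≠ 1) (hres : (fun c : C => ψ.1 c) = trN S ϑ.1)
    (hdeg : charDegree ψ.1 ^ 2 < Nat.card P) :
    ϑ.1 1 = 1 ∧ ∃ r : ℝ, (ind S : ℝ) - 1 ≤ r ∧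
      (Nat.card N : ℂ)⁻¹ * SK p C (fun g => ψ.1 g * conj (ψ.1 g))
          (fun g => ψ.1 g * conj (ψ.1 g)) -
        piG p (fun g => ψ.1 g * conj (ψ.1 g)) (fun g => ψ.1 g * conj (ψ.1 g)) = r := by
  haveI := normal_sub S
  set W : G → ℂ := fun g => ψ.1 g * conj (ψ.1 g) with hW
  have hψc := isCharacter_of_isIrrCharacter ψ.2
  have hWc : IsCharacter G W := isCharacter_mul hψc (isCharacter_conj hψc)
  have hWcf := isClassFunction_of_isCharacter hWc
  obtain ⟨w, hw⟩ := classInner_isCharacter_nat hWc hWc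
  have ht : classInner W (fun _ => 1) = ((1 : ℕ) : ℂ) := by
    have h0 : classInner W (fun _ => 1) = classInner ψ.1 ψ.1 := by
      unfold classInner
      congr 1
      refine Finset.sum_congr rfl fun g _ => ?_
      simp only [hW, map_one, mul_one]
    rw [h0, irr_inner_self, Nat.cast_one]
  obtain ⟨k, hk1, hk2⟩ := norm_Q_res_ge S hP hWc w 1 hw ht
  set WC : C → ℂ := fun c : C => W c with hWC
  have hWCc : IsCharacter C WC := isCharacter_restrict C hWc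
  have hpyth := pyth (P.subgroupOf C) (isClassFunction_of_isCharacter hWCc)
  have hWC' : WC = fun c => trN S ϑ.1 c * conj (trN S ϑ.1 c) := by
    funext c
    have e2 : ψ.1 c = trN S ϑ.1 c := congrFun hres c
    change ψ.1 c * conj (ψ.1 c) = trN S ϑ.1 c * conj (trN S ϑ.1 c)
    rw [e2]
  have hU : nAvg (P.subgroupOf C) WC = trN S (fun c => ϑ.1 c * conj (ϑ.1 c)) := by
    rw [hWC']
    exact nAvg_sq_trN S ϑ hω hω1
  obtain ⟨rU, hrU, hrU1, hrU2⟩ := norm_trN_sq_ge S ϑ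
  rw [hU, hrU, hk2] at hpyth
  have hti := ti_inner S hWcf hWcf
  rw [hw, hpyth, piG_self, SK_self] at hti
  set r1 : ℝ := (Nat.card G : ℝ)⁻¹ * ∑ g : G, if p ∣ orderOf g then 0 else ‖W g‖ ^ 2 with hr1
  set r2 : ℝ := ∑ c : C, if p ∣ orderOf (c : G) then 0 else ‖W c‖ ^ 2 with hr2
  have htiR : (w : ℝ) = r1 + (ind S : ℝ)⁻¹ * (rU + k) - (Nat.card N : ℝ)⁻¹ * r2 := by
    apply Complex.ofReal_injective
    push_cast
    exact hti
  have hr1nn : 0 ≤ r1 := by
    apply mul_nonneg (inv_nonneg.mpr (Nat.cast_nonneg _))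
    refine Finset.sum_nonneg fun g _ => ?_
    split_ifs
    · exact le_refl _
    · exact sq_nonneg _
  set d : ℝ := (charDegree ψ.1 : ℝ) with hd
  have hr2le : (Nat.card P : ℝ) * r2 ≤ d ^ 2 * ((ind S : ℝ) ^ 2 * Nat.card C) := by
    have h1 : r2 ≤ d ^ 2 *
        ∑ c : C, (if p ∣ orderOf (c : G) then 0 else ‖trN S ϑ.1 c‖ ^ 2) := by
      rw [Finset.mul_sum]
      refine Finset.sum_le_sum fun c _ => ?_
      by_cases hc : p ∣ orderOf (c : G)
      · rw [if_pos hc, if_pos hc, mul_zero]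
      · rw [if_neg hc, if_neg hc]
        have e : ‖W c‖ = ‖ψ.1 c‖ ^ 2 := by
          simp only [hW]
          rw [norm_mul, RCLike.norm_conj]
          ring
        have e2 : ψ.1 c = trN S ϑ.1 c := congrFun hres c
        rw [e, ← e2]
        have hle := irr_norm_le_deg ψ (c : G)
        have e3 : (‖ψ.1 c‖ ^ 2) ^ 2 = ‖ψ.1 c‖ ^ 2 * ‖ψ.1 c‖ ^ 2 := sq _
        rw [e3]
        exact mul_le_mul_of_nonneg_right (pow_le_pow_left₀ (norm_nonneg _) hle 2) (sq_nonneg _)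
    calc (Nat.card P : ℝ) * r2
        ≤ (Nat.card P : ℝ) * (d ^ 2 *
            ∑ c : C, (if p ∣ orderOf (c : G) then 0 else ‖trN S ϑ.1 c‖ ^ 2)) :=
          mul_le_mul_of_nonneg_left h1 (Nat.cast_nonneg _)
      _ = d ^ 2 * ((Nat.card P : ℝ) *
            ∑ c : C, (if p ∣ orderOf (c : G) then 0 else ‖trN S ϑ.1 c‖ ^ 2)) := by ring
      _ ≤ d ^ 2 * ((ind S : ℝ) ^ 2 * Nat.card C) :=
          mul_le_mul_of_nonneg_left (sum_reg_trN_le S ϑ hω) (sq_nonneg _)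
  have hE : (0 : ℝ) < ind S := by exact_mod_cast ind_pos S
  have hC0 : (0 : ℝ) < Nat.card C := by
    have : 0 < Nat.card C := Nat.card_pos
    exact_mod_cast this
  have hNC : (Nat.card N : ℝ) = (ind S : ℝ) * (Nat.card C : ℝ) := by
    rw [← ind_mul S]; push_cast; rfl
  have hNpos : (0 : ℝ) < Nat.card N := by rw [hNC]; positivity
  have hqpos : (0 : ℝ) < Nat.card P := by
    have : 0 < Nat.card P := Nat.card_pos
    exact_mod_cast this
  have hq : d ^ 2 < (Nat.card P : ℝ) := by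
    rw [hd]; exact_mod_cast hdeg
  have hδ_eq : (Nat.card N : ℝ)⁻¹ * r2 - r1 = (ind S : ℝ)⁻¹ * (rU + k) - w := by linarith
  have hδ_lt : (Nat.card N : ℝ)⁻¹ * r2 - r1 < ind S := by
    have h1 : (Nat.card N : ℝ)⁻¹ * r2 < ind S := by
      rw [inv_mul_lt_iff₀ hNpos]
      have h2 : (Nat.card P : ℝ) * r2 < (Nat.card P : ℝ) * ((Nat.card N : ℝ) * ind S) := by
        calc (Nat.card P : ℝ) * r2 ≤ d ^ 2 * ((ind S : ℝ) ^ 2 * Nat.card C) := hr2le
          _ < (Nat.card P : ℝ) * ((ind S : ℝ) ^ 2 * Nat.card C) :=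
              mul_lt_mul_of_pos_right hq (by positivity)
          _ = (Nat.card P : ℝ) * ((Nat.card N : ℝ) * ind S) := by rw [hNC]; ring
      exact lt_of_mul_lt_mul_left h2 hqpos.le
    linarith
  have hk1R : (ind S : ℝ) * w ≤ k + ind S := by
    have h : ind S * w ≤ k + ind S := by simpa using hk1
    exact_mod_cast h
  have hδ_ge : ∀ x : ℝ, (ind S : ℝ) ^ 2 + x ≤ rU →
      (ind S : ℝ) - 1 + x / ind S ≤ (ind S : ℝ)⁻¹ * (rU + k) - w := by
    intro x hx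
    have h1 : (ind S : ℝ)⁻¹ * ((ind S : ℝ) ^ 2 + x + ((ind S : ℝ) * w - ind S)) ≤
        (ind S : ℝ)⁻¹ * (rU + k) := by
      apply mul_le_mul_of_nonneg_left _ (inv_nonneg.mpr hE.le)
      linarith
    have e : (ind S : ℝ)⁻¹ * ((ind S : ℝ) ^ 2 + x + ((ind S : ℝ) * w - ind S)) =
        ind S + x / ind S + w - 1 := by
      field_simp
      ring
    linarith
  constructor
  · by_contra hne
    have h1 := hδ_ge (ind S) (hrU2 hne)
    rw [div_self hE.ne'] at h1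
    linarith
  · refine ⟨(Nat.card N : ℝ)⁻¹ * r2 - r1, ?_, ?_⟩
    · have h1 := hδ_ge 0 (by linarith [hrU1])
      rw [zero_div] at h1
      linarith
    · rw [piG_self, SK_self, ← hr1, ← hr2]
      push_cast
      ring

end Cfsg.Agent.H82.BL
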