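import Cfsg.Agent.H82.BL6
import Cfsg.Agent.H4.Exceptional

/-!
# Leonard's theorem, part 7: exceptional partners (helper82)

`exists_partner`: if `ψ|C = trN α` for a linear character `α` of `C` not trivial on `P`, then for
every linear `α'` of `C` agreeing with `α` on the `p`-regular elements and not trivial on `P`
there is `Θ ∈ Irr(G)` with `Θ|C = trN α'` and `Θ = ψ` on `p`-regular elements.
`inner_pair`: inner products of products of traces of linear characters as counts.
-/

set_option autoImplicit false
set_option linter.style.haveILetI false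
set_option linter.unusedSectionVars false

namespace Cfsg.Agent.H82.BL

open Cfsg Cfsg.Agent.H4 Cfsg.Agent.H82
open scoped ComplexConjugate
open Classical

universe u

variable {G : Type u} [Group G] [Fintype G] {p : ℕ} {N C P : Subgroup G} [Fintype N] [Fintype C]
  [Fintype (P.subgroupOf C)]

theorem isCen_lin (β : C →* ℂˣ) :
    IsCen (P := P) (linChar β).1 (β.comp (P.subgroupOf C).subtype) := by
  intro x c
  change ((β ((x : C) * c) : ℂˣ) : ℂ) = ((β (x : C) : ℂˣ) : ℂ) * ((β c : ℂˣ) : ℂ)
  rw [map_mul, Units.val_mul]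

/-- Exceptional partners. -/
theorem exists_partner (S : Setup p N C P) (ψ : IrrCharacter G) (α α' : C →* ℂˣ)
    (hψ : (fun c : C => ψ.1 c) = trN S (linChar α).1)
    (hK : ∀ c : C, ¬ p ∣ orderOf (c : G) → α' c = α c)
    (hα : α.comp (P.subgroupOf C).subtype ≠ 1) (hα' : α'.comp (P.subgroupOf C).subtype ≠ 1) :
    ∃ Θ : IrrCharacter G, (fun c : C => Θ.1 c) = trN S (linChar α').1 ∧
      ∀ g : G, ¬ p ∣ orderOf g → Θ.1 g = ψ.1 g := by
  by_cases hconj : ∃ n : N, (fun c => (linChar α).1 (cj S n c)) = (linChar α').1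
  · obtain ⟨n, hn⟩ := hconj
    refine ⟨ψ, ?_, fun g _ => rfl⟩
    rw [hψ, ← hn, trN_comp_cj]
  · push Not at hconj
    set f : C → ℂ := (linChar α').1 - (linChar α).1 with hf
    have hf0 : ∀ c : C, ¬ p ∣ orderOf (c : G) → f c = 0 := by
      intro c hc
      simp only [hf, Pi.sub_apply, linChar_apply, hK c hc, sub_self]
    set Δ : G → ℂ := indFun C f with hΔ
    have hΔres : (fun c : C => Δ c) = trN S f := by
      funext c
      exact indFun_eq_trN S f hf0 c
    have hΔreg : ∀ g, ¬ p ∣ orderOf g → Δ g = 0 := fun g hg => indFun_reg f hf0 g hg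
    have hΔcf : IsClassFunction G Δ := indFun_isClassFunction C f
    have hΔsub : Δ = indFun C (linChar α').1 - indFun C (linChar α).1 := indFun_sub C _ _
    have hc' : IsCharacter G (indFun C (linChar α').1) :=
      isCharacter_indFun C _ (isCharacter_of_isIrrCharacter (linChar α').2)
    have hc : IsCharacter G (indFun C (linChar α).1) :=
      isCharacter_indFun C _ (isCharacter_of_isIrrCharacter (linChar α).2)
    have hcen := isCen_lin (P := P) α
    have hcen' := isCen_lin (P := P) α'
    have i1 : classInner (linChar α').1 (trN S (linChar α').1) = 1 :=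
      inner_self_trN S _ hcen' hα'
    have i2 : classInner (linChar α).1 (trN S (linChar α).1) = 1 := inner_self_trN S _ hcen hα
    have i3 : classInner (linChar α').1 (trN S (linChar α).1) = 0 :=
      inner_trN_of_not S _ _ hconj
    have i4 : classInner (linChar α).1 (trN S (linChar α').1) = 0 := by
      apply inner_trN_of_not
      intro n hn
      apply hconj n⁻¹
      rw [← hn]
      funext c
      change (linChar α').1 (cj S n (cj S n⁻¹ c)) = (linChar α').1 c
      rw [← cj_mul, mul_inv_cancel]
      have e : cj S 1 c = c := by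
        apply Subtype.ext
        simp [cj_coe]
      rw [e]
    have hnorm : classInner Δ Δ = 2 := by
      have h1 : classInner Δ Δ = classInner f (fun h : C => Δ h) :=
        frobenius_reciprocity C f Δ hΔcf
      rw [h1, hΔres, trN_sub, hf, classInner_sub_left, classInner_sub_right,
        classInner_sub_right, i1, i2, i3, i4]
      norm_num
    have h1 : indFun C (linChar α').1 1 = indFun C (linChar α).1 1 := by
      have h2 := indFun_one_eq_zero C f (by simp [hf, linChar_apply])
      rw [← hΔ, hΔsub, Pi.sub_apply, sub_eq_zero] at h2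
      exact h2
    rw [hΔsub] at hnorm
    obtain ⟨x, y, hxy, hxyΔ⟩ := exists_irr_sub_irr_of_norm_two hc' hc hnorm h1
    have hΔψ : classInner Δ ψ.1 = -1 := by
      have h2 : classInner Δ ψ.1 = classInner f (fun h : C => ψ.1 h) :=
        frobenius_reciprocity C f ψ.1 (irr_isClassFunction ψ)
      rw [h2, hψ, hf, classInner_sub_left, i3, i2]
      norm_num
    have hy : y = ψ := by
      rw [hΔsub, hxyΔ, classInner_sub_left, irr_inner, irr_inner] at hΔψ
      by_contra hne
      rw [if_neg hne] at hΔψ
      split_ifs at hΔψ <;> norm_num at hΔψ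
    have hx : x.1 = Δ + ψ.1 := by
      rw [hΔsub, hxyΔ, hy]
      abel
    refine ⟨x, ?_, ?_⟩
    · funext c
      have e1 : Δ c = trN S f c := congrFun hΔres c
      have e2 : ψ.1 c = trN S (linChar α).1 c := congrFun hψ c
      change x.1 c = _
      rw [hx, Pi.add_apply, e1, e2, trN_sub, Pi.sub_apply, sub_add_cancel]
    · intro g hg
      rw [hx, Pi.add_apply, hΔreg g hg, zero_add]

/-- Conjugation of a linear character of `C` by `n ∈ N`. -/
def hcj (S : Setup p N C P) (β : C →* ℂˣ) (n : N) : C →* ℂˣ := β.comp (cj S n).toMonoidHom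

theorem hcj_apply (S : Setup p N C P) (β : C →* ℂˣ) (n : N) (c : C) :
    hcj S β n c = β (cj S n c) := rfl

/-- The linear character `β^{u.1} / γ^{u.2}`. -/
def pairHom (S : Setup p N C P) (β γ : C →* ℂˣ) (u : N × N) : C →* ℂˣ :=
  hcj S β u.1 * (hcj S γ u.2)⁻¹

/-- The analogue on the dual of `P`. -/
def pairX (S : Setup p N C P) (μ ν : P.subgroupOf C →* ℂˣ) (u : N × N) :
    P.subgroupOf C →* ℂˣ :=
  μ.comp (cjP S u.1) * (ν.comp (cjP S u.2))⁻¹

theorem pairHom_restrict (S : Setup p N C P) (β γ : C →* ℂˣ) (u : N × N) :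
    (pairHom S β γ u).comp (P.subgroupOf C).subtype =
      pairX S (β.comp (P.subgroupOf C).subtype) (γ.comp (P.subgroupOf C).subtype) u := by
  ext x
  simp [pairHom, pairX, hcj_apply, cjP_coe]

theorem trN_lin_mul_conj (S : Setup p N C P) (β γ : C →* ℂˣ) :
    (fun c => trN S (linChar β).1 c * conj (trN S (linChar γ).1 c)) =
      ((Nat.card C : ℂ)⁻¹ * (Nat.card C : ℂ)⁻¹) •
        ∑ u : N × N, (linChar (pairHom S β γ u)).1 := by
  funext c
  have h1 : trN S (linChar β).1 c = (Nat.card C : ℂ)⁻¹ * ∑ n : N, ((β (cj S n c) : ℂˣ) : ℂ) :=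
    rfl
  have h2 : conj (trN S (linChar γ).1 c) =
      (Nat.card C : ℂ)⁻¹ * ∑ m : N, ((γ⁻¹ (cj S m c) : ℂˣ) : ℂ) := by
    have h3 : trN S (linChar γ).1 c = (Nat.card C : ℂ)⁻¹ * ∑ n : N, ((γ (cj S n c) : ℂˣ) : ℂ) :=
      rfl
    rw [h3, map_mul, map_inv₀, Complex.conj_natCast, map_sum]
    congr 1
    refine Finset.sum_congr rfl fun m _ => ?_
    exact conj_hom γ (cj S m c)
  rw [h1, h2, mul_mul_mul_comm, Finset.sum_mul_sum, Pi.smul_apply, Finset.sum_apply,
    smul_eq_mul, Fintype.sum_prod_type]
  congr 1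

/-- Inner products of products of traces of linear characters are counts. -/
theorem inner_pair (S : Setup p N C P) (β γ β' γ' : C →* ℂˣ) :
    classInner (fun c => trN S (linChar β).1 c * conj (trN S (linChar γ).1 c))
      (fun c => trN S (linChar β').1 c * conj (trN S (linChar γ').1 c)) =
      ((Nat.card C : ℂ)⁻¹) ^ 4 * ((∑ u : N × N, ∑ v : N × N,
        if pairHom S β γ u = pairHom S β' γ' v then 1 else 0 : ℕ) : ℂ) := by
  rw [trN_lin_mul_conj, trN_lin_mul_conj, classInner_smul_left, classInner_smul_right,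
    classInner_sum_left, map_mul, map_inv₀, Complex.conj_natCast]
  push_cast
  rw [← mul_assoc]
  congr 1
  · ring
  · refine Finset.sum_congr rfl fun u _ => ?_
    rw [classInner_sum_right]
    refine Finset.sum_congr rfl fun v _ => ?_
    exact inner_hom _ _

end Cfsg.Agent.H82.BL
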