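import Cfsg.Agent.H82.BL7
import Cfsg.Agent.H4.MaxDeg

/-!
# Leonard's theorem, part 8: the final count and the core claim (helper82)

`claimB`: in the local setup, if no nonprincipal irreducible character of `G` has `P` in its
kernel, then every irreducible character `ψ` of `G` with `ψ(1)² + 1 < |P|` is linear.
-/

set_option autoImplicit false
set_option linter.style.haveILetI false
set_option linter.unusedSectionVars false

namespace Cfsg.Agent.H82.BL

open Cfsg Cfsg.Agent.H4 Cfsg.Agent.H82
open scoped ComplexConjugate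
open Classical

universe u

section General

theorem card_hom_units {A : Type*} [Group A] [Finite A] (hA : ∀ a b : A, a * b = b * a) :
    Finite (A →* ℂˣ) ∧ Nat.card (A →* ℂˣ) = Nat.card A := by
  letI : CommGroup A := { (inferInstance : Group A) with mul_comm := hA }
  have h := CommGroup.card_monoidHom_of_hasEnoughRootsOfUnity A ℂ
  refine ⟨?_, h⟩
  apply Nat.finite_of_card_ne_zero
  rw [h]
  exact Nat.card_pos.ne'

end General

variable {G : Type u} [Group G] [Fintype G] {p : ℕ} {N C P : Subgroup G} [Fintype N] [Fintype C]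
  [Fintype (P.subgroupOf C)] [Fintype (P.subgroupOf C →* ℂˣ)]

theorem card_orbit_le (S : Setup p N C P) (lam : P.subgroupOf C →* ℂˣ) :
    (Finset.univ.image (fun n : N => lam.comp (cjP S n))).card * Nat.card C ≤ Nat.card N := by
  set f : N → (P.subgroupOf C →* ℂˣ) := fun n => lam.comp (cjP S n) with hf
  have h1 := Finset.card_eq_sum_card_image f (Finset.univ : Finset N)
  rw [Nat.card_eq_fintype_card (α := N), ← Finset.card_univ, h1, ← smul_eq_mul,
    ← Finset.sum_const]
  refine Finset.sum_le_sum fun b hb => ?_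
  obtain ⟨n₀, -, rfl⟩ := Finset.mem_image.mp hb
  rw [← card_filter_mem S.hCN]
  apply Finset.card_le_card_of_injOn (fun n => n * n₀)
  · intro n hn
    simp only [Finset.coe_filter, Finset.mem_univ, true_and, Set.mem_ofPred_eq] at hn ⊢
    simp only [hf]
    rw [cjP_mul, cjP_of_mem S n hn, MonoidHom.id_comp]
  · intro a _ b _ hab
    exact mul_right_cancel hab

theorem exists_off_orbit (S : Setup p N C P) (lam : P.subgroupOf C →* ℂˣ)
    (hq : ind S + 1 < Nat.card P)
    (hcard : Fintype.card (P.subgroupOf C →* ℂˣ) = Nat.card P) :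
    ∃ lam₂ : P.subgroupOf C →* ℂˣ, lam₂ ≠ 1 ∧ ∀ n : N, lam₂ ≠ lam.comp (cjP S n) := by
  by_contra hcon
  push Not at hcon
  have h1 : (Finset.univ : Finset (P.subgroupOf C →* ℂˣ)) ⊆
      insert 1 (Finset.univ.image (fun n : N => lam.comp (cjP S n))) := by
    intro μ _
    by_cases hμ : μ = 1
    · rw [hμ]
      exact Finset.mem_insert_self _ _
    · obtain ⟨n, hn⟩ := hcon μ hμ
      exact Finset.mem_insert_of_mem (Finset.mem_image.mpr ⟨n, Finset.mem_univ _, hn.symm⟩)
  have h2 := Finset.card_le_card h1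
  have h3 := Finset.card_insert_le (1 : P.subgroupOf C →* ℂˣ)
    (Finset.univ.image (fun n : N => lam.comp (cjP S n)))
  rw [Finset.card_univ, hcard] at h2
  have h4 := card_orbit_le S lam
  have h5 : (Finset.univ.image (fun n : N => lam.comp (cjP S n))).card ≤ ind S := by
    rw [← ind_mul S] at h4
    exact Nat.le_of_mul_le_mul_right h4 Nat.card_pos
  omega

theorem comp_cjP_eq_of_mem (S : Setup p N C P) (ω : P.subgroupOf C →* ℂˣ) (n m : N)
    (h : ((n * m⁻¹ : N) : G) ∈ C) : ω.comp (cjP S n) = ω.comp (cjP S m) := by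
  have e : cjP S n = (cjP S (n * m⁻¹)).comp (cjP S m) := by
    rw [← cjP_mul, inv_mul_cancel_right]
  rw [e, cjP_of_mem S _ h, MonoidHom.id_comp]

theorem sum_not_coset (S : Setup p N C P) (m : N) :
    ∑ n : N, (if ((n * m⁻¹ : N) : G) ∈ C then 0 else 1) = Nat.card N - Nat.card C := by
  have h1 : ∑ n : N, (if ((n * m⁻¹ : N) : G) ∈ C then 1 else 0) = Nat.card C := by
    rw [← Equiv.sum_comp (Equiv.mulRight m)]
    simp only [Equiv.coe_mulRight, mul_inv_cancel_right]
    rw [← Finset.card_filter, card_filter_mem S.hCN]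
  have h2 : ∑ n : N, (if ((n * m⁻¹ : N) : G) ∈ C then 0 else 1) +
      ∑ n : N, (if ((n * m⁻¹ : N) : G) ∈ C then 1 else 0) = Nat.card N := by
    rw [← Finset.sum_add_distrib]
    have h3 : ∀ n : N, (if ((n * m⁻¹ : N) : G) ∈ C then 0 else 1) +
        (if ((n * m⁻¹ : N) : G) ∈ C then 1 else 0) = 1 := by
      intro n
      split_ifs <;> rfl
    simp only [h3]
    simp [Nat.card_eq_fintype_card]
  omega

/-- The count of solutions of the key relation on the dual of `P`. -/
theorem count_rel (S : Setup p N C P) (lam lam₂ : P.subgroupOf C →* ℂˣ)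
    (hoff : ∀ n : N, lam₂ ≠ lam.comp (cjP S n)) :
    ∑ lam₃ ∈ Finset.univ.erase (1 : P.subgroupOf C →* ℂˣ), ∑ u : N × N, ∑ v : N × N,
        (if pairX S lam lam₂ u = pairX S lam₃ lam₃ v then 1 else 0) ≤
      Nat.card N ^ 2 * (Nat.card N * (Nat.card N - Nat.card C)) := by
  have hne : ∀ u : N × N, pairX S lam lam₂ u ≠ 1 := by
    intro u h
    apply hoff (u.1 * u.2⁻¹)
    have h1 : lam.comp (cjP S u.1) = lam₂.comp (cjP S u.2) := by
      unfold pairX at h
      exact mul_inv_eq_one.mp h
    have h2 : lam₂ = (lam₂.comp (cjP S u.2)).comp (cjP S u.2⁻¹) := by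
      rw [MonoidHom.comp_assoc, ← cjP_mul, mul_inv_cancel, cjP_one_eq, MonoidHom.comp_id]
    rw [h2, ← h1, MonoidHom.comp_assoc, ← cjP_mul]
  have hterm : ∀ u v : N × N,
      ∑ lam₃ ∈ Finset.univ.erase (1 : P.subgroupOf C →* ℂˣ),
        (if pairX S lam lam₂ u = pairX S lam₃ lam₃ v then 1 else 0) ≤
      (if ((v.1 * v.2⁻¹ : N) : G) ∈ C then 0 else 1) := by
    intro u v
    by_cases hv : ((v.1 * v.2⁻¹ : N) : G) ∈ C
    · rw [if_pos hv]
      apply le_of_eq
      refine Finset.sum_eq_zero fun lam₃ _ => ?_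
      rw [if_neg]
      intro h
      apply hne u
      rw [h]
      unfold pairX
      rw [comp_cjP_eq_of_mem S lam₃ v.1 v.2 hv]
      exact mul_inv_cancel (lam₃.comp (cjP S v.2))
    · rw [if_neg hv, ← Finset.card_filter]
      apply Finset.card_le_one.mpr
      intro a ha b hb
      rw [Finset.mem_filter] at ha hb
      have hab : pairX S a a v = pairX S b b v := ha.2.symm.trans hb.2
      have hν : (a * b⁻¹).comp (cjP S v.1) = (a * b⁻¹).comp (cjP S v.2) := by
        ext x
        have h1 := congrArg (fun f : P.subgroupOf C →* ℂˣ => f x) hab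
        simp only [pairX, MonoidHom.mul_apply, MonoidHom.inv_apply, MonoidHom.comp_apply] at h1
        simp only [MonoidHom.mul_apply, MonoidHom.inv_apply, MonoidHom.comp_apply]
        have h2 : a (cjP S v.1 x) * (b (cjP S v.1 x))⁻¹ = a (cjP S v.2 x) * (b (cjP S v.2 x))⁻¹ := by
          rw [mul_inv_eq_iff_eq_mul] at h1 ⊢
          rw [h1]
          ac_rfl
        rw [h2]
      have hν1 : a * b⁻¹ = 1 := by
        by_contra hν1
        exact hv ((comp_cjP_eq_iff S hν1 v.1 v.2).mp hν)
      exact mul_inv_eq_one.mp hν1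
  calc ∑ lam₃ ∈ Finset.univ.erase (1 : P.subgroupOf C →* ℂˣ), ∑ u : N × N, ∑ v : N × N,
        (if pairX S lam lam₂ u = pairX S lam₃ lam₃ v then 1 else 0)
      = ∑ u : N × N, ∑ v : N × N, ∑ lam₃ ∈ Finset.univ.erase (1 : P.subgroupOf C →* ℂˣ),
          (if pairX S lam lam₂ u = pairX S lam₃ lam₃ v then 1 else 0) := by
        rw [Finset.sum_comm]
        refine Finset.sum_congr rfl fun u _ => ?_
        rw [Finset.sum_comm]
    _ ≤ ∑ _u : N × N, ∑ v : N × N, (if ((v.1 * v.2⁻¹ : N) : G) ∈ C then 0 else 1) :=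
        Finset.sum_le_sum fun u _ => Finset.sum_le_sum fun v _ => hterm u v
    _ = Nat.card N ^ 2 * (Nat.card N * (Nat.card N - Nat.card C)) := by
        have h1 : ∑ v : N × N, (if ((v.1 * v.2⁻¹ : N) : G) ∈ C then 0 else 1) =
            Nat.card N * (Nat.card N - Nat.card C) := by
          rw [Fintype.sum_prod_type_right]
          simp only [sum_not_coset S]
          rw [Finset.sum_const, Finset.card_univ, smul_eq_mul, Nat.card_eq_fintype_card (α := N)]
        rw [h1, Finset.sum_const, Finset.card_univ, smul_eq_mul, Fintype.card_prod,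
          ← Nat.card_eq_fintype_card (α := N), sq]

end Cfsg.Agent.H82.BL
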