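import Cfsg.Agent.H82.BL8

/-!
# Leonard's theorem, part 9: `final_count` and `claimB` (helper82)
-/

set_option autoImplicit false
set_option linter.style.haveILetI false
set_option linter.unusedSectionVars false
set_option maxHeartbeats 1000000

namespace Cfsg.Agent.H82.BL

open Cfsg Cfsg.Agent.H4 Cfsg.Agent.H82
open scoped ComplexConjugate
open Classical

universe u

variable {G : Type u} [Group G] [Fintype G] {p : ℕ} {N C P : Subgroup G} [Fintype N] [Fintype C]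
  [Fintype (P.subgroupOf C)]

/-- The final count: the configuration `ψ|C = trN α`, `|N : C| ≥ 2`, `|N : C|² + 1 < |P|`
is impossible. -/
theorem final_count (S : Setup p N C P) (ψ : IrrCharacter G) (α : C →* ℂˣ)
    (hψ : (fun c : C => ψ.1 c) = trN S (linChar α).1)
    (hα : α.comp (P.subgroupOf C).subtype ≠ 1)
    (r : ℝ) (hr : (ind S : ℝ) - 1 ≤ r)
    (hδ : (Nat.card N : ℂ)⁻¹ * SK p C (fun g => ψ.1 g * conj (ψ.1 g))
          (fun g => ψ.1 g * conj (ψ.1 g)) -
        piG p (fun g => ψ.1 g * conj (ψ.1 g)) (fun g => ψ.1 g * conj (ψ.1 g)) = r)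
    (he : 2 ≤ ind S) (hq : ind S ^ 2 + 1 < Nat.card P) : False := by
  have hcomm : ∀ a b : P.subgroupOf C, a * b = b * a := by
    intro a b
    apply Subtype.ext
    apply Subtype.ext
    exact S.cent ((a : C) : G) (Subgroup.mem_subgroupOf.mp a.2) ((b : C) : G) (b : C).2
  obtain ⟨hfin, hcardX⟩ := card_hom_units hcomm
  haveI := hfin
  letI : Fintype (P.subgroupOf C →* ℂˣ) := Fintype.ofFinite _
  have hcardX' : Fintype.card (P.subgroupOf C →* ℂˣ) = Nat.card P := by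
    rw [← Nat.card_eq_fintype_card, hcardX]
    exact Nat.card_congr (Subgroup.subgroupOfEquivOfLe S.hPC).toEquiv
  set lam : P.subgroupOf C →* ℂˣ := α.comp (P.subgroupOf C).subtype with hlam
  obtain ⟨lam₂, hlam₂1, hoff⟩ := exists_off_orbit S lam (by nlinarith) hcardX'
  set αf : (P.subgroupOf C →* ℂˣ) → (C →* ℂˣ) := fun μ => α * ((μ * lam⁻¹).comp S.ρ) with hαf
  have hαf_res : ∀ μ, (αf μ).comp (P.subgroupOf C).subtype = μ := by
    intro μ
    ext x
    simp only [hαf, MonoidHom.comp_apply, MonoidHom.mul_apply, Subgroup.coe_subtype, S.hρ,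
      MonoidHom.inv_apply, hlam]
    rw [mul_comm (μ x), ← mul_assoc, mul_inv_cancel, one_mul]
  have hαf_reg : ∀ μ, ∀ c : C, ¬ p ∣ orderOf (c : G) → αf μ c = α c := by
    intro μ c hc
    simp only [hαf, MonoidHom.mul_apply, MonoidHom.comp_apply, (S.hreg c).mp hc, map_one,
      mul_one]
  have hpart : ∀ μ : P.subgroupOf C →* ℂˣ, ∃ Θ : IrrCharacter G, μ ≠ 1 →
      ((fun c : C => Θ.1 c) = trN S (linChar (αf μ)).1 ∧
        ∀ g : G, ¬ p ∣ orderOf g → Θ.1 g = ψ.1 g) := by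
    intro μ
    by_cases hμ : μ = 1
    · exact ⟨ψ, fun h => absurd hμ h⟩
    · obtain ⟨Θ, h1, h2⟩ := exists_partner S ψ α (αf μ) hψ (hαf_reg μ) hα
        (by rw [hαf_res]; exact hμ)
      exact ⟨Θ, fun _ => ⟨h1, h2⟩⟩
  choose Θ hΘ using hpart
  obtain ⟨hΘ₂res, hΘ₂reg⟩ := hΘ lam₂ hlam₂1
  have hE : (0 : ℝ) < ind S := by exact_mod_cast ind_pos S
  have hE2 : (2 : ℝ) ≤ ind S := by exact_mod_cast he
  have hC0 : (0 : ℝ) < Nat.card C := by
    have : 0 < Nat.card C := Nat.card_pos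
    exact_mod_cast this
  have hNC : (Nat.card N : ℝ) = (ind S : ℝ) * (Nat.card C : ℝ) := by
    rw [← ind_mul S]; push_cast; rfl
  set W : G → ℂ := fun g => ψ.1 g * conj (ψ.1 g) with hW
  set cT : (P.subgroupOf C →* ℂˣ) → ℕ := fun lam₃ => ∑ u : N × N, ∑ v : N × N,
    if pairHom S α (αf lam₂) u = pairHom S (αf lam₃) (αf lam₃) v then 1 else 0 with hcT
  have hmain : ∀ lam₃ : P.subgroupOf C →* ℂˣ, lam₃ ≠ 1 →
      (Nat.card C : ℝ) ^ 4 * ((ind S : ℝ) * ((ind S : ℝ) - 1)) ≤ (cT lam₃ : ℝ) := by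
    intro lam₃ h3
    obtain ⟨hΘ₃res, hΘ₃reg⟩ := hΘ lam₃ h3
    set F : G → ℂ := fun g => ψ.1 g * conj ((Θ lam₂).1 g) with hF
    set F' : G → ℂ := fun g => (Θ lam₃).1 g * conj ((Θ lam₃).1 g) with hF'
    have hFc : IsCharacter G F := isCharacter_mul (isCharacter_of_isIrrCharacter ψ.2)
      (isCharacter_conj (isCharacter_of_isIrrCharacter (Θ lam₂).2))
    have hF'c : IsCharacter G F' := isCharacter_mul (isCharacter_of_isIrrCharacter (Θ lam₃).2)
      (isCharacter_conj (isCharacter_of_isIrrCharacter (Θ lam₃).2))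
    obtain ⟨k, hk⟩ := classInner_isCharacter_nat hFc hF'c
    have hti := ti_inner S (isClassFunction_of_isCharacter hFc)
      (isClassFunction_of_isCharacter hF'c)
    have hpi : piG p F F' = piG p W W :=
      piG_congr (fun g hg => by simp only [hF, hW]; rw [hΘ₂reg g hg])
        (fun g hg => by simp only [hF', hW]; rw [hΘ₃reg g hg])
    have hsk : SK p C F F' = SK p C W W :=
      SK_congr (fun c hc => by simp only [hF, hW]; rw [hΘ₂reg c hc])
        (fun c hc => by simp only [hF', hW]; rw [hΘ₃reg c hc])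
    have hFC : (fun c : C => F c) =
        fun c => trN S (linChar α).1 c * conj (trN S (linChar (αf lam₂)).1 c) := by
      funext c
      have e1 : ψ.1 c = trN S (linChar α).1 c := congrFun hψ c
      have e2 : (Θ lam₂).1 c = trN S (linChar (αf lam₂)).1 c := congrFun hΘ₂res c
      change ψ.1 c * conj ((Θ lam₂).1 c) = _
      rw [e1, e2]
    have hF'C : (fun c : C => F' c) =
        fun c => trN S (linChar (αf lam₃)).1 c * conj (trN S (linChar (αf lam₃)).1 c) := by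
      funext c
      have e2 : (Θ lam₃).1 c = trN S (linChar (αf lam₃)).1 c := congrFun hΘ₃res c
      change (Θ lam₃).1 c * conj ((Θ lam₃).1 c) = _
      rw [e2]
    rw [hk, hpi, hsk, hFC, hF'C, inner_pair] at hti
    have h5 : (k : ℂ) = (ind S : ℂ)⁻¹ * (((Nat.card C : ℂ)⁻¹) ^ 4 * (cT lam₃ : ℂ)) - (r : ℂ) := by
      rw [← hδ, hti]
      ring
    have h5R : (k : ℝ) = (ind S : ℝ)⁻¹ * (((Nat.card C : ℝ)⁻¹) ^ 4 * (cT lam₃ : ℝ)) - r := by
      apply Complex.ofReal_injective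
      push_cast
      exact h5
    have h6 : (cT lam₃ : ℝ) = (Nat.card C : ℝ) ^ 4 * ((ind S : ℝ) * (k + r)) := by
      field_simp at h5R ⊢
      linarith
    rw [h6]
    apply mul_le_mul_of_nonneg_left _ (by positivity)
    apply mul_le_mul_of_nonneg_left _ hE.le
    have hk0 : (0 : ℝ) ≤ k := Nat.cast_nonneg k
    linarith
  set cX : (P.subgroupOf C →* ℂˣ) → ℕ := fun lam₃ => ∑ u : N × N, ∑ v : N × N,
    if pairX S lam lam₂ u = pairX S lam₃ lam₃ v then 1 else 0 with hcX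
  have hle : ∀ lam₃, cT lam₃ ≤ cX lam₃ := by
    intro lam₃
    refine Finset.sum_le_sum fun u _ => Finset.sum_le_sum fun v _ => ?_
    by_cases h : pairHom S α (αf lam₂) u = pairHom S (αf lam₃) (αf lam₃) v
    · have h' : pairX S lam lam₂ u = pairX S lam₃ lam₃ v := by
        have h1 := congrArg (fun β : C →* ℂˣ => β.comp (P.subgroupOf C).subtype) h
        simp only [pairHom_restrict, hαf_res] at h1
        exact h1
      rw [if_pos h, if_pos h']
    · rw [if_neg h]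
      exact Nat.zero_le _
  have hsum := count_rel S lam lam₂ hoff
  have hlow : ((Finset.univ.erase (1 : P.subgroupOf C →* ℂˣ)).card : ℝ) *
      ((Nat.card C : ℝ) ^ 4 * ((ind S : ℝ) * ((ind S : ℝ) - 1))) ≤
      ((∑ lam₃ ∈ Finset.univ.erase (1 : P.subgroupOf C →* ℂˣ), cX lam₃ : ℕ) : ℝ) := by
    push_cast
    rw [← nsmul_eq_mul, ← Finset.sum_const]
    refine Finset.sum_le_sum fun lam₃ h3 => ?_
    have h4 := hmain lam₃ (Finset.ne_of_mem_erase h3)
    have h5 : (cT lam₃ : ℝ) ≤ (cX lam₃ : ℝ) := by exact_mod_cast hle lam₃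
    exact le_trans h4 h5
  have hcardE : (Finset.univ.erase (1 : P.subgroupOf C →* ℂˣ)).card = Nat.card P - 1 := by
    rw [Finset.card_erase_of_mem (Finset.mem_univ _), Finset.card_univ, hcardX']
  have hCN : Nat.card C ≤ Nat.card N := Nat.le_of_dvd Nat.card_pos (Subgroup.card_dvd_of_le S.hCN)
  have hupR : ((∑ lam₃ ∈ Finset.univ.erase (1 : P.subgroupOf C →* ℂˣ), cX lam₃ : ℕ) : ℝ) ≤
      (Nat.card N : ℝ) ^ 2 * ((Nat.card N : ℝ) * ((Nat.card N : ℝ) - (Nat.card C : ℝ))) := by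
    have h' : ((∑ lam₃ ∈ Finset.univ.erase (1 : P.subgroupOf C →* ℂˣ), cX lam₃ : ℕ) : ℝ) ≤
        ((Nat.card N ^ 2 * (Nat.card N * (Nat.card N - Nat.card C)) : ℕ) : ℝ) := by
      exact_mod_cast hsum
    rw [Nat.cast_mul, Nat.cast_pow, Nat.cast_mul, Nat.cast_sub hCN] at h'
    exact h'
  have hP1 : 1 ≤ Nat.card P := Nat.card_pos
  rw [hcardE, Nat.cast_sub hP1, Nat.cast_one] at hlow
  have hpos : 0 < (Nat.card C : ℝ) ^ 4 * ((ind S : ℝ) * ((ind S : ℝ) - 1)) :=
    mul_pos (pow_pos hC0 4) (mul_pos hE (by linarith))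
  have h1 : ((Nat.card P : ℝ) - 1) * ((Nat.card C : ℝ) ^ 4 * ((ind S : ℝ) * ((ind S : ℝ) - 1))) ≤
      (ind S : ℝ) ^ 2 * ((Nat.card C : ℝ) ^ 4 * ((ind S : ℝ) * ((ind S : ℝ) - 1))) := by
    calc ((Nat.card P : ℝ) - 1) * ((Nat.card C : ℝ) ^ 4 * ((ind S : ℝ) * ((ind S : ℝ) - 1)))
        ≤ (Nat.card N : ℝ) ^ 2 * ((Nat.card N : ℝ) * ((Nat.card N : ℝ) - (Nat.card C : ℝ))) :=
          le_trans hlow hupR
      _ = (ind S : ℝ) ^ 2 * ((Nat.card C : ℝ) ^ 4 * ((ind S : ℝ) * ((ind S : ℝ) - 1))) := by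
          rw [hNC]; ring
  have h2 : (Nat.card P : ℝ) - 1 ≤ (ind S : ℝ) ^ 2 := le_of_mul_le_mul_right h1 hpos
  have h3 : (ind S : ℝ) ^ 2 + 1 < Nat.card P := by exact_mod_cast hq
  linarith

/-- The core claim. -/
theorem claimB (S : Setup p N C P)
    (hP : ∀ Φ : IrrCharacter G, (∀ x ∈ P, Φ.1 x = Φ.1 1) → Φ.1 = fun _ => 1)
    (ψ : IrrCharacter G) (hdeg : charDegree ψ.1 ^ 2 + 1 < Nat.card P) : charDegree ψ.1 = 1 := by
  by_cases htriv : ∀ x ∈ P, ψ.1 x = ψ.1 1
  · have h1 := hP ψ htriv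
    apply charDegree_of_natCast (n := 1)
    rw [h1]
    simp
  · push Not at htriv
    obtain ⟨x, hx, hne⟩ := htriv
    obtain ⟨ϑ, ω, hcen, hω1, hne0⟩ :=
      exists_constituent S (isCharacter_of_isIrrCharacter ψ.2) x hx hne
    have hdeg' : charDegree ψ.1 ^ 2 < Nat.card P := by omega
    have hres := restrict_eq_trN S ψ ϑ hcen hω1 hne0 hdeg'
    obtain ⟨hϑ1, r, hr, hδ⟩ := key_bound S hP ψ ϑ hcen hω1 hres hdeg'
    set α := irrLinearHom ϑ hϑ1 with hα
    have hlin : linChar α = ϑ := linChar_irrLinearHom ϑ hϑ1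
    have hd : ψ.1 1 = (ind S : ℂ) := by
      have h1 : ψ.1 1 = trN S ϑ.1 1 := congrFun hres 1
      rw [h1, trN_one, hϑ1, mul_one, cinv_mul_cardN]
    have hdeg_eq : charDegree ψ.1 = ind S := charDegree_of_natCast hd
    by_contra hd1
    have he : 2 ≤ ind S := by
      have := ind_pos S
      omega
    have hα1 : α.comp (P.subgroupOf C).subtype ≠ 1 := by
      have h1 := isCen_lin (P := P) α
      rw [hlin] at h1
      rw [IsCen.eq_of h1 hcen (Cfsg.Agent.H82.irr_one_ne_zero ϑ)]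
      exact hω1
    exact final_count S ψ α (by rw [hlin]; exact hres) hα1 r hr hδ he
      (by rw [← hdeg_eq]; exact hdeg)

end Cfsg.Agent.H82.BL
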