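import Mathlib
import Cfsg.Agent.H6.Co3Abs

/-!
Piece CO3-CENTRAL of helper6's team project S2071: if `y` is the only nontrivial central element
of a Sylow 2-subgroup `P`, every automorphism sends `y` to a conjugate of `y`.
-/

set_option autoImplicit false

namespace Cfsg.Agent.H82.Co3P

open Cfsg.Agent.H6.Co3

open scoped Pointwise

theorem central : StCentral := by
  intro J _ _ P y k hP hk hyP hy1 hyc huniq α
  classical
  haveI : Fact (Nat.Prime 2) := ⟨Nat.prime_two⟩
  have hJ0 : Nat.card J ≠ 0 := Nat.card_pos.ne'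
  have hdvd : 2 ^ k ∣ Nat.card J := by
    rw [← hP]; exact Subgroup.card_subgroup_dvd_card P
  have hfact : (Nat.card J).factorization 2 = k := by
    have h1 : k ≤ (Nat.card J).factorization 2 :=
      (Nat.prime_two.pow_dvd_iff_le_factorization hJ0).mp hdvd
    have h2 : ¬ k + 1 ≤ (Nat.card J).factorization 2 := fun h =>
      hk ((Nat.prime_two.pow_dvd_iff_le_factorization hJ0).mpr h)
    omega
  have hcardmap : Nat.card ↥(P.map α.toMonoidHom) = 2 ^ k := by
    rw [← hP]
    exact Nat.card_congr (P.equivMapOfInjective α.toMonoidHom α.injective).symm.toEquiv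
  let S1 : Sylow 2 J := Sylow.ofCard P (by rw [hP, hfact])
  let S2 : Sylow 2 J := Sylow.ofCard (P.map α.toMonoidHom) (by rw [hcardmap, hfact])
  obtain ⟨g, hg⟩ := MulAction.exists_smul_eq J S2 S1
  have hg' : MulAut.conj g • (P.map α.toMonoidHom) = P := by
    have := congrArg (fun S : Sylow 2 J => (S : Subgroup J)) hg
    simpa [S1, S2, Sylow.coe_subgroup_smul] using this
  -- membership transfer
  have hmem : ∀ h : J, h ∈ P → g * α h * g⁻¹ ∈ P := by
    intro h hh
    have h1 : α h ∈ P.map α.toMonoidHom := ⟨h, hh, rfl⟩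
    have h2 : MulAut.conj g • (α h) ∈ MulAut.conj g • (P.map α.toMonoidHom) :=
      Subgroup.smul_mem_pointwise_smul _ _ _ h1
    rw [hg'] at h2
    simpa [MulAut.smul_def] using h2
  have hsurj : ∀ h : J, h ∈ P → ∃ h' ∈ P, h = g * α h' * g⁻¹ := by
    intro h hh
    rw [← hg'] at hh
    rw [Subgroup.mem_pointwise_smul_iff_inv_smul_mem] at hh
    obtain ⟨h', hh', e⟩ := hh
    refine ⟨h', hh', ?_⟩
    have e' : α h' = g⁻¹ * h * g := by
      have : α h' = (MulAut.conj g)⁻¹ • h := e
      rw [this, MulAut.smul_def, MulAut.conj_inv_apply]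
    rw [e']; group
  have hc : g * α y * g⁻¹ = 1 ∨ g * α y * g⁻¹ = y := by
    apply huniq _ (hmem y hyP)
    intro h hh
    obtain ⟨h', hh', rfl⟩ := hsurj h hh
    have e1 : g * α y * g⁻¹ * (g * α h' * g⁻¹) = g * α (y * h') * g⁻¹ := by
      rw [map_mul]; group
    have e2 : g * α h' * g⁻¹ * (g * α y * g⁻¹) = g * α (h' * y) * g⁻¹ := by
      rw [map_mul]; group
    rw [e1, e2, hyc h' hh']
  rcases hc with hc | hc
  · exfalso
    apply hy1
    have h1 : α y = 1 := by
      have e : α y = g⁻¹ * (g * α y * g⁻¹) * g := by group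
      rw [e, hc]; group
    exact (map_eq_one_iff α α.injective).mp h1
  · refine ⟨g⁻¹, ?_⟩
    have e : α y = g⁻¹ * (g * α y * g⁻¹) * g := by group
    rw [e, hc, inv_inv]

example : Cfsg.Agent.H6.Co3.StCentral := central

end Cfsg.Agent.H82.Co3P
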