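import Mathlib
import Cfsg.Agent.H82.CanonExt

/-!
# Extension of invariant characters over an abelian quotient of coprime order (helper82)

`exists_ext_of_abelian_coprime`: `M ⊴ G`, `G/M` abelian, `ψ ∈ Irr(M)` invariant in `G`,
`(ψ(1), [G:M]) = 1 = (o(ψ), [G:M])`: then `ψ` extends to `χ ∈ Irr(G)` with `o(χ) ∣ o(ψ)`.
(Isaacs 8.16 for abelian quotients; proof by climbing prime-index steps with the canonical
extension of `CanonExt`.)
-/

set_option autoImplicit false
set_option linter.style.haveILetI false
set_option linter.unusedSectionVars false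

namespace Cfsg.Agent.H82

open Cfsg Cfsg.Agent.H4 Cfsg.Agent.Clifford

universe u

theorem detOrder_dvd_card {G : Type u} [Group G] [Finite G] (χ : G → ℂ) :
    detOrder χ ∣ Nat.card G := by
  rw [detOrder_dvd_iff]
  intro g
  have := congrFun (detChar_pow_card χ) g
  simpa using this

theorem exists_ext_of_abelian_coprime : ∀ (n : ℕ) (G : Type u) [Group G] [Finite G]
    (M : Subgroup G) [hM : M.Normal] (ψ : M → ℂ), M.index = n →
    (∀ a b : G, a * b * a⁻¹ * b⁻¹ ∈ M) → IsIrrCharacter M ψ →
    (∀ (g : G) (m : M), ψ ⟨g * m * g⁻¹, hM.conj_mem (m : G) m.2 g⟩ = ψ m) →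
    Nat.Coprime (charDegree ψ) n → Nat.Coprime (detOrder ψ) n →
    ∃ χ : G → ℂ, IsIrrCharacter G χ ∧ (∀ m : M, χ m = ψ m) ∧ detOrder χ ∣ detOrder ψ := by
  intro n
  induction n using Nat.strong_induction_on with
  | _ n ih =>
  intro G _ _ M hM ψ hidx hab hψ hinv hcd hco
  classical
  by_cases htop : M = ⊤
  · -- base case
    let e : G ≃* M := Subgroup.topEquiv.symm.trans (MulEquiv.subgroupCongr htop.symm)
    have he : ∀ g : G, ((e g : M) : G) = g := fun g => rfl
    refine ⟨fun g => ψ (e g), isIrrCharacter_comp_equiv e hψ, ?_, ?_⟩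
    · intro m
      show ψ (e (m : G)) = ψ m
      congr 1
    · rw [detOrder_comp_equiv e (isCharacter_of_isIrrCharacter hψ)]
  · -- a subgroup K/M of prime order
    have hn1 : Nat.card (G ⧸ M) ≠ 1 := by
      rw [← Subgroup.index_eq_card]
      intro h
      exact htop (Subgroup.index_eq_one.mp h)
    obtain ⟨q, hq, hqd⟩ := Nat.exists_prime_and_dvd hn1
    haveI : Fact q.Prime := ⟨hq⟩
    obtain ⟨x, hx⟩ := exists_prime_orderOf_dvd_card' q hqd
    have hqn : q ∣ n := by rw [← hidx, Subgroup.index_eq_card]; exact hqd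
    set K : Subgroup G := (Subgroup.zpowers x).comap (QuotientGroup.mk' M) with hK
    have hMK : M ≤ K := by
      intro m hm
      rw [hK, Subgroup.mem_comap]
      have : (QuotientGroup.mk' M) m = 1 := (QuotientGroup.eq_one_iff m).mpr hm
      rw [this]
      exact one_mem _
    have hKn : K.Normal := by
      constructor
      intro k hk g
      have h1 : g * k * g⁻¹ = (g * k * g⁻¹ * k⁻¹) * k := by group
      rw [h1]
      exact K.mul_mem (hMK (hab g k)) hk
    have hKidx : K.index = (Subgroup.zpowers x).index :=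
      Subgroup.index_comap_of_surjective _ (QuotientGroup.mk'_surjective M)
    have hrel : M.relIndex K = q := by
      have h1 := Subgroup.relIndex_mul_index hMK
      have h2 := Subgroup.index_mul_card (Subgroup.zpowers x)
      rw [Nat.card_zpowers, hx] at h2
      rw [hKidx, Subgroup.index_eq_card M, ← h2] at h1
      have hpos : 0 < (Subgroup.zpowers x).index := Nat.pos_of_ne_zero Subgroup.index_ne_zero_of_finite
      exact Nat.eq_of_mul_eq_mul_right hpos (by rw [h1, mul_comm])
    have hKlt : K.index < n := by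
      have h1 := Subgroup.relIndex_mul_index hMK
      rw [hrel, hidx] at h1
      have hpos : 0 < K.index := Nat.pos_of_ne_zero Subgroup.index_ne_zero_of_finite
      have := hq.two_le
      nlinarith
    have hKdvd : K.index ∣ n := by
      have h1 := Subgroup.relIndex_mul_index hMK
      rw [hidx] at h1
      exact Dvd.intro_left _ h1
    -- the prime-index step inside K
    let M' : Subgroup K := M.subgroupOf K
    haveI hM'n : M'.Normal := Subgroup.normal_subgroupOf
    let e : M' ≃* M := Subgroup.subgroupOfEquivOfLe hMK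
    have he : ∀ y : M', ((e y : M) : G) = ((y : K) : G) := fun y => rfl
    set ψ' : M' → ℂ := fun y => ψ (e y) with hψ'
    have hψ'irr : IsIrrCharacter M' ψ' := isIrrCharacter_comp_equiv e hψ
    have hdeg' : charDegree ψ' = charDegree ψ := charDegree_eq_of_one_eq (by show ψ (e 1) = ψ 1; rw [map_one])
    have hord' : detOrder ψ' = detOrder ψ :=
      detOrder_comp_equiv e (isCharacter_of_isIrrCharacter hψ)
    have hidx' : M'.index = q := hrel
    have hinvG : ∀ (g : G) (y : M') (hy : g * ((y : K) : G) * g⁻¹ ∈ M),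
        ψ ⟨g * ((y : K) : G) * g⁻¹, hy⟩ = ψ' y := by
      intro g y hy
      exact hinv g (e y)
    have hinv' : ∀ (k : K) (y : M'),
        ψ' ⟨k * y * k⁻¹, hM'n.conj_mem (y : K) y.2 k⟩ = ψ' y := by
      intro k y
      exact hinv (k : G) (e y)
    have hqd' : ¬ q ∣ charDegree ψ' := by
      rw [hdeg']
      intro h
      have := Nat.dvd_gcd h hqn
      rw [hcd.gcd_eq_one] at this
      exact hq.one_lt.ne' (Nat.dvd_one.mp this)
    have hqo' : ¬ q ∣ detOrder ψ' := by
      rw [hord']
      intro h
      have := Nat.dvd_gcd h hqn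
      rw [hco.gcd_eq_one] at this
      exact hq.one_lt.ne' (Nat.dvd_one.mp this)
    obtain ⟨χK, hχK, hextK, hdvK⟩ := exists_canon_ext M' hq hidx' hψ'irr hinv' hqd' hqo'
    have hχKc := isCharacter_of_isIrrCharacter hχK
    have hqoK : ¬ q ∣ detOrder χK := fun h => hqo' (dvd_trans h hdvK)
    -- χK is G-invariant
    have hχKinv : ∀ g : G, conjChar K χK g = χK := by
      intro g
      have hirr₁ : IsIrrCharacter K (conjChar K χK g) := isIrrCharacter_conjChar K hχK g
      have e₁ : ∀ y : M', conjChar K χK g (y : K) = ψ' y := by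
        intro y
        rw [conjChar_apply]
        have hy : g * ((y : K) : G) * g⁻¹ ∈ M := hM.conj_mem _ (e y).2 g
        have hmem : (⟨g * ((y : K) : G) * g⁻¹, hKn.conj_mem _ (y : K).2 g⟩ : K) ∈ M' := hy
        have := hextK ⟨_, hmem⟩
        rw [this]
        exact hinvG g y hy
      have o₁ : ¬ q ∣ detOrder (conjChar K χK g) := by
        rw [conjChar_eq_comp, detOrder_comp_equiv (MulAut.conjNormal g) hχKc]
        exact hqoK
      exact canon_ext_unique M' hq hidx' hψ'irr hinv' hqd' hirr₁ hχK e₁ hextK o₁ hqoK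
    -- induction hypothesis for (G, K, χK)
    have hdegK : charDegree χK = charDegree ψ := by
      rw [← hdeg']
      apply charDegree_eq_of_one_eq
      have := hextK 1
      simpa using this
    have hordK : detOrder χK ∣ detOrder ψ := by rw [← hord']; exact hdvK
    obtain ⟨χ, hχ, hext, hdv⟩ := ih K.index hKlt G K χK rfl (fun a b => hMK (hab a b)) hχK
      (fun g k => congrFun (hχKinv g) k)
      (by rw [hdegK]; exact Nat.Coprime.coprime_dvd_right hKdvd hcd)
      (Nat.Coprime.coprime_dvd_right hKdvd (Nat.Coprime.coprime_dvd_left hordK hco))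
    refine ⟨χ, hχ, ?_, dvd_trans hdv hordK⟩
    intro m
    have h1 := hext ⟨(m : G), hMK m.2⟩
    have h2 := hextK ⟨⟨(m : G), hMK m.2⟩, m.2⟩
    show χ (m : G) = ψ m
    rw [h1]
    exact h2

end Cfsg.Agent.H82
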