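import Mathlib

set_option autoImplicit false

namespace Cfsg.Agent.H82

open MulAction in
theorem ncard_conj_class {G : Type*} [Group G] (g : G) :
    {z : G | IsConj g z}.ncard = (Subgroup.centralizer ({g} : Set G)).index := by
  have h1 : (stabilizer (ConjAct G) g).index = (orbit (ConjAct G) g).ncard := index_stabilizer ..
  have h2 : orbit (ConjAct G) g = {z : G | IsConj g z} := by
    ext z
    rw [ConjAct.mem_orbit_conjAct]
    exact isConj_comm
  rw [← h2, ← h1, Subgroup.centralizer_eq_comap_stabilizer]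
  exact (Subgroup.index_comap_of_surjective _ (ConjAct.toConjAct (G := G)).surjective).symm

/-- The smallest normal subgroup of index prime to `p` (the subgroup `O^{p'}(G)`). -/
theorem exists_min_normal_index_not_dvd {G : Type*} [Group G] [Finite G] (p : ℕ) (hp : p.Prime) :
    ∃ O : Subgroup G, O.Normal ∧ ¬ p ∣ O.index ∧
      ∀ N : Subgroup G, N.Normal → ¬ p ∣ N.index → O ≤ N := by
  let 𝒩 : Set (Subgroup G) := {N | N.Normal ∧ ¬ p ∣ N.index}
  have hne : 𝒩.Nonempty := ⟨⊤, Subgroup.normal_top, by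
    rw [Subgroup.index_top]; exact hp.one_lt.ne' ∘ Nat.dvd_one.mp⟩
  obtain ⟨O, hO, hmin⟩ := Set.exists_min_image 𝒩 (fun N => Nat.card N) (Set.toFinite 𝒩) hne
  refine ⟨O, hO.1, hO.2, fun N hN hpN => ?_⟩
  have hOn := hO.1
  have hmem : O ⊓ N ∈ 𝒩 := by
    refine ⟨inferInstance, ?_⟩
    rw [← Subgroup.relIndex_mul_index (inf_le_left : O ⊓ N ≤ O), Subgroup.inf_relIndex_left]
    intro hdvd
    rcases hp.dvd_mul.mp hdvd with h | h
    · exact hpN (dvd_trans h (Subgroup.relIndex_dvd_index_of_normal N O))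
    · exact hO.2 h
  have hle : Nat.card O ≤ Nat.card (O ⊓ N : Subgroup G) := hmin (O ⊓ N) hmem
  have heq : O ⊓ N = O := Subgroup.eq_of_le_of_card_ge inf_le_left hle
  exact heq ▸ inf_le_right

/-- If `a = p * z` with `z` an algebraic integer then `p ∣ a`. -/
theorem nat_dvd_of_isIntegral {a p : ℕ} (hp : p ≠ 0) (z : ℂ) (hz : IsIntegral ℤ z)
    (h : (a : ℂ) = p * z) : p ∣ a := by
  have hp' : (p : ℂ) ≠ 0 := by exact_mod_cast hp
  have hz' : z = algebraMap ℚ ℂ ((a : ℚ) / p) := by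
    rw [map_div₀]
    simp only [map_natCast]
    rw [h]
    field_simp
  rw [hz'] at hz
  have h1 : IsIntegral ℤ ((a : ℚ) / p) :=
    (isIntegral_algebraMap_iff (algebraMap ℚ ℂ).injective).1 hz
  obtain ⟨n, hn⟩ := IsIntegrallyClosed.isIntegral_iff.1 h1
  have hpq : (p : ℚ) ≠ 0 := by exact_mod_cast hp
  have h2 : (a : ℚ) = p * n := by
    have : (n : ℚ) = (a : ℚ) / p := by simpa using hn
    rw [this]; field_simp
  have h3 : (a : ℤ) = p * n := by exact_mod_cast h2
  exact Int.natCast_dvd_natCast.mp ⟨n, h3⟩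

end Cfsg.Agent.H82
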