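import Cfsg.Agent.H82.O459E3a
import Cfsg.Agent.H21.SimpleTools

/-!
# Piece S1022-E3 (for helper21)

`exists_three_of_index_three`: `H ≤ G` of order `2^7 * 3^2 * 19`, `P ≤ H` of order `19` with
`|N_H(P)| = 3 |C_H(P)|`; if every subgroup `K ≥ P` of order `2^7 * 3 * 19` with `N_K(P) ≤ C(P)`
contains an element of order `3` centralizing `P`, then so does `H`.
-/

set_option autoImplicit false
set_option linter.unusedSectionVars false
set_option linter.style.haveILetI false

namespace Cfsg.Agent.H82.O459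

open Cfsg

/-- The centralizer of `P` inside a subgroup `H ≥ P`. -/
theorem centralizer_subgroupOf' {G : Type*} [Group G] {P H : Subgroup G} (hPH : P ≤ H) :
    Subgroup.centralizer ((P.subgroupOf H : Subgroup H) : Set H) =
      (Subgroup.centralizer (P : Set G)).subgroupOf H := by
  ext c
  rw [Subgroup.mem_subgroupOf, Subgroup.mem_centralizer_iff, Subgroup.mem_centralizer_iff]
  constructor
  · intro h x hx
    have h1 := h ⟨x, hPH hx⟩ (by rw [SetLike.mem_coe, Subgroup.mem_subgroupOf]; exact hx)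
    exact congrArg Subtype.val h1
  · intro h x hx
    apply Subtype.ext
    exact h x (Subgroup.mem_subgroupOf.mp hx)

theorem exists_three_of_index_three {G : Type*} [Group G] [Finite G] (H P : Subgroup G)
    (hPH : P ≤ H) (hP : Nat.card P = 19) (hH : Nat.card H = 2 ^ 7 * 3 ^ 2 * 19)
    (hidx : Nat.card ↥(Subgroup.normalizer (P : Set G) ⊓ H) =
      3 * Nat.card ↥(Subgroup.centralizer (P : Set G) ⊓ H))
    (hE1 : ∀ K : Subgroup G, P ≤ K → Nat.card K = 2 ^ 7 * 3 * 19 →
      Subgroup.normalizer (P : Set G) ⊓ K ≤ Subgroup.centralizer (P : Set G) →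
      ∃ u ∈ K, orderOf u = 3 ∧ u ∈ Subgroup.centralizer (P : Set G)) :
    ∃ u ∈ H, orderOf u = 3 ∧ u ∈ Subgroup.centralizer (P : Set G) := by
  classical
  haveI : Fact (Nat.Prime 19) := ⟨by norm_num⟩
  have hP'card : Nat.card (P.subgroupOf H) = 19 := by
    rw [Nat.card_congr (Subgroup.subgroupOfEquivOfLe hPH).toEquiv, hP]
  have hpg : IsPGroup 19 (P.subgroupOf H) :=
    IsPGroup.of_card (n := 1) (by rw [hP'card]; norm_num)
  obtain ⟨Q, hQ⟩ := hpg.exists_le_sylow
  have hQcard : Nat.card (Q : Subgroup H) = 19 := by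
    obtain ⟨n, hn⟩ := IsPGroup.iff_card.mp Q.isPGroup'
    have hdvd : Nat.card (Q : Subgroup H) ∣ Nat.card H := Subgroup.card_subgroup_dvd_card _
    have h19 : 19 ∣ Nat.card (Q : Subgroup H) := by
      have h0 := Subgroup.card_dvd_of_le hQ
      rwa [hP'card] at h0
    rw [hn] at h19 hdvd ⊢
    rw [hH] at hdvd
    have hn1 : n ≤ 1 := by
      by_contra hcon
      push Not at hcon
      have h2 : 19 ^ 2 ∣ 2 ^ 7 * 3 ^ 2 * 19 := (pow_dvd_pow 19 hcon).trans hdvd
      norm_num at h2
    interval_cases n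
    · norm_num at h19
    · norm_num
  have hPQ : P.subgroupOf H = (Q : Subgroup H) :=
    Subgroup.eq_of_le_of_card_ge hQ (by rw [hQcard, hP'card])
  have hN : Subgroup.normalizer ((Q : Subgroup H) : Set H) =
      (Subgroup.normalizer (P : Set G)).subgroupOf H := by
    rw [← hPQ]; exact (Subgroup.subgroupOf_normalizer_eq hPH).symm
  have hC : Subgroup.centralizer ((Q : Subgroup H) : Set H) =
      (Subgroup.centralizer (P : Set G)).subgroupOf H := by
    rw [← hPQ]; exact centralizer_subgroupOf' hPH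
  have hcardsub : ∀ A : Subgroup G, Nat.card (A.subgroupOf H) = Nat.card ↥(A ⊓ H) := by
    intro A
    rw [← Subgroup.inf_subgroupOf_right]
    exact Nat.card_congr (Subgroup.subgroupOfEquivOfLe inf_le_right).toEquiv
  have he : (Subgroup.centralizer ((Q : Subgroup H) : Set H)).relIndex
      (Subgroup.normalizer ((Q : Subgroup H) : Set H)) = 3 := by
    have h1 := Cfsg.Agent.H21.card_centralizer_mul_relIndex_normalizer (Q : Subgroup H)
    have hc : Nat.card (Subgroup.centralizer ((Q : Subgroup H) : Set H)) =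
        Nat.card ↥(Subgroup.centralizer (P : Set G) ⊓ H) := by rw [hC, hcardsub]
    have hn : Nat.card (Subgroup.normalizer ((Q : Subgroup H) : Set H)) =
        Nat.card ↥(Subgroup.normalizer (P : Set G) ⊓ H) := by rw [hN, hcardsub]
    rw [hc, hn, hidx] at h1
    have hpos : 0 < Nat.card ↥(Subgroup.centralizer (P : Set G) ⊓ H) := Nat.card_pos
    exact Nat.eq_of_mul_eq_mul_left hpos (h1.trans (mul_comm 3 _))
  obtain ⟨K', hK'idx, hQK', hNK'⟩ := exists_index_three hH Q hQcard he
  have hK'card : Nat.card K' = 2 ^ 7 * 3 * 19 := by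
    have h0 := Subgroup.card_mul_index K'
    rw [hK'idx, hH] at h0
    omega
  have hKcard : Nat.card (K'.map H.subtype) = 2 ^ 7 * 3 * 19 := by
    rw [Subgroup.card_map_of_injective H.subtype_injective]
    exact hK'card
  have hPK : P ≤ K'.map H.subtype := by
    intro x hx
    refine ⟨⟨x, hPH hx⟩, hQK' ?_, rfl⟩
    rw [← hPQ]
    exact Subgroup.mem_subgroupOf.mpr hx
  have hNK : Subgroup.normalizer (P : Set G) ⊓ K'.map H.subtype ≤
      Subgroup.centralizer (P : Set G) := by
    rintro g ⟨hgN, g', hg'K, rfl⟩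
    have h1 : g' ∈ Subgroup.normalizer ((Q : Subgroup H) : Set H) := by
      rw [hN, Subgroup.mem_subgroupOf]; exact hgN
    have h2 := hNK' ⟨h1, hg'K⟩
    rw [hC, Subgroup.mem_subgroupOf] at h2
    exact h2
  obtain ⟨u, huK, hu3, huC⟩ := hE1 _ hPK hKcard hNK
  exact ⟨u, Subgroup.map_subtype_le K' huK, hu3, huC⟩

/-- Verbatim restatement of the posted piece statement (helper21, post 3101). -/
example {G : Type*} [Group G] [Finite G] (H P : Subgroup G)
    (hPH : P ≤ H) (hP : Nat.card P = 19) (hH : Nat.card H = 2 ^ 7 * 3 ^ 2 * 19)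
    (hidx : Nat.card ↥(Subgroup.normalizer (P : Set G) ⊓ H) =
      3 * Nat.card ↥(Subgroup.centralizer (P : Set G) ⊓ H))
    (hE1 : ∀ K : Subgroup G, P ≤ K → Nat.card K = 2 ^ 7 * 3 * 19 →
      Subgroup.normalizer (P : Set G) ⊓ K ≤ Subgroup.centralizer (P : Set G) →
      ∃ u ∈ K, orderOf u = 3 ∧ u ∈ Subgroup.centralizer (P : Set G)) :
    ∃ u ∈ H, orderOf u = 3 ∧ u ∈ Subgroup.centralizer (P : Set G) :=
  exists_three_of_index_three H P hPH hP hH hidx hE1

end Cfsg.Agent.H82.O459
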