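import Mathlib

/-!
# Sylow subgroups of prime order, part A: two counting lemmas (helper82)

* `lattice_bound`: integer vectors `v i` with Gram matrix `e + [g i = g j]` have at most
  `e + |image g|` coordinates in the union of their supports.
* `card_biUnion_le_of_setoid`: comparison of two unions along an equivalence relation.
-/

set_option autoImplicit false

namespace Cfsg.Agent.H82.P1

open Classical

theorem sum_split_pair {X : Type*} [Fintype X] (w : X → ℤ) {x y : X} (hxy : x ≠ y) :
    ∑ z, w z = ∑ z ∈ Finset.univ \ {x, y}, w z + (w x + w y) := by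
  rw [← Finset.sum_pair hxy]
  exact (Finset.sum_sdiff (Finset.subset_univ _)).symm

theorem lattice_aux {X : Type*} [Fintype X] (a b : X → ℤ) (e : ℕ)
    (haa : ∑ x, a x * a x = (e : ℤ) + 1) (hbb : ∑ x, b x * b x = (e : ℤ) + 1)
    (hab : ∑ x, b x * a x = (e : ℤ)) :
    (Finset.univ.filter fun x => b x ≠ 0 ∧ a x = 0).card ≤ 1 := by
  rw [Finset.card_le_one]
  intro x hx y hy
  simp only [Finset.mem_filter, Finset.mem_univ, true_and] at hx hy
  by_contra hxy
  have h2 : ∑ z, (b z - a z) * (b z - a z) = 2 := by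
    have : ∀ z, (b z - a z) * (b z - a z) = b z * b z + a z * a z - 2 * (b z * a z) := by
      intro z; ring
    simp only [this]
    rw [Finset.sum_sub_distrib, Finset.sum_add_distrib, ← Finset.mul_sum, haa, hbb, hab]
    ring
  rw [sum_split_pair _ hxy, hx.2, hy.2] at h2
  have hbx : 1 ≤ b x * b x := by
    have := hx.1
    nlinarith [sq_nonneg (b x), Int.one_le_abs this, abs_mul_abs_self (b x), abs_nonneg (b x)]
  have hby : 1 ≤ b y * b y := by
    have := hy.1
    nlinarith [sq_nonneg (b y), Int.one_le_abs this, abs_mul_abs_self (b y), abs_nonneg (b y)]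
  have hnn : ∀ z ∈ Finset.univ \ {x, y}, 0 ≤ (b z - a z) * (b z - a z) :=
    fun z _ => mul_self_nonneg _
  have hsum0 : ∑ z ∈ Finset.univ \ {x, y}, (b z - a z) * (b z - a z) = 0 := by
    have h3 := Finset.sum_nonneg hnn
    simp only [sub_zero] at h2
    linarith
  have hz := (Finset.sum_eq_zero_iff_of_nonneg hnn).mp hsum0
  have hba : ∀ z ∈ Finset.univ \ {x, y}, b z = a z := by
    intro z hzm
    have := hz z hzm
    have h4 : b z - a z = 0 := mul_self_eq_zero.mp this
    linarith
  rw [sum_split_pair _ hxy, hx.2, hy.2] at hab haa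
  have h5 : ∑ z ∈ Finset.univ \ {x, y}, b z * a z = ∑ z ∈ Finset.univ \ {x, y}, a z * a z :=
    Finset.sum_congr rfl fun z hzm => by rw [hba z hzm]
  rw [h5] at hab
  simp only [mul_zero, add_zero] at hab haa
  linarith

theorem lattice_eq {X : Type*} [Fintype X] (a b : X → ℤ) (e : ℕ)
    (haa : ∑ x, a x * a x = (e : ℤ) + 1) (hbb : ∑ x, b x * b x = (e : ℤ) + 1)
    (hab : ∑ x, b x * a x = (e : ℤ) + 1) : b = a := by
  have h2 : ∑ z, (b z - a z) * (b z - a z) = 0 := by
    have : ∀ z, (b z - a z) * (b z - a z) = b z * b z + a z * a z - 2 * (b z * a z) := by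
      intro z; ring
    simp only [this]
    rw [Finset.sum_sub_distrib, Finset.sum_add_distrib, ← Finset.mul_sum, haa, hbb, hab]
    ring
  have hz := (Finset.sum_eq_zero_iff_of_nonneg (fun z _ => mul_self_nonneg (b z - a z))).mp h2
  funext z
  have h4 : b z - a z = 0 := mul_self_eq_zero.mp (hz z (Finset.mem_univ z))
  linarith

theorem lattice_supp {X : Type*} [Fintype X] (a : X → ℤ) (e : ℕ)
    (haa : ∑ x, a x * a x = (e : ℤ) + 1) :
    (Finset.univ.filter fun x => a x ≠ 0).card ≤ e + 1 := by
  have h1 : ((Finset.univ.filter fun x => a x ≠ 0).card : ℤ) ≤ ∑ x, a x * a x := by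
    rw [Finset.card_eq_sum_ones, Nat.cast_sum, Finset.sum_filter]
    refine Finset.sum_le_sum fun x _ => ?_
    by_cases hx : a x ≠ 0
    · rw [if_pos hx]
      push_cast
      nlinarith [sq_nonneg (a x), Int.one_le_abs hx, abs_mul_abs_self (a x), abs_nonneg (a x)]
    · rw [if_neg hx]
      exact mul_self_nonneg _
  rw [haa] at h1
  exact_mod_cast h1

/-- The lattice lemma. -/
theorem lattice_bound {I X B : Type*} [Fintype I] [Fintype X] [DecidableEq B]
    (v : I → X → ℤ) (g : I → B) (e : ℕ)
    (hG : ∀ i j, ∑ x, v i x * v j x = (e : ℤ) + if g i = g j then 1 else 0) :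
    (Finset.univ.filter fun x => ∃ i, v i x ≠ 0).card ≤ e + (Finset.univ.image g).card := by
  rcases isEmpty_or_nonempty I with hI | ⟨⟨i0⟩⟩
  · have : (Finset.univ.filter fun x : X => ∃ i, v i x ≠ 0) = ∅ := by
      apply Finset.filter_false_of_mem
      intro x _ ⟨i, _⟩
      exact hI.elim i
    rw [this]
    simp
  have hnorm : ∀ i, ∑ x, v i x * v i x = (e : ℤ) + 1 := by
    intro i
    rw [hG i i, if_pos rfl]
  have heq : ∀ i j, g i = g j → v i = v j := by
    intro i j hij
    apply lattice_eq (v j) (v i) e (hnorm j) (hnorm i)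
    rw [hG i j, if_pos hij]
  set S0 : Finset X := Finset.univ.filter fun x => v i0 x ≠ 0 with hS0
  set D : I → Finset X := fun i => Finset.univ.filter fun x => v i x ≠ 0 ∧ v i0 x = 0 with hD
  have hDcard : ∀ i, g i ≠ g i0 → (D i).card ≤ 1 := by
    intro i hi
    apply lattice_aux (v i0) (v i) e (hnorm i0) (hnorm i)
    rw [hG i i0, if_neg hi, add_zero]
  set sec : B → I := fun b => if h : ∃ i, g i = b then h.choose else i0 with hsec
  have hsec_spec : ∀ i, g (sec (g i)) = g i := by
    intro i
    have h : ∃ j, g j = g i := ⟨i, rfl⟩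
    simp only [hsec, dif_pos h]
    exact h.choose_spec
  set R : Finset B := (Finset.univ.image g).erase (g i0) with hR
  have hsub : (Finset.univ.filter fun x => ∃ i, v i x ≠ 0) ⊆ S0 ∪ R.biUnion (fun b => D (sec b)) := by
    intro x hx
    simp only [Finset.mem_filter, Finset.mem_univ, true_and] at hx
    obtain ⟨i, hi⟩ := hx
    rw [Finset.mem_union]
    by_cases h0 : v i0 x ≠ 0
    · left
      simp [hS0, h0]
    · right
      push Not at h0
      have hgi : g i ≠ g i0 := by
        intro h
        rw [heq i i0 h] at hi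
        exact hi h0
      rw [Finset.mem_biUnion]
      refine ⟨g i, ?_, ?_⟩
      · rw [hR, Finset.mem_erase]
        exact ⟨hgi, Finset.mem_image_of_mem g (Finset.mem_univ i)⟩
      · simp only [hD, Finset.mem_filter, Finset.mem_univ, true_and]
        rw [heq _ _ (hsec_spec i)]
        exact ⟨hi, h0⟩
  have h1 : (S0 ∪ R.biUnion (fun b => D (sec b))).card ≤ (e + 1) + R.card := by
    refine le_trans (Finset.card_union_le _ _) (Nat.add_le_add (lattice_supp (v i0) e (hnorm i0)) ?_)
    refine le_trans Finset.card_biUnion_le ?_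
    rw [Finset.card_eq_sum_ones R]
    refine Finset.sum_le_sum fun b hb => ?_
    rw [hR, Finset.mem_erase, Finset.mem_image] at hb
    obtain ⟨hb1, i, -, rfl⟩ := hb
    apply hDcard
    rw [hsec_spec i]
    exact hb1
  have h2 : R.card + 1 = (Finset.univ.image g).card := by
    rw [hR]
    exact Finset.card_erase_add_one (Finset.mem_image_of_mem g (Finset.mem_univ i0))
  have h3 := Finset.card_le_card hsub
  omega

/-- Comparison of two unions of finite sets along an equivalence relation. -/
theorem card_biUnion_le_of_setoid {I α β : Type*} [Fintype I] [DecidableEq α] [DecidableEq β]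
    (s : Setoid I) (X : I → Finset α) (Y : I → Finset β)
    (hX : ∀ i j, s.r i j → X i = X j) (hY : ∀ i j, ¬ s.r i j → Disjoint (Y i) (Y j))
    (hle : ∀ i, (X i).card ≤ (Y i).card) :
    (Finset.univ.biUnion X).card ≤ (Finset.univ.biUnion Y).card := by
  set rep : I → I := fun i => (Quotient.mk s i).out with hrep
  have hrep1 : ∀ i, s.r (rep i) i := fun i => Quotient.exact (Quotient.out_eq (Quotient.mk s i))
  have hrep2 : ∀ i j, s.r i j → rep i = rep j := by
    intro i j hij
    simp only [hrep]
    rw [Quotient.sound hij]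
  set R : Finset I := Finset.univ.image rep with hR
  have e1 : Finset.univ.biUnion X = R.biUnion X := by
    ext x
    simp only [Finset.mem_biUnion, Finset.mem_univ, true_and]
    constructor
    · rintro ⟨i, hi⟩
      refine ⟨rep i, Finset.mem_image_of_mem rep (Finset.mem_univ i), ?_⟩
      rw [hX (rep i) i (hrep1 i)]
      exact hi
    · rintro ⟨i, -, hi⟩
      exact ⟨i, hi⟩
  have e2 : (R.biUnion Y).card = ∑ r ∈ R, (Y r).card := by
    apply Finset.card_biUnion
    intro i hi j hj hij
    apply hY
    intro hr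
    apply hij
    rw [Finset.mem_coe, hR, Finset.mem_image] at hi hj
    obtain ⟨i', -, rfl⟩ := hi
    obtain ⟨j', -, rfl⟩ := hj
    apply hrep2
    exact s.trans (s.symm (hrep1 i')) (s.trans hr (hrep1 j'))
  calc (Finset.univ.biUnion X).card = (R.biUnion X).card := by rw [e1]
    _ ≤ ∑ r ∈ R, (X r).card := Finset.card_biUnion_le
    _ ≤ ∑ r ∈ R, (Y r).card := Finset.sum_le_sum fun r _ => hle r
    _ = (R.biUnion Y).card := e2.symm
    _ ≤ (Finset.univ.biUnion Y).card :=
        Finset.card_le_card (Finset.biUnion_subset_biUnion_of_subset_left Y (Finset.subset_univ R))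

end Cfsg.Agent.H82.P1
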