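import Mathlib
import Cfsg.Prelude.Def_Characters
import Cfsg.Agent.Lib.Clifford
import Cfsg.Agent.Lib.CliffordCorr
import Cfsg.Agent.Lib.Gallagher
import Cfsg.Agent.H4.RelA
import Cfsg.Agent.H82.CyclicExtChar
import Cfsg.Agent.H82.Irr
import Cfsg.Agent.H83.Gagola2

/-!
# Sylow subgroups of prime order, part B: multiplicity one over a cyclic quotient (helper82)

If `M ⊴ Γ` and `Γ / M` is cyclic, every irreducible character of `Γ` restricts to `M` without
multiplicities.
-/

set_option autoImplicit false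
set_option linter.unusedSectionVars false
set_option linter.style.haveILetI false

namespace Cfsg.Agent.H82.P1

open Cfsg Cfsg.Agent.H4 Cfsg.Agent.Clifford
open scoped ComplexConjugate

universe u

/-- A subgroup `T ≥ M` has cyclic quotient by `M` when the ambient quotient is cyclic. -/
theorem isCyclic_subgroupOf {Γ : Type u} [Group Γ] (M : Subgroup Γ) [hM : M.Normal]
    (hcyc : IsCyclic (Γ ⧸ M)) (T : Subgroup Γ) :
    haveI : (M.subgroupOf T).Normal := Subgroup.normal_subgroupOf
    IsCyclic (T ⧸ M.subgroupOf T) := by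
  haveI : (M.subgroupOf T).Normal := Subgroup.normal_subgroupOf
  let f : T ⧸ M.subgroupOf T →* Γ ⧸ M :=
    QuotientGroup.map (M.subgroupOf T) M T.subtype (fun x hx => hx)
  have hf : Function.Injective f := by
    rw [injective_iff_map_eq_one]
    intro q
    induction q using QuotientGroup.induction_on with
    | H t =>
      intro h
      have h1 : f (QuotientGroup.mk t) = QuotientGroup.mk (t : Γ) := rfl
      rw [h1, QuotientGroup.eq_one_iff] at h
      exact (QuotientGroup.eq_one_iff t).mpr (Subgroup.mem_subgroupOf.mpr h)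
  exact isCyclic_of_injective f hf

/-- **Multiplicity one**: over a cyclic quotient, irreducible constituents of restrictions
appear with multiplicity one. -/
theorem mult_one_of_cyclic {Γ : Type u} [Group Γ] [Fintype Γ] (M : Subgroup Γ) [hM : M.Normal]
    [Fintype M] (hcyc : IsCyclic (Γ ⧸ M)) {ξ : Γ → ℂ} (hξ : IsIrrCharacter Γ ξ) {θ : M → ℂ}
    (hθ : IsIrrCharacter M θ) (h : classInner (fun n : M => ξ n) θ ≠ 0) :
    classInner (fun n : M => ξ n) θ = 1 := by
  classical
  set T : Subgroup Γ := inertia M θ with hT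
  letI : Fintype T := Fintype.ofFinite _
  have hMT : M ≤ T :=
    le_inertia M (isClassFunction_of_isCharacter (isCharacter_of_isIrrCharacter hθ))
  obtain ⟨ψ, hψ, hind, hψθ⟩ := clifford_corr_surj hθ hMT rfl hξ h
  have hψ0 : classInner (fun n : M => ψ ⟨n, hMT n.2⟩) θ ≠ 0 := by rw [hψθ]; exact h
  -- the extension of `θ` to `T`
  haveI : (M.subgroupOf T).Normal := Subgroup.normal_subgroupOf
  letI : Fintype (M.subgroupOf T) := Fintype.ofFinite _
  let e : M.subgroupOf T ≃* M := Subgroup.subgroupOfEquivOfLe hMT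
  set θT : M.subgroupOf T → ℂ := fun n => θ (e n) with hθT_def
  have hθT : IsIrrCharacter (M.subgroupOf T) θT := isIrrCharacter_comp_equiv e hθ
  have hcycT : IsCyclic (T ⧸ M.subgroupOf T) := isCyclic_subgroupOf M hcyc T
  have hinvT : ∀ (g : T) (n : M.subgroupOf T),
      θT ⟨g * n * g⁻¹, (inferInstance : (M.subgroupOf T).Normal).conj_mem (n : T) n.2 g⟩ =
        θT n := by
    intro g n
    have hg : (g : Γ) ∈ inertia M θ := g.2
    rw [mem_inertia_iff] at hg
    have h1 := hg (e n)
    show θ (e _) = θ (e n)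
    rw [← h1]
    exact congrArg θ (Subtype.ext rfl)
  obtain ⟨θh, hθh, hθhext⟩ := Cfsg.Agent.H82.exists_extension_of_cyclic (M.subgroupOf T) hcycT
    θT hθT hinvT
  have hext : ∀ n : M, θh ⟨n, hMT n.2⟩ = θ n := by
    intro n
    have h1 := hθhext ⟨⟨n, hMT n.2⟩, Subgroup.mem_subgroupOf.mpr n.2⟩
    rw [h1]
    show θ (e _) = θ n
    exact congrArg θ (Subtype.ext rfl)
  obtain ⟨-, -, g3⟩ := gal_T M hθ hMT le_rfl (isCharacter_of_isIrrCharacter hθh) hext
  obtain ⟨β, hβ, hβM, hβψ⟩ := g3 ψ hψ hψ0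
  -- `β` is linear
  have hβ1 : β 1 = 1 := by
    obtain ⟨β', hβ'⟩ := Cfsg.Agent.H82.exists_deflate (M.subgroupOf T) ⟨β, hβ⟩
      (fun x hx => hβM x (Subgroup.mem_subgroupOf.mp hx))
    have hcomm : ∀ a b : T ⧸ M.subgroupOf T, a * b = b * a := by
      letI := hcycT.commGroup
      intro a b
      exact mul_comm a b
    have hlin := (Cfsg.Agent.H83.IsIrrCharacter.linear_of_comm hcomm β'.2).1
    have h2 : β 1 = (Cfsg.Agent.H82.inflate (M.subgroupOf T) β').1 1 := by rw [hβ']
    rw [h2, Cfsg.Agent.H82.inflate_apply, QuotientGroup.mk_one]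
    exact hlin
  have hres : (fun n : M => ψ ⟨n, hMT n.2⟩) = θ := by
    funext n
    rw [← hβψ, Pi.mul_apply, hext, hβM ⟨n, hMT n.2⟩ n.2, hβ1, one_mul]
  rw [← hψθ, hres, classInner_irr_irr hθ hθ, if_pos rfl]

end Cfsg.Agent.H82.P1
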