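import Cfsg.Agent.H82.BL8
import Cfsg.Agent.H82.P1A
import Cfsg.Agent.H82.P1B

/-!
# Sylow subgroups of prime order, part C: twists and induction from `C` (helper82)

In a local setup `S : BL.Setup p N C P`: the twist `tw μ ϑ` of a function on `C` by a
character `μ` of `P` (through the projection `ρ : C → P`), the generalized characters
`Gam μ ϑ = (ϑ - tw μ ϑ)^G`, induction `indN` from `C` to `N`, and their inner products.
-/

set_option autoImplicit false
set_option linter.style.haveILetI false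
set_option linter.unusedSectionVars false

namespace Cfsg.Agent.H82.P1

open Cfsg Cfsg.Agent.H4 Cfsg.Agent.H82 Cfsg.Agent.H82.BL Cfsg.Agent.Clifford
open scoped ComplexConjugate
open Classical

universe u

variable {G : Type u} [Group G] [Fintype G] {p : ℕ} {N C P : Subgroup G} [Fintype N] [Fintype C]
  (S : Setup p N C P)

/-- The projection `ρ` commutes with conjugation by `N`. -/
theorem rho_cj (n : N) (c : C) : S.ρ (cj S n c) = cjP S n (S.ρ c) := by
  set x : P.subgroupOf C := S.ρ c with hx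
  set k : C := (x : C)⁻¹ * c with hk
  have hk1 : S.ρ k = 1 := by
    rw [hk, map_mul, map_inv, S.hρ, ← hx, inv_mul_cancel]
  have hc : c = (x : C) * k := by rw [hk, mul_inv_cancel_left]
  have hkreg : ¬ p ∣ orderOf (k : G) := (S.hreg k).mpr hk1
  have h2 : S.ρ (cj S n k) = 1 := by
    apply (S.hreg _).mp
    rw [orderOf_cj]
    exact hkreg
  have h3 : S.ρ (cj S n (x : C)) = cjP S n x := by
    rw [← cjP_coe, S.hρ]
  rw [hc, map_mul, map_mul, h2, h3, mul_one]

/-- The twist of a function on `C` by a character of `P`. -/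
noncomputable def tw (μ : P.subgroupOf C →* ℂˣ) (f : C → ℂ) : C → ℂ :=
  fun c => ((μ (S.ρ c) : ℂˣ) : ℂ) * f c

theorem tw_apply (μ : P.subgroupOf C →* ℂˣ) (f : C → ℂ) (c : C) :
    tw S μ f c = ((μ (S.ρ c) : ℂˣ) : ℂ) * f c := rfl

theorem tw_one (f : C → ℂ) : tw S 1 f = f := by
  funext c
  simp [tw]

theorem tw_comp_cj (μ : P.subgroupOf C →* ℂˣ) (f : C → ℂ) (n : N) :
    (fun c => tw S μ f (cj S n c)) = tw S (μ.comp (cjP S n)) (fun c => f (cj S n c)) := by
  funext c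
  simp only [tw, rho_cj, MonoidHom.comp_apply]

theorem tw_sub (μ : P.subgroupOf C →* ℂˣ) (f g : C → ℂ) :
    tw S μ (f - g) = tw S μ f - tw S μ g := by
  funext c
  simp only [tw, Pi.sub_apply, mul_sub]

theorem tw_smul (μ : P.subgroupOf C →* ℂˣ) (a : ℂ) (f : C → ℂ) :
    tw S μ (a • f) = a • tw S μ f := by
  funext c
  simp only [tw, Pi.smul_apply, smul_eq_mul]
  ring

theorem tw_sum {ι : Type*} (s : Finset ι) (μ : P.subgroupOf C →* ℂˣ) (f : ι → C → ℂ) :
    tw S μ (∑ i ∈ s, f i) = ∑ i ∈ s, tw S μ (f i) := by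
  funext c
  simp only [tw, Finset.sum_apply, Finset.mul_sum]

theorem isCen_tw (μ : P.subgroupOf C →* ℂˣ) {f : C → ℂ}
    (hf : IsCen f (1 : P.subgroupOf C →* ℂˣ)) : IsCen (tw S μ f) μ := by
  intro x c
  simp only [tw]
  rw [map_mul, S.hρ, map_mul, hf x c]
  simp only [MonoidHom.one_apply, Units.val_one, one_mul, Units.val_mul]
  ring

theorem tw_mul_conj (μ : P.subgroupOf C →* ℂˣ) (f g : C → ℂ) (c : C) :
    tw S μ f c * conj (tw S μ g c) = f c * conj (g c) := by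
  simp only [tw, map_mul]
  have h1 : ((μ (S.ρ c) : ℂˣ) : ℂ) * conj ((μ (S.ρ c) : ℂˣ) : ℂ) = 1 := by
    haveI : Finite (P.subgroupOf C) := Finite.of_injective _ Subtype.val_injective
    rw [mul_conj_eq_norm_sq, norm_hom_eq_one μ (S.ρ c)]
    simp
  calc ((μ (S.ρ c) : ℂˣ) : ℂ) * f c * (conj ((μ (S.ρ c) : ℂˣ) : ℂ) * conj (g c))
      = (((μ (S.ρ c) : ℂˣ) : ℂ) * conj ((μ (S.ρ c) : ℂˣ) : ℂ)) * (f c * conj (g c)) := by ring
    _ = f c * conj (g c) := by rw [h1, one_mul]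

theorem inner_tw (μ : P.subgroupOf C →* ℂˣ) (f g : C → ℂ) :
    classInner (tw S μ f) (tw S μ g) = classInner f g := by
  unfold classInner
  congr 1
  exact Finset.sum_congr rfl fun c _ => tw_mul_conj S μ f g c

theorem isCharacter_tw (μ : P.subgroupOf C →* ℂˣ) {f : C → ℂ} (hf : IsCharacter C f) :
    IsCharacter C (tw S μ f) := by
  have h := isCharacter_mul (isCharacter_of_isIrrCharacter (linChar (μ.comp S.ρ)).2) hf
  have e : (linChar (μ.comp S.ρ)).1 * f = tw S μ f := by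
    funext c
    rfl
  rwa [e] at h

theorem isIrr_tw (μ : P.subgroupOf C →* ℂˣ) {f : C → ℂ} (hf : IsIrrCharacter C f) :
    IsIrrCharacter C (tw S μ f) := by
  apply isIrrCharacter_of_norm_one (isCharacter_tw S μ (isCharacter_of_isIrrCharacter hf))
  rw [inner_tw]
  exact irr_inner_self ⟨f, hf⟩

/-- The twisted irreducible character. -/
noncomputable def twI (μ : P.subgroupOf C →* ℂˣ) (ϑ : IrrCharacter C) : IrrCharacter C :=
  ⟨tw S μ ϑ.1, isIrr_tw S μ ϑ.2⟩

theorem twI_val (μ : P.subgroupOf C →* ℂˣ) (ϑ : IrrCharacter C) :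
    (twI S μ ϑ).1 = tw S μ ϑ.1 := rfl

/-- Functions with different central homs are orthogonal. -/
theorem inner_cen_ne {f g : C → ℂ} {ω ω' : P.subgroupOf C →* ℂˣ} (hf : IsCen f ω)
    (hg : IsCen g ω') (hne : ω ≠ ω') : classInner f g = 0 := by
  haveI : Finite (P.subgroupOf C) := Finite.of_injective _ Subtype.val_injective
  have hex : ∃ x, ω x ≠ ω' x := by
    by_contra hcon
    push Not at hcon
    exact hne (MonoidHom.ext hcon)
  obtain ⟨x, hx⟩ := hex
  unfold classInner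
  have h1 : ∑ c : C, f c * conj (g c) =
      (((ω x : ℂˣ) : ℂ) * conj ((ω' x : ℂˣ) : ℂ)) * ∑ c : C, f c * conj (g c) := by
    conv_lhs => rw [← Equiv.sum_comp (Equiv.mulLeft (x : C)) (fun c => f c * conj (g c))]
    rw [Finset.mul_sum]
    refine Finset.sum_congr rfl fun c _ => ?_
    rw [Equiv.coe_mulLeft, hf x c, hg x c, map_mul]
    ring
  have h2 : ((ω x : ℂˣ) : ℂ) * conj ((ω' x : ℂˣ) : ℂ) ≠ 1 := by
    intro h
    apply hx
    rw [conj_hom ω' x, MonoidHom.inv_apply, Units.val_inv_eq_inv_val] at h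
    have h3 : ((ω' x : ℂˣ) : ℂ) ≠ 0 := Units.ne_zero _
    apply Units.ext
    field_simp at h
    exact h
  have h3 : (1 - ((ω x : ℂˣ) : ℂ) * conj ((ω' x : ℂˣ) : ℂ)) * ∑ c : C, f c * conj (g c) = 0 := by
    rw [sub_mul, one_mul, ← h1, sub_self]
  rcases mul_eq_zero.mp h3 with h | h
  · exact absurd (sub_eq_zero.mp h).symm h2
  · rw [h, mul_zero]

/-- The irreducible characters of `C` trivial on `P`. -/
abbrev Irr0 (_S : Setup p N C P) : Type u :=
  {ϑ : IrrCharacter C // IsCen ϑ.1 (1 : P.subgroupOf C →* ℂˣ)}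

/-- `ϑ - tw μ ϑ`. -/
noncomputable def Fm (μ : P.subgroupOf C →* ℂˣ) (f : C → ℂ) : C → ℂ := f - tw S μ f

theorem Fm_apply (μ : P.subgroupOf C →* ℂˣ) (f : C → ℂ) (c : C) :
    Fm S μ f c = (1 - ((μ (S.ρ c) : ℂˣ) : ℂ)) * f c := by
  simp only [Fm, tw, Pi.sub_apply]
  ring

theorem Fm_reg (μ : P.subgroupOf C →* ℂˣ) (f : C → ℂ) (c : C) (hc : ¬ p ∣ orderOf (c : G)) :
    Fm S μ f c = 0 := by
  rw [Fm_apply, (S.hreg c).mp hc]
  simp

theorem Fm_comp_cj (μ : P.subgroupOf C →* ℂˣ) (f : C → ℂ) (n : N) :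
    (fun c => Fm S μ f (cj S n c)) = Fm S (μ.comp (cjP S n)) (fun c => f (cj S n c)) := by
  have h := tw_comp_cj S μ f n
  funext c
  have h' := congrFun h c
  simp only [Fm, Pi.sub_apply]
  rw [h']

theorem Fm_smul (μ : P.subgroupOf C →* ℂˣ) (a : ℂ) (f : C → ℂ) :
    Fm S μ (a • f) = a • Fm S μ f := by
  simp only [Fm, tw_smul, smul_sub]

theorem Fm_sum {ι : Type*} (s : Finset ι) (μ : P.subgroupOf C →* ℂˣ) (f : ι → C → ℂ) :
    Fm S μ (∑ i ∈ s, f i) = ∑ i ∈ s, Fm S μ (f i) := by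
  simp only [Fm, tw_sum, Finset.sum_sub_distrib]

/-- The generalized character `(ϑ - tw μ ϑ)^G`. -/
noncomputable def Gam (μ : P.subgroupOf C →* ℂˣ) (f : C → ℂ) : G → ℂ := indFun C (Fm S μ f)

theorem Gam_res (μ : P.subgroupOf C →* ℂˣ) (f : C → ℂ) :
    (fun c : C => Gam S μ f c) = trN S (Fm S μ f) := by
  funext c
  exact indFun_eq_trN S _ (Fm_reg S μ f) c

theorem inner_Gam (μ : P.subgroupOf C →* ℂˣ) (f : C → ℂ) {χ : G → ℂ}
    (hχ : IsClassFunction G χ) :
    classInner (Gam S μ f) χ = classInner (Fm S μ f) (fun c : C => χ c) :=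
  frobenius_reciprocity C _ χ hχ

theorem inner_Gam_Gam (μ μ' : P.subgroupOf C →* ℂˣ) (f f' : C → ℂ) :
    classInner (Gam S μ f) (Gam S μ' f') = classInner (Fm S μ f) (trN S (Fm S μ' f')) := by
  rw [inner_Gam S μ f (χ := Gam S μ' f') (indFun_isClassFunction C _), Gam_res]

theorem inner_Gam_int (μ : P.subgroupOf C →* ℂˣ) (ϑ : IrrCharacter C) (χ : IrrCharacter G) :
    ∃ z : ℤ, classInner (Gam S μ ϑ.1) χ.1 = z := by
  rw [inner_Gam S μ ϑ.1 (irr_isClassFunction χ)]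
  have hres : IsCharacter C (fun c : C => χ.1 c) :=
    isCharacter_restrict C (isCharacter_of_isIrrCharacter χ.2)
  obtain ⟨a, ha⟩ := classInner_isCharacter_nat (isCharacter_of_isIrrCharacter ϑ.2) hres
  obtain ⟨b, hb⟩ := classInner_isCharacter_nat
    (isCharacter_tw S μ (isCharacter_of_isIrrCharacter ϑ.2)) hres
  refine ⟨(a : ℤ) - b, ?_⟩
  simp only [Fm]
  rw [classInner_sub_left, ha, hb]
  push_cast
  rfl

end Cfsg.Agent.H82.P1
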