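import Cfsg.Agent.H82.P1C

/-!
# Sylow subgroups of prime order, part D: characters of `N` (helper82)

Induction `indN` from `C` to `N` in a local setup, the irreducible characters
`LamN μ ϑ = (tw μ ϑ)^N`, the count of the characters of `N` over `ϑ` when `N / C` is cyclic,
and the Gram matrix of the `Gam μ ϑ`.
-/

set_option autoImplicit false
set_option linter.style.haveILetI false
set_option linter.unusedSectionVars false

namespace Cfsg.Agent.H82.P1

open Cfsg Cfsg.Agent.H4 Cfsg.Agent.H82 Cfsg.Agent.H82.BL Cfsg.Agent.Clifford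
open scoped ComplexConjugate
open Classical

universe u

variable {G : Type u} [Group G] [Fintype G] {p : ℕ} {N C P : Subgroup G} [Fintype N] [Fintype C]
  (S : Setup p N C P)

/-- Restriction of a function on `N` to `C`. -/
def resC (ψ : N → ℂ) : C → ℂ := fun c => ψ ⟨c, S.hCN c.2⟩

theorem resC_apply (ψ : N → ℂ) (c : C) : resC S ψ c = ψ ⟨c, S.hCN c.2⟩ := rfl

/-- Induction from `C` to `N`. -/
noncomputable def indN (f : C → ℂ) : N → ℂ :=
  fun n => if h : (n : G) ∈ C then trN S f ⟨n, h⟩ else 0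

theorem resC_indN (f : C → ℂ) : resC S (indN S f) = trN S f := by
  funext c
  simp only [resC, indN]
  rw [dif_pos c.2]

omit [Fintype G] [Fintype N] [Fintype C] in
theorem normal_CN (S' : Setup p N C P) : (C.subgroupOf N).Normal := by
  constructor
  intro x hx n
  rw [Subgroup.mem_subgroupOf] at hx ⊢
  exact S'.normC n n.2 x hx

theorem isCharacter_resC {ψ : N → ℂ} (hψ : IsCharacter N ψ) : IsCharacter C (resC S ψ) :=
  isCharacter_comp (Subgroup.inclusion S.hCN) hψ

theorem ninv_resC {ψ : N → ℂ} (hψ : IsClassFunction N ψ) : NInv S (resC S ψ) := by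
  intro n c
  have h := hψ ⟨c, S.hCN c.2⟩ n
  exact h

theorem indN_eq (f : C → ℂ) :
    indN S f = indFun (C.subgroupOf N)
      (fun x : C.subgroupOf N => f (Subgroup.subgroupOfEquivOfLe S.hCN x)) := by
  funext n
  rw [indFun_apply]
  have hcard : Nat.card (C.subgroupOf N) = Nat.card C :=
    Nat.card_congr (Subgroup.subgroupOfEquivOfLe S.hCN).toEquiv
  by_cases h : (n : G) ∈ C
  · simp only [indN]
    rw [dif_pos h, hcard]
    unfold trN
    congr 1
    rw [← Equiv.sum_comp (Equiv.inv N) (fun m : N => f (cj S m ⟨n, h⟩))]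
    refine Finset.sum_congr rfl fun x _ => ?_
    have hx : x⁻¹ * n * x ∈ C.subgroupOf N := by
      rw [Subgroup.mem_subgroupOf]
      have := S.normC (x⁻¹ : N) (x⁻¹ : N).2 n h
      simpa using this
    rw [extendByZero_of_mem _ _ hx]
    congr 1
    apply Subtype.ext
    simp [cj_coe]
  · simp only [indN]
    rw [dif_neg h]
    symm
    rw [Finset.sum_eq_zero, mul_zero]
    intro x _
    apply extendByZero_of_not_mem
    intro hx
    apply h
    rw [Subgroup.mem_subgroupOf] at hx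
    have := S.normC x x.2 _ hx
    simpa [mul_assoc] using this

theorem isCharacter_indN {f : C → ℂ} (hf : IsCharacter C f) : IsCharacter N (indN S f) := by
  rw [indN_eq]
  exact isCharacter_indFun _ _ (isCharacter_comp_equiv _ hf)

theorem isClassFunction_indN (f : C → ℂ) : IsClassFunction N (indN S f) := by
  rw [indN_eq]
  exact indFun_isClassFunction _ _

/-- Frobenius reciprocity between `C` and `N`. -/
theorem inner_indN (f : C → ℂ) {ψ : N → ℂ} (hψ : IsClassFunction N ψ) :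
    classInner (indN S f) ψ = classInner f (resC S ψ) := by
  letI : Fintype (C.subgroupOf N) := Fintype.ofFinite _
  rw [indN_eq, frobenius_reciprocity (C.subgroupOf N) _ ψ hψ]
  exact classInner_comp_equiv (Subgroup.subgroupOfEquivOfLe S.hCN) f (resC S ψ)

theorem inner_indN_indN (f f' : C → ℂ) :
    classInner (indN S f) (indN S f') = classInner f (trN S f') := by
  rw [inner_indN S f (isClassFunction_indN S f'), resC_indN]

theorem inner_resC_symm (ψ : N → ℂ) (hψ : IsClassFunction N ψ) (f : C → ℂ) :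
    classInner (resC S ψ) f = conj (classInner (indN S f) ψ) := by
  rw [inner_indN S f hψ, classInner_conj_symm]

/-- The multiplicity of `ϑ` in the restriction of an irreducible character of `N` is `0` or
`1` when `N / C` is cyclic. -/
theorem mult_resC (hcyc : haveI := normal_CN S; IsCyclic (N ⧸ C.subgroupOf N))
    (ξ : IrrCharacter N) (ϑ : IrrCharacter C) (h : classInner (resC S ξ.1) ϑ.1 ≠ 0) :
    classInner (resC S ξ.1) ϑ.1 = 1 := by
  haveI := normal_CN S
  letI : Fintype (C.subgroupOf N) := Fintype.ofFinite _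
  have hϑ' : IsIrrCharacter (C.subgroupOf N)
      (fun x : C.subgroupOf N => ϑ.1 (Subgroup.subgroupOfEquivOfLe S.hCN x)) :=
    isIrrCharacter_comp_equiv _ ϑ.2
  have key : classInner (fun x : C.subgroupOf N => ξ.1 x)
      (fun x : C.subgroupOf N => ϑ.1 (Subgroup.subgroupOfEquivOfLe S.hCN x)) =
      classInner (resC S ξ.1) ϑ.1 :=
    classInner_comp_equiv (Subgroup.subgroupOfEquivOfLe S.hCN) (resC S ξ.1) ϑ.1
  rw [← key] at h ⊢
  exact mult_one_of_cyclic (C.subgroupOf N) hcyc ξ.2 hϑ' h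

section Count

variable [Fintype (IrrCharacter N)]

/-- The irreducible characters of `N` over `ϑ`. -/
noncomputable def setA (ϑ : IrrCharacter C) : Finset (IrrCharacter N) :=
  Finset.univ.filter fun ξ => classInner (resC S ξ.1) ϑ.1 ≠ 0

theorem mem_setA (ϑ : IrrCharacter C) (ξ : IrrCharacter N) :
    ξ ∈ setA S ϑ ↔ classInner (resC S ξ.1) ϑ.1 ≠ 0 := by
  simp [setA]

/-- Over a cyclic quotient, the number of characters of `N` over `ϑ` is `[ϑ, trN ϑ]`. -/
theorem card_setA (hcyc : haveI := normal_CN S; IsCyclic (N ⧸ C.subgroupOf N))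
    (ϑ : IrrCharacter C) :
    classInner ϑ.1 (trN S ϑ.1) = ((setA S ϑ).card : ℂ) := by
  have hcl : IsClassFunction N (indN S ϑ.1) := isClassFunction_indN S ϑ.1
  rw [← inner_indN_indN, classInner_eq_sum_irr hcl, finsum_eq_sum_of_fintype]
  simp only [setA]
  rw [Finset.card_filter]
  push_cast
  refine Finset.sum_congr rfl fun ξ _ => ?_
  have h1 : classInner (indN S ϑ.1) ξ.1 = conj (classInner (resC S ξ.1) ϑ.1) := by
    rw [inner_indN S ϑ.1 (irr_isClassFunction ξ), classInner_conj_symm]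
  have h2 : classInner ξ.1 (indN S ϑ.1) = classInner (resC S ξ.1) ϑ.1 := by
    rw [← classInner_conj_symm, h1, Complex.conj_conj]
  rw [h1, h2]
  by_cases h : classInner (resC S ξ.1) ϑ.1 ≠ 0
  · rw [if_pos h, mult_resC S hcyc ξ ϑ h]
    simp
  · rw [if_neg h]
    push Not at h
    rw [h]
    simp

end Count

variable [Fintype (P.subgroupOf C)]

/-- The irreducible character `(tw μ ϑ)^N` of `N`, for `μ ≠ 1` and `ϑ` trivial on `P`. -/
noncomputable def LamN (μ : {μ : P.subgroupOf C →* ℂˣ // μ ≠ 1}) (ϑ : Irr0 S) : IrrCharacter N :=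
  ⟨indN S (tw S μ.1 ϑ.1.1), by
    apply isIrrCharacter_of_norm_one
      (isCharacter_indN S (isCharacter_tw S μ.1 (isCharacter_of_isIrrCharacter ϑ.1.2)))
    rw [inner_indN_indN]
    exact inner_self_trN S (twI S μ.1 ϑ.1) (isCen_tw S μ.1 ϑ.2) μ.2⟩

theorem LamN_val (μ : {μ : P.subgroupOf C →* ℂˣ // μ ≠ 1}) (ϑ : Irr0 S) :
    (LamN S μ ϑ).1 = indN S (tw S μ.1 ϑ.1.1) := rfl

theorem inner_one_trN_tw (μ : P.subgroupOf C →* ℂˣ) (hμ : μ ≠ 1) (ϑ ϑ' : Irr0 S) :
    classInner ϑ.1.1 (trN S (tw S μ ϑ'.1.1)) = 0 := by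
  apply inner_trN_of_not S ϑ.1 (twI S μ ϑ'.1)
  intro n hn
  have h1 : IsCen (fun c => (twI S μ ϑ'.1).1 (cj S n c)) (μ.comp (cjP S n)) :=
    (isCen_tw S μ ϑ'.2).comp_cj S n
  rw [hn] at h1
  exact comp_cjP_ne_one S hμ n (IsCen.eq_of h1 ϑ.2 (irr_one_ne_zero ϑ.1))

theorem inner_tw_trN_one (μ : P.subgroupOf C →* ℂˣ) (hμ : μ ≠ 1) (ϑ ϑ' : Irr0 S) :
    classInner (tw S μ ϑ.1.1) (trN S ϑ'.1.1) = 0 := by
  apply inner_trN_of_not S (twI S μ ϑ.1) ϑ'.1
  intro n hn
  have h1 : IsCen (fun c => ϑ'.1.1 (cj S n c)) ((1 : P.subgroupOf C →* ℂˣ).comp (cjP S n)) :=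
    ϑ'.2.comp_cj S n
  rw [hn, MonoidHom.one_comp] at h1
  exact hμ (IsCen.eq_of h1 (isCen_tw S μ ϑ.2) (irr_one_ne_zero (twI S μ ϑ.1))).symm

/-- The Gram matrix of the `Gam μ ϑ`, for fixed `ϑ`. -/
theorem gram_Gam (μ μ' : {μ : P.subgroupOf C →* ℂˣ // μ ≠ 1}) (ϑ : Irr0 S) :
    classInner (Gam S μ.1 ϑ.1.1) (Gam S μ'.1 ϑ.1.1) =
      classInner ϑ.1.1 (trN S ϑ.1.1) + if LamN S μ ϑ = LamN S μ' ϑ then 1 else 0 := by
  rw [inner_Gam_Gam]
  simp only [Fm]
  rw [trN_sub, classInner_sub_left, classInner_sub_right, classInner_sub_right,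
    inner_one_trN_tw S μ'.1 μ'.2 ϑ ϑ, inner_tw_trN_one S μ.1 μ.2 ϑ ϑ, ← inner_indN_indN S
    (tw S μ.1 ϑ.1.1), ← LamN_val, ← LamN_val, irr_inner]
  ring

end Cfsg.Agent.H82.P1
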