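import Cfsg.Agent.H82.P1A

/-!
# Sylow subgroups of prime order, part H: the equality cases of the counting lemmas (helper82)

* `card_eq_of_setoid`: the equality case of `card_biUnion_le_of_setoid`.
* `lattice_structure`: the equality case of `lattice_bound`: the vectors are `w + s • δ_b`.
-/

set_option autoImplicit false

namespace Cfsg.Agent.H82.P1

open Classical

/-- If the cardinality of a union is the sum of the cardinalities, the sets are pairwise
disjoint. -/
theorem disjoint_of_card_biUnion_eq {I α : Type*} [DecidableEq α] (R : Finset I)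
    (X : I → Finset α) (h : ∑ r ∈ R, (X r).card ≤ (R.biUnion X).card) :
    ∀ r ∈ R, ∀ r' ∈ R, r ≠ r' → Disjoint (X r) (X r') := by
  intro r hr r' hr' hne
  rw [Finset.disjoint_left]
  intro x hx hx'
  have hsub : R.biUnion X ⊆ (R.erase r).biUnion X ∪ (X r).erase x := by
    intro y hy
    rw [Finset.mem_biUnion] at hy
    obtain ⟨q, hq, hyq⟩ := hy
    rw [Finset.mem_union]
    by_cases hqr : q = r
    · by_cases hyx : y = x
      · left
        rw [Finset.mem_biUnion]
        refine ⟨r', Finset.mem_erase.mpr ⟨fun h => hne h.symm, hr'⟩, ?_⟩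
        rw [hyx]
        exact hx'
      · right
        rw [Finset.mem_erase]
        refine ⟨hyx, ?_⟩
        rw [← hqr]
        exact hyq
    · left
      rw [Finset.mem_biUnion]
      exact ⟨q, Finset.mem_erase.mpr ⟨hqr, hq⟩, hyq⟩
  have h1 := Finset.card_le_card hsub
  have h2 := Finset.card_union_le ((R.erase r).biUnion X) ((X r).erase x)
  have h3 : ((R.erase r).biUnion X).card ≤ ∑ q ∈ R.erase r, (X q).card :=
    Finset.card_biUnion_le
  have h4 : ((X r).erase x).card + 1 = (X r).card := Finset.card_erase_add_one hx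
  have h5 : (X r).card + ∑ q ∈ R.erase r, (X q).card = ∑ q ∈ R, (X q).card :=
    Finset.add_sum_erase R (fun q => (X q).card) hr
  omega

/-- The equality case of `card_biUnion_le_of_setoid`. -/
theorem card_eq_of_setoid {I α β : Type*} [Fintype I] [DecidableEq α] [DecidableEq β]
    (s : Setoid I) (X : I → Finset α) (Y : I → Finset β)
    (hX : ∀ i j, s.r i j → X i = X j) (hY : ∀ i j, ¬ s.r i j → Disjoint (Y i) (Y j))
    (hle : ∀ i, (X i).card ≤ (Y i).card)
    (hge : (Finset.univ.biUnion Y).card ≤ (Finset.univ.biUnion X).card) (j : I) :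
    (X j).card = (Y j).card ∧ ∀ i, ¬ s.r i j → Disjoint (X i) (X j) := by
  set rep : I → I := fun i => if s.r i j then j else (Quotient.mk s i).out with hrep
  have hrep1 : ∀ i, s.r (rep i) i := by
    intro i
    simp only [hrep]
    by_cases h : s.r i j
    · rw [if_pos h]
      exact s.symm h
    · rw [if_neg h]
      exact Quotient.exact (Quotient.out_eq (Quotient.mk s i))
  have hrep2 : ∀ i i', s.r i i' → rep i = rep i' := by
    intro i i' hii
    simp only [hrep]
    by_cases h : s.r i j
    · rw [if_pos h, if_pos (s.trans (s.symm hii) h)]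
    · rw [if_neg h, if_neg (fun h' => h (s.trans hii h'))]
      rw [Quotient.sound hii]
  have hrepj : rep j = j := by
    simp only [hrep]
    rw [if_pos (s.refl j)]
  set R : Finset I := Finset.univ.image rep with hR
  have hjR : j ∈ R := by
    rw [hR, Finset.mem_image]
    exact ⟨j, Finset.mem_univ _, hrepj⟩
  have e1 : Finset.univ.biUnion X = R.biUnion X := by
    ext x
    simp only [Finset.mem_biUnion, Finset.mem_univ, true_and]
    constructor
    · rintro ⟨i, hi⟩
      refine ⟨rep i, Finset.mem_image_of_mem rep (Finset.mem_univ i), ?_⟩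
      rw [hX (rep i) i (hrep1 i)]
      exact hi
    · rintro ⟨i, -, hi⟩
      exact ⟨i, hi⟩
  have e2 : (R.biUnion Y).card = ∑ r ∈ R, (Y r).card := by
    apply Finset.card_biUnion
    intro i hi i' hi' hii
    apply hY
    intro hr
    apply hii
    rw [Finset.mem_coe, hR, Finset.mem_image] at hi hi'
    obtain ⟨a, -, rfl⟩ := hi
    obtain ⟨a', -, rfl⟩ := hi'
    apply hrep2
    exact s.trans (s.symm (hrep1 a)) (s.trans hr (hrep1 a'))
  have c1 : (R.biUnion X).card ≤ ∑ r ∈ R, (X r).card := Finset.card_biUnion_le
  have c2 : ∑ r ∈ R, (X r).card ≤ ∑ r ∈ R, (Y r).card := Finset.sum_le_sum fun r _ => hle r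
  have c3 : (R.biUnion Y).card ≤ (Finset.univ.biUnion Y).card :=
    Finset.card_le_card (Finset.biUnion_subset_biUnion_of_subset_left Y (Finset.subset_univ R))
  rw [e1] at hge
  have c4 : ∑ r ∈ R, (X r).card = ∑ r ∈ R, (Y r).card := by omega
  have c5 : ∑ r ∈ R, (X r).card ≤ (R.biUnion X).card := by omega
  constructor
  · exact (Finset.sum_eq_sum_iff_of_le (fun r _ => hle r)).mp c4 j hjR
  · intro i hi
    have hne : rep i ≠ j := by
      intro h
      apply hi
      have := hrep1 i
      rw [h] at this
      exact s.symm this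
    have h1 := disjoint_of_card_biUnion_eq R X c5 (rep i)
      (Finset.mem_image_of_mem rep (Finset.mem_univ i)) j hjR hne
    rw [hX (rep i) i (hrep1 i)] at h1
    exact h1

end Cfsg.Agent.H82.P1
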