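import Cfsg.Agent.H82.P1H

/-!
# Sylow subgroups of prime order, part I: the structure of the lattice (helper82)

`lattice_structure`: in the equality case of `lattice_bound` the vectors are
`v i = w + s (g i) • δ_{b (g i)}` with `w` a `±1`-vector with `e` nonzero entries.
-/

set_option autoImplicit false

namespace Cfsg.Agent.H82.P1

open Classical

theorem unit_entries {X : Type*} [Fintype X] (a : X → ℤ) (e : ℕ)
    (haa : ∑ x, a x * a x = (e : ℤ) + 1)
    (hs : e + 1 ≤ (Finset.univ.filter fun x => a x ≠ 0).card) :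
    ∀ x, a x = 0 ∨ a x = 1 ∨ a x = -1 := by
  have h1 : ((Finset.univ.filter fun x => a x ≠ 0).card : ℤ) =
      ∑ x, if a x ≠ 0 then (1 : ℤ) else 0 := by
    rw [Finset.card_filter]
    push_cast
    rfl
  have hnn : ∀ x ∈ (Finset.univ : Finset X),
      0 ≤ a x * a x - (if a x ≠ 0 then (1 : ℤ) else 0) := by
    intro x _
    by_cases hx : a x ≠ 0
    · rw [if_pos hx]
      nlinarith [sq_nonneg (a x), Int.one_le_abs hx, abs_mul_abs_self (a x), abs_nonneg (a x)]
    · rw [if_neg hx]
      have := mul_self_nonneg (a x)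
      linarith
  have h2 : ∑ x, (a x * a x - (if a x ≠ 0 then (1 : ℤ) else 0)) = 0 := by
    have h3 := Finset.sum_nonneg hnn
    rw [Finset.sum_sub_distrib, haa, ← h1] at h3 ⊢
    have h4 : ((e + 1 : ℕ) : ℤ) ≤ ((Finset.univ.filter fun x => a x ≠ 0).card : ℤ) := by
      exact_mod_cast hs
    push_cast at h4
    linarith
  have hz := (Finset.sum_eq_zero_iff_of_nonneg hnn).mp h2
  intro x
  by_cases hx : a x = 0
  · left
    exact hx
  · right
    have h5 := hz x (Finset.mem_univ x)
    rw [if_pos hx] at h5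
    have h6 : a x * a x = 1 := by linarith
    exact mul_self_eq_one_iff.mp h6

theorem two_diff {X : Type*} [Fintype X] (a b : X → ℤ) (e : ℕ)
    (ha : ∀ x, a x = 0 ∨ a x = 1 ∨ a x = -1) (hb : ∀ x, b x = 0 ∨ b x = 1 ∨ b x = -1)
    (haa : ∑ x, a x * a x = (e : ℤ) + 1) (hbb : ∑ x, b x * b x = (e : ℤ) + 1)
    (hab : ∑ x, b x * a x = (e : ℤ)) :
    ∃ α β, a α ≠ 0 ∧ b α = 0 ∧ b β ≠ 0 ∧ a β = 0 ∧ ∀ x, x ≠ α → x ≠ β → b x = a x := by
  have hTb := lattice_aux a b e haa hbb hab
  have hab' : ∑ x, a x * b x = (e : ℤ) := by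
    rw [← hab]
    exact Finset.sum_congr rfl fun x _ => mul_comm _ _
  have hTa := lattice_aux b a e hbb haa hab'
  have h2 : ∑ z, (b z - a z) * (b z - a z) = 2 := by
    have : ∀ z, (b z - a z) * (b z - a z) = b z * b z + a z * a z - 2 * (b z * a z) := by
      intro z; ring
    simp only [this]
    rw [Finset.sum_sub_distrib, Finset.sum_add_distrib, ← Finset.mul_sum, haa, hbb, hab]
    ring
  have hd : ∀ x, (b x - a x) * (b x - a x) =
      (if b x ≠ 0 ∧ a x = 0 then (1 : ℤ) else 0) + (if a x ≠ 0 ∧ b x = 0 then (1 : ℤ) else 0) +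
        (if a x ≠ 0 ∧ b x ≠ 0 ∧ a x ≠ b x then (4 : ℤ) else 0) := by
    intro x
    rcases ha x with h | h | h <;> rcases hb x with h' | h' | h' <;> simp [h, h']
  rw [Finset.sum_congr rfl (fun x _ => hd x), Finset.sum_add_distrib, Finset.sum_add_distrib]
    at h2
  have c1 : ∑ x, (if b x ≠ 0 ∧ a x = 0 then (1 : ℤ) else 0) =
      ((Finset.univ.filter fun x => b x ≠ 0 ∧ a x = 0).card : ℤ) := by
    rw [Finset.card_filter]
    push_cast
    rfl
  have c2 : ∑ x, (if a x ≠ 0 ∧ b x = 0 then (1 : ℤ) else 0) =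
      ((Finset.univ.filter fun x => a x ≠ 0 ∧ b x = 0).card : ℤ) := by
    rw [Finset.card_filter]
    push_cast
    rfl
  rw [c1, c2] at h2
  have hnn4 : ∀ y ∈ (Finset.univ : Finset X),
      (0 : ℤ) ≤ if a y ≠ 0 ∧ b y ≠ 0 ∧ a y ≠ b y then (4 : ℤ) else 0 := by
    intro y _
    split_ifs <;> norm_num
  have c4 : ∀ x, ¬ (a x ≠ 0 ∧ b x ≠ 0 ∧ a x ≠ b x) := by
    intro x hx
    have h4 : (4 : ℤ) ≤ ∑ y, (if a y ≠ 0 ∧ b y ≠ 0 ∧ a y ≠ b y then (4 : ℤ) else 0) := by
      have := Finset.single_le_sum hnn4 (Finset.mem_univ x)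
      rw [if_pos hx] at this
      exact this
    have h5 : (0 : ℤ) ≤ ((Finset.univ.filter fun x => b x ≠ 0 ∧ a x = 0).card : ℤ) :=
      Nat.cast_nonneg _
    have h6 : (0 : ℤ) ≤ ((Finset.univ.filter fun x => a x ≠ 0 ∧ b x = 0).card : ℤ) :=
      Nat.cast_nonneg _
    linarith
  have c5 : ∑ y, (if a y ≠ 0 ∧ b y ≠ 0 ∧ a y ≠ b y then (4 : ℤ) else 0) = 0 :=
    Finset.sum_eq_zero fun y _ => if_neg (c4 y)
  rw [c5, add_zero] at h2
  have h7 : (Finset.univ.filter fun x => b x ≠ 0 ∧ a x = 0).card +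
      (Finset.univ.filter fun x => a x ≠ 0 ∧ b x = 0).card = 2 := by
    exact_mod_cast h2
  have hTb1 : (Finset.univ.filter fun x => b x ≠ 0 ∧ a x = 0).card = 1 := by omega
  have hTa1 : (Finset.univ.filter fun x => a x ≠ 0 ∧ b x = 0).card = 1 := by omega
  obtain ⟨β, hβ⟩ := Finset.card_eq_one.mp hTb1
  obtain ⟨α, hα⟩ := Finset.card_eq_one.mp hTa1
  have hβm : β ∈ (Finset.univ.filter fun x => b x ≠ 0 ∧ a x = 0) := by
    rw [hβ]
    exact Finset.mem_singleton_self β
  have hαm : α ∈ (Finset.univ.filter fun x => a x ≠ 0 ∧ b x = 0) := by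
    rw [hα]
    exact Finset.mem_singleton_self α
  simp only [Finset.mem_filter, Finset.mem_univ, true_and] at hβm hαm
  refine ⟨α, β, hαm.1, hαm.2, hβm.1, hβm.2, ?_⟩
  intro x hxα hxβ
  have h8 : ¬ (b x ≠ 0 ∧ a x = 0) := by
    intro h
    have : x ∈ (Finset.univ.filter fun x => b x ≠ 0 ∧ a x = 0) := by
      simp only [Finset.mem_filter, Finset.mem_univ, true_and]
      exact h
    rw [hβ, Finset.mem_singleton] at this
    exact hxβ this
  have h9 : ¬ (a x ≠ 0 ∧ b x = 0) := by
    intro h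
    have : x ∈ (Finset.univ.filter fun x => a x ≠ 0 ∧ b x = 0) := by
      simp only [Finset.mem_filter, Finset.mem_univ, true_and]
      exact h
    rw [hα, Finset.mem_singleton] at this
    exact hxα this
  have h10 := hd x
  rw [if_neg h8, if_neg h9, if_neg (c4 x)] at h10
  have h11 : b x - a x = 0 := by
    have : (b x - a x) * (b x - a x) = 0 := by linarith
    exact mul_self_eq_zero.mp this
  linarith

theorem base_facts {I X B : Type*} [Fintype I] [Fintype X] [DecidableEq B]
    (v : I → X → ℤ) (g : I → B) (e : ℕ)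
    (hG : ∀ i j, ∑ x, v i x * v j x = (e : ℤ) + if g i = g j then 1 else 0)
    (hcard : e + (Finset.univ.image g).card ≤
      (Finset.univ.filter fun x => ∃ i, v i x ≠ 0).card) (k : I) :
    (Finset.univ.filter fun x => v k x ≠ 0).card = e + 1 ∧
    (∀ i j, g i ≠ g k → g j ≠ g k → g i ≠ g j → ∀ x, v i x ≠ 0 → v k x = 0 → v j x = 0) := by
  have hnorm : ∀ i, ∑ x, v i x * v i x = (e : ℤ) + 1 := by
    intro i
    rw [hG i i, if_pos rfl]
  have heq : ∀ i j, g i = g j → v i = v j := by
    intro i j hij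
    apply lattice_eq (v j) (v i) e (hnorm j) (hnorm i)
    rw [hG i j, if_pos hij]
  set S0 : Finset X := Finset.univ.filter fun x => v k x ≠ 0 with hS0
  set D : I → Finset X := fun i => Finset.univ.filter fun x => v i x ≠ 0 ∧ v k x = 0 with hD
  have hDcard : ∀ i, g i ≠ g k → (D i).card ≤ 1 := by
    intro i hi
    apply lattice_aux (v k) (v i) e (hnorm k) (hnorm i)
    rw [hG i k, if_neg hi, add_zero]
  set sec : B → I := fun b => if h : ∃ i, g i = b then h.choose else k with hsec
  have hsec_spec : ∀ i, g (sec (g i)) = g i := by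
    intro i
    have h : ∃ j, g j = g i := ⟨i, rfl⟩
    simp only [hsec, dif_pos h]
    exact h.choose_spec
  set R : Finset B := (Finset.univ.image g).erase (g k) with hR
  have hsub : (Finset.univ.filter fun x => ∃ i, v i x ≠ 0) ⊆
      S0 ∪ R.biUnion (fun b => D (sec b)) := by
    intro x hx
    simp only [Finset.mem_filter, Finset.mem_univ, true_and] at hx
    obtain ⟨i, hi⟩ := hx
    rw [Finset.mem_union]
    by_cases h0 : v k x ≠ 0
    · left
      simp [hS0, h0]
    · right
      push Not at h0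
      have hgi : g i ≠ g k := by
        intro h
        rw [heq i k h] at hi
        exact hi h0
      rw [Finset.mem_biUnion]
      refine ⟨g i, ?_, ?_⟩
      · rw [hR, Finset.mem_erase]
        exact ⟨hgi, Finset.mem_image_of_mem g (Finset.mem_univ i)⟩
      · simp only [hD, Finset.mem_filter, Finset.mem_univ, true_and]
        rw [heq _ _ (hsec_spec i)]
        exact ⟨hi, h0⟩
  have c1 := Finset.card_le_card hsub
  have c2 := Finset.card_union_le S0 (R.biUnion (fun b => D (sec b)))
  have c3 : (R.biUnion (fun b => D (sec b))).card ≤ ∑ b ∈ R, (D (sec b)).card :=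
    Finset.card_biUnion_le
  have hle1 : ∀ b ∈ R, (D (sec b)).card ≤ 1 := by
    intro b hb
    rw [hR, Finset.mem_erase, Finset.mem_image] at hb
    obtain ⟨hb1, i, -, rfl⟩ := hb
    apply hDcard
    rw [hsec_spec i]
    exact hb1
  have c4 : ∑ b ∈ R, (D (sec b)).card ≤ ∑ b ∈ R, 1 := Finset.sum_le_sum hle1
  have c4' : ∑ b ∈ R, 1 = R.card := by simp
  have c5 : S0.card ≤ e + 1 := lattice_supp (v k) e (hnorm k)
  have c6 : R.card + 1 = (Finset.univ.image g).card := by
    rw [hR]
    exact Finset.card_erase_add_one (Finset.mem_image_of_mem g (Finset.mem_univ k))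
  have d1 : S0.card = e + 1 := by omega
  have d3 : ∑ b ∈ R, (D (sec b)).card ≤ (R.biUnion (fun b => D (sec b))).card := by omega
  refine ⟨d1, ?_⟩
  intro i j hi hj hij x hx1 hx2
  have hiR : g i ∈ R := by
    rw [hR, Finset.mem_erase]
    exact ⟨hi, Finset.mem_image_of_mem g (Finset.mem_univ i)⟩
  have hjR : g j ∈ R := by
    rw [hR, Finset.mem_erase]
    exact ⟨hj, Finset.mem_image_of_mem g (Finset.mem_univ j)⟩
  have hdis := disjoint_of_card_biUnion_eq R (fun b => D (sec b)) d3 (g i) hiR (g j) hjR hij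
  rw [Finset.disjoint_left] at hdis
  have hxi : x ∈ D (sec (g i)) := by
    simp only [hD, Finset.mem_filter, Finset.mem_univ, true_and]
    rw [heq _ _ (hsec_spec i)]
    exact ⟨hx1, hx2⟩
  have hxj := hdis hxi
  simp only [hD, Finset.mem_filter, Finset.mem_univ, true_and] at hxj
  rw [heq _ _ (hsec_spec j)] at hxj
  by_contra h
  exact hxj ⟨h, hx2⟩

/-- The structure of the lattice in the equality case. -/
theorem lattice_structure {I X B : Type*} [Fintype I] [Fintype X] [DecidableEq B]
    (v : I → X → ℤ) (g : I → B) (e : ℕ)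
    (hG : ∀ i j, ∑ x, v i x * v j x = (e : ℤ) + if g i = g j then 1 else 0)
    (hcard : e + (Finset.univ.image g).card ≤
      (Finset.univ.filter fun x => ∃ i, v i x ≠ 0).card) (i0 : I) :
    ∃ (w : X → ℤ) (b : B → X) (s : B → ℤ),
      (∀ x, w x = 0 ∨ w x = 1 ∨ w x = -1) ∧
      (Finset.univ.filter fun x => w x ≠ 0).card = e ∧
      (∀ i, w (b (g i)) = 0) ∧
      (∀ i, s (g i) = 1 ∨ s (g i) = -1) ∧
      (∀ i j, b (g i) = b (g j) → g i = g j) ∧
      ∀ i x, v i x = w x + if x = b (g i) then s (g i) else 0 := by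
  have hnorm : ∀ i, ∑ x, v i x * v i x = (e : ℤ) + 1 := by
    intro i
    rw [hG i i, if_pos rfl]
  have heq : ∀ i j, g i = g j → v i = v j := by
    intro i j hij
    apply lattice_eq (v j) (v i) e (hnorm j) (hnorm i)
    rw [hG i j, if_pos hij]
  have hunit : ∀ i x, v i x = 0 ∨ v i x = 1 ∨ v i x = -1 := fun i =>
    unit_entries (v i) e (hnorm i) (by rw [(base_facts v g e hG hcard i).1])
  obtain ⟨hS0, hF3⟩ := base_facts v g e hG hcard i0
  have hdiff : ∀ i, g i ≠ g i0 → ∃ α β, v i0 α ≠ 0 ∧ v i α = 0 ∧ v i β ≠ 0 ∧ v i0 β = 0 ∧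
      ∀ x, x ≠ α → x ≠ β → v i x = v i0 x := fun i hi =>
    two_diff (v i0) (v i) e (hunit i0) (hunit i) (hnorm i0) (hnorm i)
      (by rw [hG i i0, if_neg hi, add_zero])
  have hS0ne : ∃ x, v i0 x ≠ 0 := by
    have : 0 < (Finset.univ.filter fun x => v i0 x ≠ 0).card := by rw [hS0]; omega
    obtain ⟨x, hx⟩ := Finset.card_pos.mp this
    exact ⟨x, (Finset.mem_filter.mp hx).2⟩
  haveI : Nonempty X := ⟨hS0ne.choose⟩
  choose! αf βf hαβ using hdiff
  have hcommon : ∀ i j, g i ≠ g i0 → g j ≠ g i0 → αf i = αf j := by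
    intro i j hi hj
    obtain ⟨a1, a2, a3, a4, a5⟩ := hαβ i hi
    obtain ⟨b1, b2, b3, b4, b5⟩ := hαβ j hj
    by_cases hij : g i = g j
    · have hv := heq i j hij
      by_contra hne
      have h1 : αf i ≠ βf j := fun h => a1 (h ▸ b4)
      have h2 := b5 (αf i) hne h1
      rw [← hv, a2] at h2
      exact a1 h2.symm
    · obtain ⟨α', β', c1, c2, c3, c4, c5⟩ := two_diff (v i) (v j) e (hunit i) (hunit j)
        (hnorm i) (hnorm j) (by rw [hG j i, if_neg (Ne.symm hij), add_zero])
      have h1 : v i (βf j) = 0 := hF3 j i hj hi (Ne.symm hij) (βf j) b3 b4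
      have h2 : βf j = β' := by
        by_contra hne
        have hne' : βf j ≠ α' := fun h => c1 (h ▸ h1)
        have := c5 (βf j) hne' hne
        rw [h1] at this
        exact b3 this
      by_contra hne
      have h3 : αf i ≠ βf j := fun h => a1 (h ▸ b4)
      have h4 : v j (αf i) = v i0 (αf i) := b5 (αf i) hne h3
      have h5 : αf i ≠ α' := fun h => c1 (h ▸ a2)
      have h6 : αf i = β' := by
        by_contra h
        have := c5 (αf i) h5 h
        rw [a2, h4] at this
        exact a1 this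
      exact h3 (h6.trans h2.symm)
  obtain ⟨astar, hastar, hastar2⟩ : ∃ a, v i0 a ≠ 0 ∧ ∀ i, g i ≠ g i0 → αf i = a := by
    by_cases hex : ∃ i1, g i1 ≠ g i0
    · obtain ⟨i1, hi1⟩ := hex
      exact ⟨αf i1, (hαβ i1 hi1).1, fun i hi => hcommon i i1 hi hi1⟩
    · push Not at hex
      obtain ⟨x, hx⟩ := hS0ne
      exact ⟨x, hx, fun i hi => absurd (hex i) hi⟩
  set sec : B → I := fun c => if h : ∃ i, g i = c then h.choose else i0 with hsecdef
  have hsec : ∀ i, g (sec (g i)) = g i := by
    intro i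
    have h : ∃ j, g j = g i := ⟨i, rfl⟩
    simp only [hsecdef, dif_pos h]
    exact h.choose_spec
  refine ⟨fun x => if x = astar then 0 else v i0 x,
    fun c => if c = g i0 then astar else βf (sec c),
    fun c => if c = g i0 then v i0 astar else v (sec c) (βf (sec c)), ?_, ?_, ?_, ?_, ?_, ?_⟩
  · intro x
    by_cases hx : x = astar
    · left
      simp [hx]
    · simp only [if_neg hx]
      exact hunit i0 x
  · have hset : (Finset.univ.filter fun x => (if x = astar then 0 else v i0 x) ≠ 0) =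
        (Finset.univ.filter fun x => v i0 x ≠ 0).erase astar := by
      ext x
      simp only [Finset.mem_filter, Finset.mem_univ, true_and, Finset.mem_erase]
      by_cases hx : x = astar
      · simp [hx]
      · simp [hx]
    rw [hset, Finset.card_erase_of_mem (by simp [hastar]), hS0]
    rfl
  · intro i
    by_cases hi : g i = g i0
    · simp [hi]
    · simp only [if_neg hi]
      have hi' : g (sec (g i)) ≠ g i0 := by rw [hsec i]; exact hi
      obtain ⟨a1, a2, a3, a4, a5⟩ := hαβ (sec (g i)) hi'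
      split_ifs
      · rfl
      · exact a4
  · intro i
    by_cases hi : g i = g i0
    · simp only [hi, if_true]
      rcases hunit i0 astar with h | h | h
      · exact absurd h hastar
      · left; exact h
      · right; exact h
    · simp only [if_neg hi]
      have hi' : g (sec (g i)) ≠ g i0 := by rw [hsec i]; exact hi
      obtain ⟨a1, a2, a3, a4, a5⟩ := hαβ (sec (g i)) hi'
      rcases hunit (sec (g i)) (βf (sec (g i))) with h | h | h
      · exact absurd h a3
      · left; exact h
      · right; exact h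
  · intro i j hb
    by_cases hi : g i = g i0 <;> by_cases hj : g j = g i0
    · rw [hi, hj]
    · exfalso
      simp only [hi, if_true, if_neg hj] at hb
      have hj' : g (sec (g j)) ≠ g i0 := by rw [hsec j]; exact hj
      obtain ⟨a1, a2, a3, a4, a5⟩ := hαβ (sec (g j)) hj'
      exact hastar (hb ▸ a4)
    · exfalso
      simp only [hj, if_true, if_neg hi] at hb
      have hi' : g (sec (g i)) ≠ g i0 := by rw [hsec i]; exact hi
      obtain ⟨a1, a2, a3, a4, a5⟩ := hαβ (sec (g i)) hi'
      exact hastar (hb ▸ a4)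
    · simp only [if_neg hi, if_neg hj] at hb
      by_contra hne
      have hi' : g (sec (g i)) ≠ g i0 := by rw [hsec i]; exact hi
      have hj' : g (sec (g j)) ≠ g i0 := by rw [hsec j]; exact hj
      have hne' : g (sec (g i)) ≠ g (sec (g j)) := by rw [hsec i, hsec j]; exact hne
      obtain ⟨a1, a2, a3, a4, a5⟩ := hαβ (sec (g i)) hi'
      obtain ⟨b1, b2, b3, b4, b5⟩ := hαβ (sec (g j)) hj'
      have := hF3 (sec (g i)) (sec (g j)) hi' hj' hne' (βf (sec (g i))) a3 a4
      rw [hb] at this
      exact b3 this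
  · intro i x
    by_cases hi : g i = g i0
    · rw [heq i i0 hi]
      simp only [hi, if_true]
      by_cases hx : x = astar
      · simp [hx]
      · simp [hx]
    · simp only [if_neg hi]
      have hi' : g (sec (g i)) ≠ g i0 := by rw [hsec i]; exact hi
      obtain ⟨a1, a2, a3, a4, a5⟩ := hαβ (sec (g i)) hi'
      have hα : αf (sec (g i)) = astar := hastar2 _ hi'
      rw [hα] at a2 a5
      rw [← heq (sec (g i)) i (hsec i)]
      have hne : astar ≠ βf (sec (g i)) := fun h => hastar (h ▸ a4)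
      by_cases hx : x = astar
      · rw [hx, a2, if_pos rfl, if_neg hne]
        simp
      · by_cases hxb : x = βf (sec (g i))
        · rw [hxb, if_neg (Ne.symm hne), if_pos rfl, a4, zero_add]
        · rw [if_neg hx, if_neg hxb, a5 x hx hxb, add_zero]

end Cfsg.Agent.H82.P1
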