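import Cfsg.Agent.H82.P1E
import Cfsg.Agent.H82.P1I

/-!
# Sylow subgroups of prime order, part J: the characters over the trivial character (helper82)

In a local setup with `N / C` cyclic in which the count `k_{p'}(G) ≥ k(N)` holds, the set
`setX triv0` of the irreducible characters of `G` met by the `Gam μ 1` has exactly
`|N : C| + |setB triv0|` elements and is disjoint from the `setX ϑ`, `ϑ ≠ 1`; the fibres of
`μ ↦ (tw μ 1)^N` are the `N`-orbits, of length `|N : C|`.
-/

set_option autoImplicit false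
set_option linter.style.haveILetI false
set_option linter.unusedSectionVars false

namespace Cfsg.Agent.H82.P1

open Cfsg Cfsg.Agent.H4 Cfsg.Agent.H82 Cfsg.Agent.H82.BL Cfsg.Agent.Clifford
open scoped ComplexConjugate
open Classical

universe u

variable {G : Type u} [Group G] [Fintype G] {p : ℕ} {N C P : Subgroup G} [Fintype N] [Fintype C]
  (S : Setup p N C P)
  [Fintype (IrrCharacter G)] [Fintype (IrrCharacter N)] [Fintype (IrrCharacter C)]
  [Fintype (P.subgroupOf C)] [Fintype (P.subgroupOf C →* ℂˣ)]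

omit [Fintype G] in
theorem isIrr_one_fun (A : Type u) [Group A] : IsIrrCharacter A (1 : A → ℂ) := by
  have h := (linChar (1 : A →* ℂˣ)).2
  have e : (linChar (1 : A →* ℂˣ)).1 = 1 := by
    funext g
    rw [linChar_apply]
    simp
  rwa [e] at h

/-- The trivial character of `C`, as a character trivial on `P`. -/
noncomputable def triv0 : Irr0 S :=
  ⟨⟨1, isIrr_one_fun C⟩, fun x c => by simp⟩

theorem triv0_val : (triv0 S).1.1 = 1 := rfl

theorem eq_triv0_of_relN {ϑ : Irr0 S} (h : relN S ϑ (triv0 S)) : ϑ = triv0 S := by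
  obtain ⟨n, hn⟩ := relN_symm S h
  apply Subtype.ext
  apply Subtype.ext
  rw [hn]
  rfl

theorem card_setX_le_union (hcyc : haveI := normal_CN S; IsCyclic (N ⧸ C.subgroupOf N))
    (ϑ : Irr0 S) : (setX S ϑ).card ≤ (setA S ϑ.1 ∪ setB S ϑ).card := by
  rw [Finset.card_union_of_disjoint (setA_inter_setB S ϑ)]
  exact card_setX_le S ϑ _ (card_setA S hcyc ϑ.1)

theorem filter_subset_biUnion :
    (Finset.univ.filter fun χ : IrrCharacter G => ¬ Nat.card P ∣ charDegree χ.1) ⊆
      Finset.univ.biUnion (setX S) := by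
  intro χ hχ
  rw [Finset.mem_filter] at hχ
  by_contra hcon
  apply hχ.2
  apply cover S χ
  intro ϑ μ
  by_contra hne
  apply hcon
  rw [Finset.mem_biUnion]
  refine ⟨ϑ, Finset.mem_univ _, ?_⟩
  simp only [setX, Finset.mem_filter, Finset.mem_univ, true_and]
  exact ⟨μ, hne⟩

/-- The equality case of the character count, at the trivial character. -/
theorem setX_triv_facts (hcyc : haveI := normal_CN S; IsCyclic (N ⧸ C.subgroupOf N))
    (heq : Fintype.card (IrrCharacter N) ≤
      (Finset.univ.filter fun χ : IrrCharacter G => ¬ Nat.card P ∣ charDegree χ.1).card) :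
    (setX S (triv0 S)).card = (setA S (triv0 S).1).card + (setB S (triv0 S)).card ∧
      ∀ ϑ : Irr0 S, ϑ ≠ triv0 S → Disjoint (setX S ϑ) (setX S (triv0 S)) := by
  have hge : (Finset.univ.biUnion fun ϑ : Irr0 S => setA S ϑ.1 ∪ setB S ϑ).card ≤
      (Finset.univ.biUnion (setX S)).card :=
    calc (Finset.univ.biUnion fun ϑ : Irr0 S => setA S ϑ.1 ∪ setB S ϑ).card
        ≤ Fintype.card (IrrCharacter N) := Finset.card_le_univ _
      _ ≤ _ := heq
      _ ≤ _ := Finset.card_le_card (filter_subset_biUnion S)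
  have h := card_eq_of_setoid (setoidN S) (setX S) (fun ϑ => setA S ϑ.1 ∪ setB S ϑ)
    (fun ϑ ϑ' hr => Finset.Subset.antisymm (setX_subset S hr) (setX_subset S (relN_symm S hr)))
    (fun ϑ ϑ' hr => setY_disjoint S hr) (card_setX_le_union S hcyc) hge (triv0 S)
  constructor
  · rw [h.1, Finset.card_union_of_disjoint (setA_inter_setB S (triv0 S))]
  · intro ϑ hϑ
    apply h.2
    intro hr
    exact hϑ (eq_triv0_of_relN S hr)

theorem card_setA_triv (hcyc : haveI := normal_CN S; IsCyclic (N ⧸ C.subgroupOf N)) :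
    (setA S (triv0 S).1).card = ind S := by
  have h1 := card_setA S hcyc (triv0 S).1
  have hinv : NInv S ((triv0 S).1.1) := fun n c => rfl
  rw [inner_ninv_trN S hinv, irr_inner_self, mul_one] at h1
  exact_mod_cast h1.symm

/-- The fibres of `μ ↦ (tw μ 1)^N` are the `N`-orbits. -/
theorem LamN_triv_eq_iff (μ μ' : {μ : P.subgroupOf C →* ℂˣ // μ ≠ 1}) :
    LamN S μ' (triv0 S) = LamN S μ (triv0 S) ↔ ∃ n : N, μ'.1 = μ.1.comp (cjP S n) := by
  have hc1 : IsCen (1 : C → ℂ) (1 : P.subgroupOf C →* ℂˣ) := (triv0 S).2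
  constructor
  · intro h
    have h1 : classInner (LamN S μ' (triv0 S)).1 (LamN S μ (triv0 S)).1 = 1 := by
      rw [h]
      exact irr_inner_self _
    rw [LamN_val, LamN_val, inner_indN_indN] at h1
    by_contra hcon
    push Not at hcon
    have h2 : classInner (twI S μ'.1 (triv0 S).1).1 (trN S (twI S μ.1 (triv0 S).1).1) = 0 := by
      apply inner_trN_of_not
      intro n hn
      apply hcon n
      simp only [twI_val] at hn
      rw [tw_comp_cj] at hn
      have e1 : IsCen (tw S (μ.1.comp (cjP S n)) (1 : C → ℂ)) (μ.1.comp (cjP S n)) :=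
        isCen_tw S _ hc1
      have e2 : IsCen (tw S μ'.1 (1 : C → ℂ)) μ'.1 := isCen_tw S _ hc1
      have e3 : (fun c => (triv0 S).1.1 (cj S n c)) = (1 : C → ℂ) := rfl
      rw [e3] at hn
      rw [hn] at e1
      exact IsCen.eq_of e2 e1 (irr_one_ne_zero (twI S μ'.1 (triv0 S).1))
    rw [twI_val, twI_val] at h2
    rw [h2] at h1
    exact zero_ne_one h1
  · rintro ⟨n, hn⟩
    apply Subtype.ext
    rw [LamN_val, LamN_val, hn]
    have e3 : (fun c => (triv0 S).1.1 (cj S n c)) = (triv0 S).1.1 := rfl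
    have e4 := tw_comp_cj S μ.1 (triv0 S).1.1 n
    rw [e3] at e4
    rw [← e4]
    funext x
    simp only [indN]
    by_cases hx : (x : G) ∈ C
    · rw [dif_pos hx, dif_pos hx, trN_comp_cj]
    · rw [dif_neg hx, dif_neg hx]

/-- An `N`-orbit on the nontrivial characters of `P` has `|N : C|` elements. -/
theorem card_orbit_eq {lam : P.subgroupOf C →* ℂˣ} (hlam : lam ≠ 1) :
    (Finset.univ.image (fun n : N => lam.comp (cjP S n))).card = ind S := by
  set f : N → (P.subgroupOf C →* ℂˣ) := fun n => lam.comp (cjP S n) with hf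
  have h1 := Finset.card_eq_sum_card_image f (Finset.univ : Finset N)
  have h2 : ∀ b ∈ Finset.univ.image f,
      (Finset.univ.filter fun n : N => f n = b).card = Nat.card C := by
    intro b hb
    obtain ⟨n₀, -, rfl⟩ := Finset.mem_image.mp hb
    rw [← card_filter_mem S.hCN]
    apply Finset.card_bij (fun n _ => n * n₀⁻¹)
    · intro n hn
      simp only [Finset.mem_filter, Finset.mem_univ, true_and] at hn ⊢
      exact (comp_cjP_eq_iff S hlam n n₀).mp hn
    · intro a _ b _ hab
      exact mul_right_cancel hab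
    · intro m hm
      simp only [Finset.mem_filter, Finset.mem_univ, true_and] at hm
      refine ⟨m * n₀, ?_, by simp⟩
      simp only [Finset.mem_filter, Finset.mem_univ, true_and]
      apply (comp_cjP_eq_iff S hlam (m * n₀) n₀).mpr
      simpa using hm
  rw [Finset.sum_congr rfl h2, Finset.sum_const, smul_eq_mul, Finset.card_univ,
    ← Nat.card_eq_fintype_card, ← ind_mul S] at h1
  exact (Nat.eq_of_mul_eq_mul_right Nat.card_pos h1).symm

theorem card_fibre_LamN (μ : {μ : P.subgroupOf C →* ℂˣ // μ ≠ 1}) :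
    (Finset.univ.filter fun μ' : {μ : P.subgroupOf C →* ℂˣ // μ ≠ 1} =>
      LamN S μ' (triv0 S) = LamN S μ (triv0 S)).card = ind S := by
  rw [← card_orbit_eq S μ.2]
  have e : (Finset.univ.image (fun n : N => μ.1.comp (cjP S n))) =
      (Finset.univ.filter fun μ' : {μ : P.subgroupOf C →* ℂˣ // μ ≠ 1} =>
        LamN S μ' (triv0 S) = LamN S μ (triv0 S)).image Subtype.val := by
    ext ν
    simp only [Finset.mem_image, Finset.mem_filter, Finset.mem_univ, true_and]
    constructor
    · rintro ⟨n, rfl⟩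
      refine ⟨⟨μ.1.comp (cjP S n), comp_cjP_ne_one S μ.2 n⟩, ?_, rfl⟩
      exact (LamN_triv_eq_iff S μ _).mpr ⟨n, rfl⟩
    · rintro ⟨μ', hμ', rfl⟩
      obtain ⟨n, hn⟩ := (LamN_triv_eq_iff S μ μ').mp hμ'
      exact ⟨n, hn.symm⟩
  rw [e, Finset.card_image_of_injective _ Subtype.val_injective]

theorem card_setB_triv :
    (setB S (triv0 S)).card * ind S = Fintype.card (P.subgroupOf C →* ℂˣ) - 1 := by
  have h1 := Finset.card_eq_sum_card_image
    (fun μ : {μ : P.subgroupOf C →* ℂˣ // μ ≠ 1} => LamN S μ (triv0 S)) Finset.univ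
  have h2 : ∀ b ∈ Finset.univ.image
      (fun μ : {μ : P.subgroupOf C →* ℂˣ // μ ≠ 1} => LamN S μ (triv0 S)),
      (Finset.univ.filter fun μ' : {μ : P.subgroupOf C →* ℂˣ // μ ≠ 1} =>
        LamN S μ' (triv0 S) = b).card = ind S := by
    intro b hb
    obtain ⟨μ, -, rfl⟩ := Finset.mem_image.mp hb
    exact card_fibre_LamN S μ
  rw [Finset.sum_congr rfl h2, Finset.sum_const, smul_eq_mul, Finset.card_univ,
    Fintype.card_subtype_compl, Fintype.card_subtype_eq] at h1
  exact h1.symm

end Cfsg.Agent.H82.P1
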