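import Cfsg.Agent.H82.P1J

/-!
# Sylow subgroups of prime order, part K: the lattice over the trivial character (helper82)

The shape `w + s δ_{b(μ)}` of the generalized characters `Gam μ 1`, with one common sign `s`,
and the values on `p`-singular elements of the characters with constant multiplicity in the
`Gam μ 1`.
-/

set_option autoImplicit false
set_option linter.style.haveILetI false
set_option linter.unusedSectionVars false

namespace Cfsg.Agent.H82.P1

open Cfsg Cfsg.Agent.H4 Cfsg.Agent.H82 Cfsg.Agent.H82.BL Cfsg.Agent.Clifford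
open scoped ComplexConjugate
open Classical

universe u

variable {G : Type u} [Group G] [Fintype G] {p : ℕ} {N C P : Subgroup G} [Fintype N] [Fintype C]
  (S : Setup p N C P)
  [Fintype (IrrCharacter G)] [Fintype (IrrCharacter N)] [Fintype (IrrCharacter C)]
  [Fintype (P.subgroupOf C)] [Fintype (P.subgroupOf C →* ℂˣ)]

theorem comm_sub (S' : Setup p N C P) (a b : P.subgroupOf C) : a * b = b * a := by
  apply Subtype.ext
  apply Subtype.ext
  have := S'.cent (a : G) (Subgroup.mem_subgroupOf.mp a.2) (b : G) (b : C).2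
  simpa using this

/-- Expansion of `Gam μ f` at a `p`-regular element. -/
theorem Gam_expand_reg (μ : P.subgroupOf C →* ℂˣ) (f : C → ℂ) (g : G)
    (hg : ¬ p ∣ orderOf g) :
    ∑ χ : IrrCharacter G, classInner (Gam S μ f) χ.1 * χ.1 g = 0 := by
  have h1 := classFunction_eq_finsum (ψ := Gam S μ f) (indFun_isClassFunction C _)
  rw [finsum_eq_sum_of_fintype] at h1
  have h2 := congrFun h1 g
  rw [Finset.sum_apply] at h2
  simp only [Pi.smul_apply, smul_eq_mul] at h2
  rw [← h2]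
  exact indFun_reg (Fm S μ f) (Fm_reg S μ f) g hg

/-- The shape of the `Gam μ 1`. -/
theorem exists_wbs (hp : p.Prime)
    (hcyc : haveI := normal_CN S; IsCyclic (N ⧸ C.subgroupOf N))
    (heq : Fintype.card (IrrCharacter N) ≤
      (Finset.univ.filter fun χ : IrrCharacter G => ¬ Nat.card P ∣ charDegree χ.1).card)
    (μ0 : {μ : P.subgroupOf C →* ℂˣ // μ ≠ 1}) :
    ∃ (w : IrrCharacter G → ℤ) (b : IrrCharacter N → IrrCharacter G) (s : ℤ),
      (∀ χ, w χ = 0 ∨ w χ = 1 ∨ w χ = -1) ∧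
      (Finset.univ.filter fun χ => w χ ≠ 0).card = ind S ∧
      (∀ μ : {μ : P.subgroupOf C →* ℂˣ // μ ≠ 1}, w (b (LamN S μ (triv0 S))) = 0) ∧
      (s = 1 ∨ s = -1) ∧
      (∀ μ μ' : {μ : P.subgroupOf C →* ℂˣ // μ ≠ 1},
        b (LamN S μ (triv0 S)) = b (LamN S μ' (triv0 S)) →
          LamN S μ (triv0 S) = LamN S μ' (triv0 S)) ∧
      ∀ (μ : {μ : P.subgroupOf C →* ℂˣ // μ ≠ 1}) (χ : IrrCharacter G),
        classInner (Gam S μ.1 1) χ.1 =
          ((w χ + if χ = b (LamN S μ (triv0 S)) then s else 0 : ℤ) : ℂ) := by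
  have hint : ∀ (μ : {μ : P.subgroupOf C →* ℂˣ // μ ≠ 1}) (χ : IrrCharacter G),
      ∃ z : ℤ, classInner (Gam S μ.1 (triv0 S).1.1) χ.1 = z :=
    fun μ χ => inner_Gam_int S μ.1 (triv0 S).1 χ
  choose v hv using hint
  have he : classInner (triv0 S).1.1 (trN S (triv0 S).1.1) = (ind S : ℂ) := by
    rw [card_setA S hcyc, card_setA_triv S hcyc]
  have hG : ∀ μ μ' : {μ : P.subgroupOf C →* ℂˣ // μ ≠ 1},
      ∑ χ : IrrCharacter G, v μ χ * v μ' χ =
        (ind S : ℤ) + if LamN S μ (triv0 S) = LamN S μ' (triv0 S) then 1 else 0 := by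
    intro μ μ'
    have h1 := gram_Gam S μ μ' (triv0 S)
    rw [he, classInner_eq_sum_irr (A := Gam S μ.1 (triv0 S).1.1) (indFun_isClassFunction C _),
      finsum_eq_sum_of_fintype] at h1
    have h2 : ∀ χ : IrrCharacter G, classInner (Gam S μ.1 (triv0 S).1.1) χ.1 *
        classInner χ.1 (Gam S μ'.1 (triv0 S).1.1) = ((v μ χ * v μ' χ : ℤ) : ℂ) := by
      intro χ
      rw [← classInner_conj_symm χ.1 (Gam S μ'.1 (triv0 S).1.1), hv, hv]
      simp
    simp only [h2] at h1
    have h3 : ((∑ χ : IrrCharacter G, v μ χ * v μ' χ : ℤ) : ℂ) =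
        (((ind S : ℤ) + if LamN S μ (triv0 S) = LamN S μ' (triv0 S) then 1 else 0 : ℤ) : ℂ) := by
      rw [Int.cast_sum, h1]
      push_cast
      split_ifs <;> simp
    exact_mod_cast h3
  have e1 : (Finset.univ.filter fun χ : IrrCharacter G => ∃ μ, v μ χ ≠ 0) =
      setX S (triv0 S) := by
    simp only [setX]
    apply Finset.filter_congr
    intro χ _
    constructor
    · rintro ⟨μ, hμ⟩
      refine ⟨μ, ?_⟩
      rw [hv]
      exact_mod_cast hμ
    · rintro ⟨μ, hμ⟩
      refine ⟨μ, ?_⟩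
      rw [hv] at hμ
      exact_mod_cast hμ
  have hcard : ind S + (Finset.univ.image
      (fun μ : {μ : P.subgroupOf C →* ℂˣ // μ ≠ 1} => LamN S μ (triv0 S))).card ≤
      (Finset.univ.filter fun χ : IrrCharacter G => ∃ μ, v μ χ ≠ 0).card := by
    rw [e1, (setX_triv_facts S hcyc heq).1, card_setA_triv S hcyc]
    exact le_refl _
  obtain ⟨w, b, s, hw, hwc, hwb, hs, hb, hv'⟩ :=
    lattice_structure v (fun μ => LamN S μ (triv0 S)) (ind S) hG hcard μ0
  have h1ne : ¬ p ∣ orderOf (1 : G) := by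
    rw [orderOf_one]
    exact fun h => hp.ne_one (Nat.dvd_one.mp h)
  have hdeg : ∀ μ : {μ : P.subgroupOf C →* ℂˣ // μ ≠ 1},
      (∑ χ : IrrCharacter G, w χ * (charDegree χ.1 : ℤ)) +
        s (LamN S μ (triv0 S)) * (charDegree (b (LamN S μ (triv0 S))).1 : ℤ) = 0 := by
    intro μ
    have h1 := Gam_expand_reg S μ.1 (triv0 S).1.1 1 h1ne
    have h2 : ∑ χ : IrrCharacter G, ((v μ χ * (charDegree χ.1 : ℤ) : ℤ) : ℂ) = 0 := by
      rw [← h1]
      refine Finset.sum_congr rfl fun χ _ => ?_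
      rw [hv, irr_one_eq_charDegree]
      push_cast
      rfl
    have h3 : ∑ χ : IrrCharacter G, v μ χ * (charDegree χ.1 : ℤ) = 0 := by
      exact_mod_cast h2
    rw [← h3]
    simp only [hv', add_mul, Finset.sum_add_distrib, ite_mul, zero_mul, Finset.sum_ite_eq',
      Finset.mem_univ, if_true]
  have hsign : ∀ μ : {μ : P.subgroupOf C →* ℂˣ // μ ≠ 1},
      s (LamN S μ (triv0 S)) = s (LamN S μ0 (triv0 S)) := by
    intro μ
    have h1 := hdeg μ
    have h2 := hdeg μ0
    have hd1 : (0 : ℤ) < (charDegree (b (LamN S μ (triv0 S))).1 : ℤ) := by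
      exact_mod_cast charDegree_pos _
    have hd2 : (0 : ℤ) < (charDegree (b (LamN S μ0 (triv0 S))).1 : ℤ) := by
      exact_mod_cast charDegree_pos _
    rcases hs μ with h | h <;> rcases hs μ0 with h' | h'
    · rw [h, h']
    · rw [h] at h1
      rw [h'] at h2
      linarith
    · rw [h] at h1
      rw [h'] at h2
      linarith
    · rw [h, h']
  refine ⟨w, b, s (LamN S μ0 (triv0 S)), hw, hwc, hwb, hs μ0, hb, ?_⟩
  intro μ χ
  have h : classInner (Gam S μ.1 1) χ.1 = ((v μ χ : ℤ) : ℂ) := hv μ χ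
  rw [hv' μ χ, hsign μ] at h
  refine Eq.trans h ?_
  congr 2
  congr 1

/-- The relation on `p`-regular elements. -/
theorem reg_identity {w : IrrCharacter G → ℤ} {b : IrrCharacter N → IrrCharacter G} {s : ℤ}
    (hv : ∀ (μ : {μ : P.subgroupOf C →* ℂˣ // μ ≠ 1}) (χ : IrrCharacter G),
      classInner (Gam S μ.1 1) χ.1 =
        ((w χ + if χ = b (LamN S μ (triv0 S)) then s else 0 : ℤ) : ℂ))
    (μ : {μ : P.subgroupOf C →* ℂˣ // μ ≠ 1}) (g : G) (hg : ¬ p ∣ orderOf g) :
    ∑ χ : IrrCharacter G, (w χ : ℂ) * χ.1 g + (s : ℂ) * (b (LamN S μ (triv0 S))).1 g = 0 := by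
  have h1 := Gam_expand_reg S μ.1 1 g hg
  rw [← h1]
  simp only [hv]
  push_cast
  simp only [add_mul, Finset.sum_add_distrib, ite_mul, zero_mul, Finset.sum_ite_eq',
    Finset.mem_univ, if_true]

theorem isCen_tw_mul (μ ω : P.subgroupOf C →* ℂˣ) {f : C → ℂ} (hf : IsCen f ω) :
    IsCen (tw S μ f) (μ * ω) := by
  intro x c
  simp only [tw]
  rw [map_mul, S.hρ, map_mul, hf x c]
  simp only [MonoidHom.mul_apply, Units.val_mul]
  ring

/-- A class function on `C` vanishing on the `p`-regular elements and orthogonal to all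
`ϑ - tw μ ϑ` is zero. -/
theorem complete (f : C → ℂ) (hf : IsClassFunction C f)
    (hreg : ∀ c : C, ¬ p ∣ orderOf (c : G) → f c = 0)
    (h : ∀ (μ : P.subgroupOf C →* ℂˣ) (ϑ : Irr0 S), classInner (Fm S μ ϑ.1.1) f = 0) :
    f = 0 := by
  apply eq_zero_of_inner_irr_eq_zero hf
  intro β
  rw [← classInner_conj_symm]
  suffices hs : classInner β.1 f = 0 by rw [hs, map_zero]
  obtain ⟨ω, hω⟩ := exists_isCen S β
  have hϑc : IsCen (twI S ω⁻¹ β).1 (1 : P.subgroupOf C →* ℂˣ) := by
    have h1 := isCen_tw_mul S ω⁻¹ ω hω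
    have e : ω⁻¹ * ω = 1 := inv_mul_cancel ω
    rw [e] at h1
    exact h1
  set ϑ : Irr0 S := ⟨twI S ω⁻¹ β, hϑc⟩ with hϑ
  have hβ : tw S ω ϑ.1.1 = β.1 := by
    funext c
    simp only [hϑ, twI_val, tw, MonoidHom.inv_apply, Units.val_inv_eq_inv_val]
    rw [← mul_assoc, mul_inv_cancel₀ (Units.ne_zero _), one_mul]
  have hconst : ∀ ν : P.subgroupOf C →* ℂˣ,
      classInner (tw S ν ϑ.1.1) f = classInner ϑ.1.1 f := by
    intro ν
    have h1 := h ν ϑ
    simp only [Fm] at h1
    rw [classInner_sub_left] at h1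
    exact (sub_eq_zero.mp h1).symm
  have hsum : ∑ ν : P.subgroupOf C →* ℂˣ, classInner (tw S ν ϑ.1.1) f = 0 := by
    rw [← classInner_sum_left]
    unfold classInner
    rw [Finset.sum_eq_zero, mul_zero]
    intro c _
    by_cases hc : p ∣ orderOf (c : G)
    · have hρ : S.ρ c ≠ 1 := fun h' => ((S.hreg c).mpr h') hc
      have h0 : (∑ ν : P.subgroupOf C →* ℂˣ, tw S ν ϑ.1.1) c = 0 := by
        rw [Finset.sum_apply]
        simp only [tw]
        rw [← Finset.sum_mul, sum_hom_apply (comm_sub S) (S.ρ c), if_neg hρ, zero_mul]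
      rw [h0, zero_mul]
    · rw [hreg c hc, map_zero, mul_zero]
  rw [Finset.sum_congr rfl (fun ν _ => hconst ν), Finset.sum_const, Finset.card_univ,
    nsmul_eq_mul] at hsum
  have hne : (Fintype.card (P.subgroupOf C →* ℂˣ) : ℂ) ≠ 0 := by
    have : 0 < Fintype.card (P.subgroupOf C →* ℂˣ) := Fintype.card_pos
    exact_mod_cast this.ne'
  have h0 := (mul_eq_zero.mp hsum).resolve_left hne
  rw [← hβ, hconst ω, h0]

/-- A character with constant multiplicity `z` in the `Gam μ 1` and orthogonal to the other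
`Gam μ ϑ` takes the value `z` on the `p`-singular elements of `C`. -/
theorem value_sing (χ : IrrCharacter G) (z : ℤ)
    (hz : ∀ μ : {μ : P.subgroupOf C →* ℂˣ // μ ≠ 1}, classInner (Gam S μ.1 1) χ.1 = z)
    (hdisj : ∀ ϑ : Irr0 S, ϑ ≠ triv0 S → ∀ μ : {μ : P.subgroupOf C →* ℂˣ // μ ≠ 1},
      classInner (Gam S μ.1 ϑ.1.1) χ.1 = 0)
    (c : C) (hc : p ∣ orderOf (c : G)) : χ.1 c = z := by
  set f : C → ℂ := fun c => if p ∣ orderOf (c : G) then χ.1 c - z else 0 with hf
  have hcl : IsClassFunction C f := by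
    intro a h
    simp only [hf]
    have e1 : orderOf (((h * a * h⁻¹ : C)) : G) = orderOf (a : G) := by
      have : (((h * a * h⁻¹ : C)) : G) = (h : G) * (a : G) * (h : G)⁻¹ := by simp
      rw [this]
      exact orderOf_conj_left _ _
    have e2 : χ.1 ((h * a * h⁻¹ : C) : G) = χ.1 (a : G) := by
      have : (((h * a * h⁻¹ : C)) : G) = (h : G) * (a : G) * (h : G)⁻¹ := by simp
      rw [this]
      exact irr_isClassFunction χ _ _
    rw [e1, e2]
  have hzero : ∀ (μ : P.subgroupOf C →* ℂˣ) (ϑ : Irr0 S),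
      classInner (Fm S μ ϑ.1.1) f = 0 := by
    intro μ ϑ
    by_cases hμ : μ = 1
    · rw [hμ]
      simp only [Fm, tw_one, sub_self]
      exact classInner_zero_left _
    · have e1 : classInner (Fm S μ ϑ.1.1) f =
          classInner (Fm S μ ϑ.1.1) ((fun c : C => χ.1 c) - (z : ℂ) • (1 : C → ℂ)) := by
        unfold classInner
        congr 1
        refine Finset.sum_congr rfl fun c _ => ?_
        by_cases hc : p ∣ orderOf (c : G)
        · simp only [hf, if_pos hc, Pi.sub_apply, Pi.smul_apply, Pi.one_apply, smul_eq_mul,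
            mul_one]
        · rw [Fm_reg S μ _ c hc, zero_mul, zero_mul]
      rw [e1, classInner_sub_right, classInner_smul_right,
        ← inner_Gam S μ ϑ.1.1 (irr_isClassFunction χ)]
      have e2 : classInner (Fm S μ ϑ.1.1) (1 : C → ℂ) = if ϑ = triv0 S then 1 else 0 := by
        simp only [Fm]
        have e0 : classInner (tw S μ ϑ.1.1) (1 : C → ℂ) = 0 :=
          inner_cen_ne (isCen_tw S μ ϑ.2) (triv0 S).2 hμ
        rw [classInner_sub_left, e0, sub_zero]
        have h3 := irr_inner ϑ.1 (triv0 S).1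
        rw [triv0_val] at h3
        rw [h3]
        by_cases h : ϑ = triv0 S
        · rw [if_pos h, if_pos (congrArg Subtype.val h)]
        · rw [if_neg h, if_neg (fun h' => h (Subtype.ext h'))]
      rw [e2]
      by_cases hϑ : ϑ = triv0 S
      · rw [if_pos hϑ, hϑ, triv0_val, hz ⟨μ, hμ⟩]
        simp
      · rw [if_neg hϑ, hdisj ϑ hϑ ⟨μ, hμ⟩]
        simp
  have h0 := complete S f hcl (fun c hc => by simp only [hf]; rw [if_neg hc]) hzero
  have h1 := congrFun h0 c
  simp only [hf, if_pos hc, Pi.zero_apply] at h1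
  exact sub_eq_zero.mp h1

end Cfsg.Agent.H82.P1
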