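import Cfsg.Agent.H82.P1K

/-!
# Sylow subgroups of prime order, part L: the principal block (helper82)

In a local setup with `|P| = p`, `N / C` cyclic and `k_{p'}(G) ≥ k(N)`: the sum of an
irreducible character over the `p`-regular elements, and the structure of the set of
characters where this sum does not vanish (the principal block, by Brauer's criterion).
-/

set_option autoImplicit false
set_option linter.style.haveILetI false
set_option linter.unusedSectionVars false

namespace Cfsg.Agent.H82.P1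

open Cfsg Cfsg.Agent.H4 Cfsg.Agent.H82 Cfsg.Agent.H82.BL Cfsg.Agent.Clifford
open scoped ComplexConjugate
open Classical

universe u

variable {G : Type u} [Group G] [Fintype G] {p : ℕ} {N C P : Subgroup G} [Fintype N] [Fintype C]
  (S : Setup p N C P)
  [Fintype (IrrCharacter G)] [Fintype (IrrCharacter N)] [Fintype (IrrCharacter C)]
  [Fintype (P.subgroupOf C)] [Fintype (P.subgroupOf C →* ℂˣ)]

/-- The sum over all characters `μ` of `P` of the multiplicities of `χ` in the `Gam μ 1`. -/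
theorem sum_inner_Gam (χ : IrrCharacter G) :
    ∑ μ : P.subgroupOf C →* ℂˣ, classInner (Gam S μ 1) χ.1 =
      (Nat.card C : ℂ)⁻¹ * ((Fintype.card (P.subgroupOf C →* ℂˣ) : ℂ) *
        ∑ c : C, if p ∣ orderOf (c : G) then conj (χ.1 c) else 0) := by
  have h1 : ∀ μ : P.subgroupOf C →* ℂˣ, classInner (Gam S μ 1) χ.1 =
      (Nat.card C : ℂ)⁻¹ * ∑ c : C, (1 - ((μ (S.ρ c) : ℂˣ) : ℂ)) * conj (χ.1 c) := by
    intro μ
    rw [inner_Gam S μ 1 (irr_isClassFunction χ)]
    unfold classInner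
    congr 1
    refine Finset.sum_congr rfl fun c _ => ?_
    rw [Fm_apply, Pi.one_apply, mul_one]
  simp only [h1]
  rw [← Finset.mul_sum, Finset.sum_comm]
  congr 1
  rw [Finset.mul_sum]
  refine Finset.sum_congr rfl fun c _ => ?_
  rw [← Finset.sum_mul, Finset.sum_sub_distrib, sum_hom_apply (comm_sub S) (S.ρ c)]
  simp only [Finset.sum_const, Finset.card_univ, nsmul_eq_mul, mul_one]
  by_cases hc : p ∣ orderOf (c : G)
  · have hρ : S.ρ c ≠ 1 := fun h' => ((S.hreg c).mpr h') hc
    rw [if_pos hc, if_neg hρ, sub_zero]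
  · have hρ : S.ρ c = 1 := (S.hreg c).mp hc
    rw [if_neg hc, if_pos hρ, sub_self, zero_mul, mul_zero]

theorem sum_irr_eq (χ : IrrCharacter G) :
    ∑ g : G, χ.1 g = (Nat.card G : ℂ) * (if χ.1 = 1 then 1 else 0) := by
  have h := irr_inner χ ⟨1, isIrr_one_fun G⟩
  unfold classInner at h
  simp only [Pi.one_apply, map_one, mul_one] at h
  have hG : (Nat.card G : ℂ) ≠ 0 := by
    have : 0 < Nat.card G := Nat.card_pos
    exact_mod_cast this.ne'
  have h2 : ∑ g : G, χ.1 g = (Nat.card G : ℂ) * ((Nat.card G : ℂ)⁻¹ * ∑ g : G, χ.1 g) := by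
    rw [← mul_assoc, mul_inv_cancel₀ hG, one_mul]
  rw [h2, h]
  congr 1
  by_cases h1 : χ.1 = 1
  · rw [if_pos h1, if_pos (Subtype.ext h1)]
  · rw [if_neg h1, if_neg (fun h' => h1 (congrArg Subtype.val h'))]

/-- The sum of `χ` over the `p`-regular elements. -/
theorem regsum_formula (χ : IrrCharacter G) (T : ℤ)
    (hT : ∑ μ : P.subgroupOf C →* ℂˣ, classInner (Gam S μ 1) χ.1 = T) :
    (∑ g : G, if p ∣ orderOf g then 0 else χ.1 g) *
        ((ind S : ℂ) * (Fintype.card (P.subgroupOf C →* ℂˣ) : ℂ)) =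
      (Nat.card G : ℂ) * ((if χ.1 = 1 then
        (ind S : ℂ) * (Fintype.card (P.subgroupOf C →* ℂˣ) : ℂ) else 0) - T) := by
  have hCne : (Nat.card C : ℂ) ≠ 0 := cardC_ne_zero C
  have hN : (Nat.card N : ℂ) = (ind S : ℂ) * (Nat.card C : ℂ) := cardN_cast S
  have hA := sum_irr_eq χ
  set Bs : ℂ := ∑ g : G, if p ∣ orderOf g then χ.1 g else 0 with hBs
  set Cs : ℂ := ∑ c : C, if p ∣ orderOf (c : G) then χ.1 c else 0 with hCs
  have h1 : Bs * (Nat.card N : ℂ) = (Nat.card G : ℂ) * Cs := sum_sing S (irr_isClassFunction χ)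
  have h2 : (∑ g : G, if p ∣ orderOf g then 0 else χ.1 g) = ∑ g : G, χ.1 g - Bs := by
    rw [hBs, ← Finset.sum_sub_distrib]
    refine Finset.sum_congr rfl fun g _ => ?_
    split_ifs <;> ring
  have h3 : (Fintype.card (P.subgroupOf C →* ℂˣ) : ℂ) * Cs = (Nat.card C : ℂ) * T := by
    have h := sum_inner_Gam S χ
    rw [hT] at h
    have h' : (Nat.card C : ℂ) * (T : ℂ) = (Fintype.card (P.subgroupOf C →* ℂˣ) : ℂ) *
        ∑ c : C, if p ∣ orderOf (c : G) then conj (χ.1 c) else 0 := by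
      rw [h, ← mul_assoc, mul_inv_cancel₀ hCne, one_mul]
    have h'' := congrArg conj h'
    rw [map_mul, map_mul, Complex.conj_natCast, Complex.conj_natCast, map_intCast,
      map_sum] at h''
    rw [hCs, h'']
    congr 1
    refine Finset.sum_congr rfl fun c _ => ?_
    split_ifs
    · rw [Complex.conj_conj]
    · rw [map_zero]
  apply mul_right_cancel₀ hCne
  rw [h2]
  by_cases hχ : χ.1 = 1
  · rw [if_pos hχ] at hA ⊢
    linear_combination ((ind S : ℂ) * (Fintype.card (P.subgroupOf C →* ℂˣ) : ℂ) *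
      (Nat.card C : ℂ)) * hA - (Fintype.card (P.subgroupOf C →* ℂˣ) : ℂ) * h1 +
      (Bs * (Fintype.card (P.subgroupOf C →* ℂˣ) : ℂ)) * hN - (Nat.card G : ℂ) * h3
  · rw [if_neg hχ] at hA ⊢
    linear_combination ((ind S : ℂ) * (Fintype.card (P.subgroupOf C →* ℂˣ) : ℂ) *
      (Nat.card C : ℂ)) * hA - (Fintype.card (P.subgroupOf C →* ℂˣ) : ℂ) * h1 +
      (Bs * (Fintype.card (P.subgroupOf C →* ℂˣ) : ℂ)) * hN - (Nat.card G : ℂ) * h3

theorem inner_Gam_one (μ : P.subgroupOf C →* ℂˣ) (hμ : μ ≠ 1) :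
    classInner (Gam S μ 1) (1 : G → ℂ) = 1 := by
  have hcl : IsClassFunction G (1 : G → ℂ) := fun g h => rfl
  rw [inner_Gam S μ 1 hcl]
  have e : (fun c : C => (1 : G → ℂ) c) = (1 : C → ℂ) := rfl
  rw [e]
  simp only [Fm]
  have e0 : classInner (tw S μ (1 : C → ℂ)) (1 : C → ℂ) = 0 :=
    inner_cen_ne (isCen_tw S μ (triv0 S).2) (triv0 S).2 hμ
  have e1 : classInner (1 : C → ℂ) (1 : C → ℂ) = 1 := irr_inner_self (triv0 S).1
  rw [classInner_sub_left, e0, e1, sub_zero]

theorem inner_Gam_triv (f : C → ℂ) {χ : G → ℂ} (hχ : IsClassFunction G χ) :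
    classInner (Gam S 1 f) χ = 0 := by
  rw [inner_Gam S 1 f hχ]
  simp only [Fm, tw_one, sub_self]
  exact classInner_zero_left _

/-- The degree of a character constant on the `p`-singular elements of `C`. -/
theorem deg_modEq (S : Setup p N C P) (hP : Nat.card P = p) (χ : IrrCharacter G) (z : ℤ)
    (hval : ∀ c : C, p ∣ orderOf (c : G) → χ.1 c = z) :
    (charDegree χ.1 : ℤ) ≡ z [ZMOD p] := by
  have hres : IsCharacter C (fun c : C => χ.1 c) :=
    isCharacter_restrict C (isCharacter_of_isIrrCharacter χ.2)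
  have hresD : IsCharacter (P.subgroupOf C) (fun x : P.subgroupOf C => χ.1 ((x : C) : G)) :=
    isCharacter_restrict (P.subgroupOf C) hres
  obtain ⟨a, ha⟩ := classInner_isCharacter_nat
    (isCharacter_of_isIrrCharacter (isIrr_one_fun (P.subgroupOf C))) hresD
  unfold classInner at ha
  simp only [Pi.one_apply, one_mul] at ha
  have hcard : Nat.card (P.subgroupOf C) = p := by
    rw [Nat.card_congr (Subgroup.subgroupOfEquivOfLe S.hPC).toEquiv, hP]
  rw [hcard] at ha
  have hp0 : (p : ℂ) ≠ 0 := by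
    have : 0 < Nat.card P := Nat.card_pos
    rw [hP] at this
    exact_mod_cast this.ne'
  have h1 : ∑ x : P.subgroupOf C, conj (χ.1 ((x : C) : G)) = (p : ℂ) * a := by
    rw [← ha, ← mul_assoc, mul_inv_cancel₀ hp0, one_mul]
  have h2 : ∑ x : P.subgroupOf C, conj (χ.1 ((x : C) : G)) =
      (charDegree χ.1 : ℂ) + ((p - 1 : ℕ) : ℂ) * z := by
    rw [← Finset.add_sum_erase Finset.univ _ (Finset.mem_univ (1 : P.subgroupOf C))]
    have e1 : conj (χ.1 (((1 : P.subgroupOf C) : C) : G)) = (charDegree χ.1 : ℂ) := by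
      have : (((1 : P.subgroupOf C) : C) : G) = 1 := rfl
      rw [this, irr_one_eq_charDegree, Complex.conj_natCast]
    have e2 : ∀ x ∈ Finset.univ.erase (1 : P.subgroupOf C),
        conj (χ.1 ((x : C) : G)) = (z : ℂ) := by
      intro x hx
      have hx1 : x ≠ 1 := (Finset.mem_erase.mp hx).1
      have hsing : p ∣ orderOf ((x : C) : G) := by
        by_contra hreg
        have := (S.hreg (x : C)).mp hreg
        rw [S.hρ] at this
        exact hx1 this
      rw [hval (x : C) hsing, map_intCast]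
    rw [e1, Finset.sum_congr rfl e2, Finset.sum_const, Finset.card_erase_of_mem
      (Finset.mem_univ _), Finset.card_univ, ← Nat.card_eq_fintype_card, hcard, nsmul_eq_mul]
  rw [h1] at h2
  have hp1 : 1 ≤ p := by
    have : 0 < Nat.card P := Nat.card_pos
    rw [hP] at this
    exact this
  have h3 : ((p : ℤ) * (a : ℤ) : ℤ) = (charDegree χ.1 : ℤ) + ((p : ℤ) - 1) * z := by
    have : (((p : ℤ) * (a : ℤ) : ℤ) : ℂ) =
        (((charDegree χ.1 : ℤ) + ((p : ℤ) - 1) * z : ℤ) : ℂ) := by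
      push_cast
      rw [h2]
      push_cast [Nat.cast_sub hp1]
      ring
    exact_mod_cast this
  rw [Int.modEq_iff_dvd]
  refine ⟨z - a, ?_⟩
  linarith

end Cfsg.Agent.H82.P1
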