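import Mathlib
import Cfsg.Prelude.Def_Blocks
import Cfsg.Agent.H82.Irr
import Cfsg.Agent.H82.Triv
import Cfsg.Agent.H82.Codeg
import Cfsg.Agent.H82.SumSq
import Cfsg.Agent.H82.Fin

set_option autoImplicit false

namespace Cfsg.Agent.H82

open Representation

/-- In a perfect group, a normal cyclic subgroup is central. -/
theorem central_of_normal_zpowers {Q : Type*} [Group Q] (hQ : commutator Q = ⊤) (g : Q)
    (hn : (Subgroup.zpowers g).Normal) : ∀ a : Q, a * g = g * a := by
  have key : ∀ a : Q, ∃ k : ℤ, a * g * a⁻¹ = g ^ k := by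
    intro a
    have := hn.conj_mem g (Subgroup.mem_zpowers g) a
    obtain ⟨k, hk⟩ := Subgroup.mem_zpowers_iff.mp this
    exact ⟨k, hk.symm⟩
  have hcomm : commutator Q ≤ Subgroup.centralizer {g} := by
    rw [commutator_eq_closure, Subgroup.closure_le]
    rintro x ⟨a, b, rfl⟩
    obtain ⟨k, hk⟩ := key a⁻¹
    obtain ⟨l, hl⟩ := key b⁻¹
    rw [inv_inv] at hk hl
    have h1 : b⁻¹ * a⁻¹ * g * a * b = a⁻¹ * b⁻¹ * g * b * a := by
      have e1 : b⁻¹ * a⁻¹ * g * a * b = b⁻¹ * (a⁻¹ * g * a) * b := by group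
      have e2 : a⁻¹ * b⁻¹ * g * b * a = a⁻¹ * (b⁻¹ * g * b) * a := by group
      have e3 : b⁻¹ * g ^ k * b = (b⁻¹ * g * b) ^ k := by
        have := conj_zpow (i := k) (a := b⁻¹) (b := g)
        rw [inv_inv] at this
        exact this.symm
      have e4 : a⁻¹ * g ^ l * a = (a⁻¹ * g * a) ^ l := by
        have := conj_zpow (i := l) (a := a⁻¹) (b := g)
        rw [inv_inv] at this
        exact this.symm
      rw [e1, e2, hk, hl, e3, e4, hk, hl, ← zpow_mul, ← zpow_mul, mul_comm]
    rw [SetLike.mem_coe, Subgroup.mem_centralizer_iff]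
    intro h hh
    rw [Set.mem_singleton_iff] at hh
    subst hh
    rw [commutatorElement_def]
    calc h * (a * b * a⁻¹ * b⁻¹) = a * b * (b⁻¹ * a⁻¹ * h * a * b) * a⁻¹ * b⁻¹ := by group
      _ = a * b * (a⁻¹ * b⁻¹ * h * b * a) * a⁻¹ * b⁻¹ := by rw [h1]
      _ = a * b * a⁻¹ * b⁻¹ * h := by group
  intro a
  have ha : a ∈ Subgroup.centralizer {g} := hcomm (hQ ▸ Subgroup.mem_top a)
  rw [Subgroup.mem_centralizer_iff] at ha
  exact (ha g rfl).symm

/-- A non-perfect finite group has a linear character whose kernel has prime index. -/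
theorem exists_hom_prime_index {G : Type*} [Group G] [Finite G] (h : commutator G ≠ ⊤) :
    ∃ f : G →* ℂˣ, (f.ker.index).Prime := by
  classical
  have hfin : Finite (Abelianization G) := inferInstanceAs (Finite (G ⧸ commutator G))
  have hne : NeZero (Monoid.exponent (Abelianization G)) := ⟨Monoid.exponent_ne_zero_of_finite⟩
  obtain ⟨g, hg⟩ : ∃ g : G, g ∉ commutator G := by
    by_contra hcon
    push Not at hcon
    exact h (eq_top_iff.mpr fun x _ => hcon x)
  have ha : (Abelianization.of g : Abelianization G) ≠ 1 := by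
    intro h1
    exact hg ((QuotientGroup.eq_one_iff g).mp h1)
  obtain ⟨φ, hφ⟩ :=
    CommGroup.exists_apply_ne_one_of_hasEnoughRootsOfUnity (Abelianization G) ℂ ha
  set f0 : G →* ℂˣ := φ.comp Abelianization.of with hf0
  have hf0g : f0 g ≠ 1 := hφ
  have hf0ne : f0 ≠ 1 := fun h1 => hf0g (by rw [h1]; rfl)
  have hpow : f0 ^ Nat.card G = 1 := by
    ext x
    rw [MonoidHom.pow_apply, ← map_pow, pow_card_eq_one', map_one]
    rfl
  set d := orderOf f0 with hd
  have hd_dvd : d ∣ Nat.card G := orderOf_dvd_of_pow_eq_one hpow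
  have hd0 : d ≠ 0 := fun h0 => by
    rw [h0, zero_dvd_iff] at hd_dvd
    exact Nat.card_pos.ne' hd_dvd
  have hd1 : d ≠ 1 := fun h1 => hf0ne (orderOf_eq_one_iff.mp h1)
  set q := d.minFac with hq
  have hqp : q.Prime := Nat.minFac_prime hd1
  have hqd : q ∣ d := Nat.minFac_dvd d
  set f : G →* ℂˣ := f0 ^ (d / q) with hf
  have hdq : d / q ∣ d := Nat.div_dvd_of_dvd hqd
  have hdq0 : d / q ≠ 0 := by
    intro h0
    have := Nat.div_mul_cancel hqd
    rw [h0, zero_mul] at this
    exact hd0 this.symm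
  have hord : orderOf f = q := by
    rw [hf, orderOf_pow_of_dvd hdq0 hdq]
    exact Nat.div_div_self hqd hd0
  have hfq : f ^ q = 1 := by rw [← hord]; exact pow_orderOf_eq_one f
  have hf1 : f ≠ 1 := fun h1 => by
    rw [h1, orderOf_one] at hord
    exact hqp.one_lt.ne hord
  obtain ⟨x, hx⟩ : ∃ x : G, f x ≠ 1 := by
    by_contra hcon
    push Not at hcon
    exact hf1 (MonoidHom.ext hcon)
  have hxq : (f x) ^ q = 1 := by
    have := congrArg (fun F : G →* ℂˣ => F x) hfq
    simpa [MonoidHom.pow_apply] using this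
  have : Fact q.Prime := ⟨hqp⟩
  have hox : orderOf (f x) = q := orderOf_eq_prime hxq hx
  refine ⟨f, ?_⟩
  rw [Subgroup.index_ker]
  have hle : f.range ≤ rootsOfUnity q ℂ := by
    rintro y ⟨z, rfl⟩
    rw [mem_rootsOfUnity]
    have := congrArg (fun F : G →* ℂˣ => F z) hfq
    simpa [MonoidHom.pow_apply] using this
  have : NeZero q := ⟨hqp.ne_zero⟩
  have hfinr : Finite (rootsOfUnity q ℂ) := inferInstance
  have h1 : Nat.card f.range ≤ q := by
    calc Nat.card f.range ≤ Nat.card (rootsOfUnity q ℂ) := Subgroup.card_le_of_le hle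
      _ ≤ q := card_rootsOfUnity ℂ q
  have hfr : Finite f.range :=
    Finite.of_injective (Set.inclusion hle) (Set.inclusion_injective hle)
  have h2 : q ∣ Nat.card f.range := by
    have hz : Subgroup.zpowers (f x) ≤ f.range := by
      rw [Subgroup.zpowers_le]; exact ⟨x, rfl⟩
    have := Subgroup.card_dvd_of_le hz
    rwa [Nat.card_zpowers, hox] at this
  have h3 : 0 < Nat.card f.range := Nat.card_pos
  have : Nat.card f.range = q := le_antisymm h1 (Nat.le_of_dvd h3 h2)
  rw [this]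
  exact hqp

theorem irrKer_trivChar {G : Type*} [Group G] [Finite G] : irrKer (trivChar G) = ⊤ := by
  ext g
  simp only [mem_irrKer, trivChar_apply, Subgroup.mem_top]

theorem irrKer_linChar {G : Type*} [Group G] [Finite G] (f : G →* ℂˣ) : irrKer (linChar f) = f.ker := by
  ext g
  rw [mem_irrKer, linChar_apply, linChar_apply, map_one, MonoidHom.mem_ker]
  simp

theorem charDegree_linChar {G : Type*} [Group G] (f : G →* ℂˣ) :
    Cfsg.charDegree (linChar f).1 = 1 := by
  have h := irr_one_eq_charDegree (linChar f)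
  rw [linChar_one] at h
  exact_mod_cast h.symm

/-- A non-perfect finite group has an irreducible character of prime codegree. -/
theorem exists_prime_codeg {G : Type*} [Group G] [Finite G] (h : commutator G ≠ ⊤) :
    ∃ χ : Cfsg.IrrCharacter G, (codeg χ).Prime := by
  obtain ⟨f, hf⟩ := exists_hom_prime_index h
  refine ⟨linChar f, ?_⟩
  have h1 := codeg_mul_charDegree (linChar f)
  rw [charDegree_linChar, mul_one, irrKer_linChar] at h1
  rw [h1]
  exact hf

/-- In a perfect finite group, no irreducible character has prime codegree. -/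
theorem not_prime_codeg_of_perfect {G : Type*} [Group G] [Finite G] (hG : commutator G = ⊤)
    (χ : Cfsg.IrrCharacter G) : ¬ (codeg χ).Prime := by
  classical
  intro hp
  obtain ⟨p, hpdef⟩ : ∃ p, p = codeg χ := ⟨_, rfl⟩
  rw [← hpdef] at hp
  have hpf : Fact p.Prime := ⟨hp⟩
  obtain ⟨n, ρ, hirr, hρ, hn, h1, hdeg⟩ := irr_rep χ
  have hidx : p * n = (irrKer χ).index := by
    rw [← hdeg, hpdef]; exact codeg_mul_charDegree χ
  have hfinI : Finite (Cfsg.IrrCharacter G) := irr_finite G
  have hft := Fintype.ofFinite (Cfsg.IrrCharacter G)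
  have hsum := sum_sq_ker_nat G (irrKer χ)
  have hχne : χ ≠ trivChar G := by
    intro h
    rw [h, irrKer_trivChar, Subgroup.index_top] at hidx
    have : p = 1 := Nat.eq_one_of_mul_eq_one_right hidx
    exact hp.one_lt.ne' this
  have hlt : n < p := by
    have hle : (Cfsg.charDegree (trivChar G).1) ^ 2 + (Cfsg.charDegree χ.1) ^ 2 ≤
        (irrKer χ).index := by
      rw [← hsum]
      have hsub : ({trivChar G, χ} : Finset (Cfsg.IrrCharacter G)) ⊆
          Finset.univ.filter (fun χ' : Cfsg.IrrCharacter G => irrKer χ ≤ irrKer χ') := by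
        intro ψ hψ
        rw [Finset.mem_insert, Finset.mem_singleton] at hψ
        rw [Finset.mem_filter]
        refine ⟨Finset.mem_univ _, ?_⟩
        rcases hψ with rfl | rfl
        · rw [irrKer_trivChar]; exact le_top
        · exact le_rfl
      calc (Cfsg.charDegree (trivChar G).1) ^ 2 + (Cfsg.charDegree χ.1) ^ 2
          = ∑ χ' ∈ ({trivChar G, χ} : Finset (Cfsg.IrrCharacter G)),
              (Cfsg.charDegree χ'.1) ^ 2 := by rw [Finset.sum_pair hχne.symm]
        _ ≤ _ := Finset.sum_le_sum_of_subset hsub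
    rw [charDegree_trivChar, hdeg, ← hidx] at hle
    nlinarith
  have hpn : ¬ p ∣ n := fun hd => absurd (Nat.le_of_dvd hn hd) (not_le.mpr hlt)
  -- the quotient
  have hQperf : commutator (G ⧸ irrKer χ) = ⊤ := by
    have : Group.IsPerfect G := ⟨hG⟩
    exact Group.IsPerfect.commutator_eq_top
  have hQcard : Nat.card (G ⧸ irrKer χ) = p * n := by
    rw [hidx, Subgroup.index_eq_card]
  obtain ⟨P⟩ : Nonempty (Sylow p (G ⧸ irrKer χ)) := inferInstance
  have hPcard : Nat.card P = p := by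
    rw [Sylow.card_eq_multiplicity, hQcard, Nat.factorization_mul hp.ne_zero hn.ne']
    simp [hp.factorization_self, Nat.factorization_eq_zero_of_not_dvd hpn]
  have hPidx : (P : Subgroup (G ⧸ irrKer χ)).index = n := by
    have h := Subgroup.card_mul_index (P : Subgroup (G ⧸ irrKer χ))
    rw [hPcard, hQcard] at h
    exact Nat.eq_of_mul_eq_mul_left hp.pos h
  have hsyl1 : Nat.card (Sylow p (G ⧸ irrKer χ)) = 1 := by
    have hd := Sylow.card_dvd_index P
    rw [hPidx] at hd
    have hle := Nat.le_of_dvd hn hd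
    have hmod := card_sylow_modEq_one p (G ⧸ irrKer χ)
    have hpos : 0 < Nat.card (Sylow p (G ⧸ irrKer χ)) := Nat.card_pos
    unfold Nat.ModEq at hmod
    rw [Nat.mod_eq_of_lt (lt_of_le_of_lt hle hlt), Nat.mod_eq_of_lt hp.one_lt] at hmod
    exact hmod
  have hsub : Subsingleton (Sylow p (G ⧸ irrKer χ)) :=
    (Nat.card_eq_one_iff_unique.mp hsyl1).1
  have hPn : (P : Subgroup (G ⧸ irrKer χ)).Normal := Sylow.normal_of_subsingleton P
  -- a generator of P
  obtain ⟨g, hgP, hg1⟩ : ∃ g : G ⧸ irrKer χ, g ∈ (P : Subgroup (G ⧸ irrKer χ)) ∧ g ≠ 1 := by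
    by_contra hcon
    push Not at hcon
    have : (P : Subgroup (G ⧸ irrKer χ)) = ⊥ := by
      rw [Subgroup.eq_bot_iff_forall]; exact hcon
    rw [this, Subgroup.card_bot] at hPcard
    exact hp.one_lt.ne hPcard
  have hgp : g ^ p = 1 := by
    have := pow_card_eq_one' (G := (P : Subgroup (G ⧸ irrKer χ))) (x := ⟨g, hgP⟩)
    rw [hPcard] at this
    simpa using congrArg Subtype.val this
  have hog : orderOf g = p := orderOf_eq_prime hgp hg1
  have hzP : Subgroup.zpowers g = (P : Subgroup (G ⧸ irrKer χ)) := by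
    have hfP : Finite (P : Subgroup (G ⧸ irrKer χ)) := inferInstance
    refine Subgroup.eq_of_le_of_card_ge (Subgroup.zpowers_le.mpr hgP) ?_
    rw [Nat.card_zpowers, hog, hPcard]
  have hzn : (Subgroup.zpowers g).Normal := hzP ▸ hPn
  have hcent := central_of_normal_zpowers hQperf g hzn
  obtain ⟨z, rfl⟩ := QuotientGroup.mk_surjective g
  have hzK : z ∉ irrKer χ := fun hz => hg1 ((QuotientGroup.eq_one_iff z).mpr hz)
  have hcomm : ∀ a : G, ρ z ∘ₗ ρ a = ρ a ∘ₗ ρ z := by
    intro a
    have h2 : ((a * z : G) : G ⧸ irrKer χ) = ((z * a : G) : G ⧸ irrKer χ) := by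
      rw [QuotientGroup.mk_mul, QuotientGroup.mk_mul]; exact hcent a
    have h3 : (a * z)⁻¹ * (z * a) ∈ irrKer χ := QuotientGroup.eq.mp h2
    have h4 : ρ ((a * z)⁻¹ * (z * a)) = 1 := (mem_irrKer_iff_rep χ ρ hρ _).mp h3
    have h5 : ρ (z * a) = ρ (a * z) := by
      have : z * a = (a * z) * ((a * z)⁻¹ * (z * a)) := by group
      rw [this, map_mul, h4, mul_one]
    rw [map_mul, map_mul] at h5
    exact h5
  obtain ⟨c, hc⟩ := schur_scalar ρ (ρ z) hcomm
  have hn0 : (Pi.single (⟨0, hn⟩ : Fin n) (1 : ℂ) : Fin n → ℂ) ≠ 0 := by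
    intro h
    have := congrFun h ⟨0, hn⟩
    simp at this
  have hpowz : ∀ k : ℕ, ρ (z ^ k) = (c ^ k) • LinearMap.id := by
    intro k
    rw [map_pow, hc]
    ext v i
    simp [smul_pow]
  have hcp : c ^ p = 1 := by
    have hzp : z ^ p ∈ irrKer χ := by
      rw [← QuotientGroup.eq_one_iff, QuotientGroup.mk_pow]; exact hgp
    have h6 : ρ (z ^ p) = 1 := (mem_irrKer_iff_rep χ ρ hρ _).mp hzp
    rw [hpowz] at h6
    have h7 := congrFun (congrArg (fun T : (Fin n → ℂ) →ₗ[ℂ] (Fin n → ℂ) =>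
      T (Pi.single (⟨0, hn⟩ : Fin n) (1 : ℂ))) h6) ⟨0, hn⟩
    simpa using h7
  have hcn : c ^ n = 1 := by
    let D : G →* ℂˣ := (LinearMap.det.comp (ρ : G →* ((Fin n → ℂ) →ₗ[ℂ] (Fin n → ℂ)))).toHomUnits
    have hD : z ∈ D.ker := Abelianization.commutator_subset_ker D (hG ▸ Subgroup.mem_top z)
    have h8 : ((D z : ℂˣ) : ℂ) = LinearMap.det (ρ z) := rfl
    rw [MonoidHom.mem_ker] at hD
    rw [hD, hc, LinearMap.det_smul, Module.finrank_fin_fun] at h8
    simpa using h8.symm
  have hcop : Nat.Coprime p n := (Nat.Prime.coprime_iff_not_dvd hp).mpr hpn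
  have hc1 : c = 1 := by
    have := pow_gcd_eq_one.mpr ⟨hcp, hcn⟩
    rw [Nat.Coprime] at hcop
    rwa [hcop, pow_one] at this
  apply hzK
  rw [mem_irrKer_iff_rep χ ρ hρ, hc, hc1, one_smul]
  rfl

end Cfsg.Agent.H82
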