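import Cfsg.Agent.H17.PmLift

set_option autoImplicit false

/-!
Piece S2140-COCY of the team project S2140 (helper17).
-/

namespace Cfsg.Agent.H82.Pm

open Cfsg Cfsg.Geo Cfsg.Agent.H17.Mn Cfsg.Agent.H17.Pm
open scoped MatrixGroups Matrix

variable {ι : Type} [Fintype ι] [DecidableEq ι] {F : Type*} [Field F]

theorem lift_cocycle (H : Subgroup (GL ι F)) (c e : ι → F) (hc : c ≠ 0)
    (hNT : ∀ (x : ι → F) (φ : (ι → F) →ₗ[F] F) (hφ : φ x = 0),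
      H95.tvGL x φ hφ ∈ H → H95.tvGL x φ hφ = 1)
    (θ θ' : (ι → F) →ₗ[F] F) (hθc : θ c = 0) (hθe : θ e = 0) (hθ'c : θ' c = 0)
    (hθ'e : θ' e = 0) (hs : (θ + θ') e = 0) (ρ ρ' ρs : (ι → F) →ₗ[F] F)
    (h : IsLift H c (H95.tvGL e θ hθe) ρ) (h' : IsLift H c (H95.tvGL e θ' hθ'e) ρ')
    (hs' : IsLift H c (H95.tvGL e (θ + θ') hs) ρs) : ρs = ρ + ρ' - ρ' e • θ := by
  have hg : ((H95.tvGL e θ hθe : GL ι F) : Matrix ι ι F) *ᵥ c = (1 : F) • c := by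
    rw [H95.tvGL_mulVec, hθc, zero_smul, add_zero, one_smul]
  have h1 := isLift_mul H c (1 : F) hg h h'
  rw [tvGL_mul_form e θ θ' hθe hθ'e hs, comp_tvGL_inv e θ hθe ρ', one_smul] at h1
  have h2 := isLift_unique H c hc hNT hs' h1
  rw [h2]
  abel

end Cfsg.Agent.H82.Pm
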