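import Cfsg.Agent.H17.PmLift

set_option autoImplicit false

/-!
Piece S2140-FEQ of the team project S2140 (helper17).
-/

namespace Cfsg.Agent.H82.Pm

open Cfsg Cfsg.Geo Cfsg.Agent.H17.Mn Cfsg.Agent.H17.Pm
open scoped MatrixGroups Matrix

variable {ι : Type} [Fintype ι] [DecidableEq ι] {F : Type*} [Field F]

theorem lift_conj_eq (H : Subgroup (GL ι F)) (c e u : ι → F) (hc : c ≠ 0)
    (hNT : ∀ (x : ι → F) (φ : (ι → F) →ₗ[F] F) (hφ : φ x = 0),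
      H95.tvGL x φ hφ ∈ H → H95.tvGL x φ hφ = 1)
    (θ₀ : (ι → F) →ₗ[F] F) (h0c : θ₀ c = 0) (h0e : θ₀ e = 0) (h0u : θ₀ u = 0)
    (θ : (ι → F) →ₗ[F] F) (hθc : θ c = 0) (hθe : θ e = 0) (hθ' : (θ - θ u • θ₀) e = 0)
    (κ ρ ρ' : (ι → F) →ₗ[F] F) (hκ : IsLift H c (H95.tvGL u θ₀ h0u) κ)
    (hρ : IsLift H c (H95.tvGL e θ hθe) ρ)
    (hρ' : IsLift H c (H95.tvGL e (θ - θ u • θ₀) hθ') ρ') :
    ρ' = ρ - ρ u • θ₀ + κ e • (θ - θ u • θ₀) := by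
  -- `C τ(e,θ) = τ(e,θ') C`
  have hcomm : H95.tvGL u θ₀ h0u * H95.tvGL e θ hθe
      = H95.tvGL e (θ - θ u • θ₀) hθ' * H95.tvGL u θ₀ h0u := by
    apply H95.gl_ext
    intro v
    rw [mulVec_mul, mulVec_mul, H95.tvGL_mulVec, H95.tvGL_mulVec, H95.tvGL_mulVec,
      H95.tvGL_mulVec]
    simp only [map_add, map_smul, smul_eq_mul, h0e, h0u, mul_zero, add_zero,
      LinearMap.sub_apply, LinearMap.smul_apply]
    have : θ v - θ u * θ₀ v + θ₀ v * (θ u - 0) = θ v := by ring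
    rw [this]
    abel
  have hgC : ((H95.tvGL u θ₀ h0u : GL ι F) : Matrix ι ι F) *ᵥ c = (1 : F) • c := by
    rw [H95.tvGL_mulVec, h0c, zero_smul, add_zero, one_smul]
  have hθ'c : (θ - θ u • θ₀) c = 0 := by
    rw [LinearMap.sub_apply, LinearMap.smul_apply, hθc, h0c, smul_zero, sub_zero]
  have hgT : ((H95.tvGL e (θ - θ u • θ₀) hθ' : GL ι F) : Matrix ι ι F) *ᵥ c = (1 : F) • c := by
    rw [H95.tvGL_mulVec, hθ'c, zero_smul, add_zero, one_smul]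
  have h1 := isLift_mul H c (1 : F) hgC hκ hρ
  rw [comp_tvGL_inv u θ₀ h0u ρ, one_smul, hcomm] at h1
  have h2 := isLift_mul H c (1 : F) hgT hρ' hκ
  rw [comp_tvGL_inv e (θ - θ u • θ₀) hθ' κ, one_smul] at h2
  have h3 := isLift_unique H c hc hNT h2 h1
  -- `ρ' + (κ - κ e • θ') = κ + (ρ - ρ u • θ₀)`
  have h4 : ρ' = κ + (ρ - ρ u • θ₀) - (κ - κ e • (θ - θ u • θ₀)) := eq_sub_of_add_eq h3
  rw [h4]
  abel

end Cfsg.Agent.H82.Pm
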