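import Cfsg.Agent.H17.PmLift
import Cfsg.Agent.H82.PmCocy

set_option autoImplicit false

/-!
Piece S2140-LAE of the team project S2140 (helper17).
-/

namespace Cfsg.Agent.H82.Pm

open Cfsg Cfsg.Geo Cfsg.Agent.H17.Mn Cfsg.Agent.H17.Pm
open scoped MatrixGroups Matrix

variable {ι : Type} [Fintype ι] [DecidableEq ι] {F : Type*} [Field F]

/-- For independent `c, e` in a space of dimension at least `4` and a form `θ ≠ 0`, there is a
form vanishing at `c` and `e` that is not a multiple of `θ`. -/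
theorem exists_form_not_span (hn : 4 ≤ Fintype.card ι) (c e : ι → F)
    (hce : LinearIndependent F ![c, e]) (θ : (ι → F) →ₗ[F] F) (hθ0 : θ ≠ 0) :
    ∃ θ' : (ι → F) →ₗ[F] F, θ' c = 0 ∧ θ' e = 0 ∧ θ' ∉ Submodule.span F {θ} := by
  classical
  have hW : Module.finrank F (Submodule.span F (Set.range ![c, e])) = 2 := by
    rw [finrank_span_eq_card hce]; simp
  have hdual := Subspace.finrank_add_finrank_dualAnnihilator_eq
    (Submodule.span F (Set.range ![c, e]))
  have hV : Module.finrank F (ι → F) = Fintype.card ι := Module.finrank_fintype_fun_eq_card F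
  have hann : 2 ≤ Module.finrank F (Submodule.span F (Set.range ![c, e])).dualAnnihilator := by
    omega
  have hnle : ¬ (Submodule.span F (Set.range ![c, e])).dualAnnihilator
      ≤ Submodule.span F {θ} := by
    intro hle
    have h1 := Submodule.finrank_mono hle
    have h2 : Module.finrank F (Submodule.span F {θ}) = 1 := finrank_span_singleton hθ0
    have h3 : 2 ≤ 1 := le_trans hann (le_of_le_of_eq h1 h2)
    exact absurd h3 (by norm_num)
  obtain ⟨θ', hθ'W, hθ'n⟩ := SetLike.not_le_iff_exists.1 hnle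
  rw [Submodule.mem_dualAnnihilator] at hθ'W
  exact ⟨θ', hθ'W c (Submodule.subset_span ⟨0, rfl⟩), hθ'W e (Submodule.subset_span ⟨1, rfl⟩),
    hθ'n⟩

theorem lift_apply_e (hn : 4 ≤ Fintype.card ι) (H : Subgroup (GL ι F)) (c e : ι → F)
    (hce : LinearIndependent F ![c, e])
    (hL : ∀ g ∈ specialLinear ι F, ∃ φ, IsLift H c g φ)
    (hNT : ∀ (x : ι → F) (φ : (ι → F) →ₗ[F] F) (hφ : φ x = 0),
      H95.tvGL x φ hφ ∈ H → H95.tvGL x φ hφ = 1)
    (θ : (ι → F) →ₗ[F] F) (hθc : θ c = 0) (hθe : θ e = 0) (ρ : (ι → F) →ₗ[F] F)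
    (h : IsLift H c (H95.tvGL e θ hθe) ρ) : ρ e = 0 := by
  have hc : c ≠ 0 := by
    have := hce.ne_zero 0
    simpa using this
  by_cases hθ0 : θ = 0
  · subst hθ0
    have h1 : IsLift H c (H95.tvGL e (0 : (ι → F) →ₗ[F] F) hθe) 0 := by
      rw [tvGL_zero_right]; exact isLift_one H c
    have h2 := isLift_unique H c hc hNT h h1
    rw [h2]; simp
  · obtain ⟨θ', hθ'c, hθ'e, hθ'span⟩ := exists_form_not_span hn c e hce θ hθ0
    have hs : (θ + θ') e = 0 := by rw [LinearMap.add_apply, hθe, hθ'e, add_zero]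
    have hs2 : (θ' + θ) e = 0 := by rw [LinearMap.add_apply, hθe, hθ'e, add_zero]
    obtain ⟨ρ', hρ'⟩ := hL _ (H95.tvGL_mem_specialLinear e θ' hθ'e)
    obtain ⟨ρs, hρs⟩ := hL _ (H95.tvGL_mem_specialLinear e (θ + θ') hs)
    have hρs2 : IsLift H c (H95.tvGL e (θ' + θ) hs2) ρs := by
      have e1 : H95.tvGL e (θ' + θ) hs2 = H95.tvGL e (θ + θ') hs := by
        congr 1; exact add_comm _ _
      rw [e1]; exact hρs
    have c1 := lift_cocycle H c e hc hNT θ θ' hθc hθe hθ'c hθ'e hs ρ ρ' ρs h hρ' hρs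
    have c2 := lift_cocycle H c e hc hNT θ' θ hθ'c hθ'e hθc hθe hs2 ρ' ρ ρs hρ' h hρs2
    have h3 : ρ' e • θ = ρ e • θ' := by
      have h5 := c1.symm.trans c2
      have h4 : ρ' e • θ = ρ + ρ' - (ρ' + ρ - ρ e • θ') := by rw [← h5]; abel
      rw [h4]; abel
    by_contra hne
    apply hθ'span
    rw [Submodule.mem_span_singleton]
    refine ⟨(ρ e)⁻¹ * ρ' e, ?_⟩
    rw [mul_smul, h3, smul_smul, inv_mul_cancel₀ hne, one_smul]

end Cfsg.Agent.H82.Pm
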