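import Cfsg.Agent.H17.PmLift

set_option autoImplicit false

/-!
Piece S2140-NOSM of the team project S2140 (helper17).
-/

namespace Cfsg.Agent.H82.Pm

open Cfsg Cfsg.Geo Cfsg.Agent.H17.Mn Cfsg.Agent.H17.Pm
open scoped MatrixGroups Matrix

variable {ι : Type} [Fintype ι] [DecidableEq ι] {F : Type*} [Field F]

theorem lift_not_smul (H : Subgroup (GL ι F)) (c e : ι → F) (hce : LinearIndependent F ![c, e])
    (hNT : ∀ (x : ι → F) (φ : (ι → F) →ₗ[F] F) (hφ : φ x = 0),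
      H95.tvGL x φ hφ ∈ H → H95.tvGL x φ hφ = 1)
    (θ : (ι → F) →ₗ[F] F) (hθ0 : θ ≠ 0) (hθc : θ c = 0) (hθe : θ e = 0) (t : F)
    (h : IsLift H c (H95.tvGL e θ hθe) (t • θ)) : False := by
  obtain ⟨h1, h2⟩ := h
  have h1' : θ (t • c) = 0 := by rw [map_smul, hθc, smul_zero]
  have h3 : θ (t • c + e) = 0 := by rw [map_add, h1', hθe, add_zero]
  have e1 : H95.tvGL c (t • θ) h1 * H95.tvGL e θ hθe = H95.tvGL (t • c + e) θ h3 := by
    rw [← tvGL_smul t c θ h1' h1, tvGL_mul_centre (t • c) e θ h1' hθe h3]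
  rw [e1] at h2
  have h4 := hNT _ _ _ h2
  have hne : t • c + e ≠ 0 := by
    intro h0
    have := (LinearIndependent.pair_iff.1 hce) t 1 (by rw [one_smul]; exact h0)
    exact one_ne_zero this.2
  exact hθ0 ((tvGL_eq_one_iff _ hne θ h3).1 h4)

end Cfsg.Agent.H82.Pm
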