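import Cfsg.Agent.H33.R3.Defs
import Cfsg.Agent.H22.SRG100b
import Cfsg.Agent.S1586

set_option autoImplicit false

/-!
Piece S1666-AUT of the team project S1666 (helper33): a graph with the parameters
`(100, 22, 0, 6)` has exactly 88704000 automorphisms.
-/

namespace Cfsg.Agent.H82.R3

open Cfsg.Agent.H33.R3

universe u

/-- Transport of the automorphism group along a graph isomorphism. -/
def autCongr {V W : Type*} {Γ : SimpleGraph V} {Δ : SimpleGraph W} (e : Γ ≃g Δ) :
    (Γ ≃g Γ) ≃ (Δ ≃g Δ) where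
  toFun φ := (e.symm.trans φ).trans e
  invFun ψ := (e.trans ψ).trans e.symm
  left_inv φ := by
    ext x
    simp
  right_inv ψ := by
    ext x
    simp

theorem aut : StAut.{u} := by
  intro V _ Γ h
  classical
  have hne : Nonempty V := by
    rw [← Fintype.card_pos_iff, h.card]
    norm_num
  obtain ⟨v₀⟩ := hne
  rw [Nat.card_congr (autCongr (Cfsg.Agent.H22.SRG.isoPB h v₀))]
  exact Cfsg.Agent.S1586.result (Cfsg.Agent.H22.SRG.card_Pt h v₀)
    (Cfsg.Agent.H22.SRG.steiner h v₀)

end Cfsg.Agent.H82.R3
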