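import Cfsg.Agent.H33.R3.Defs

set_option autoImplicit false

/-!
Piece S1666-TWO of the team project S1666 (helper33): the stabiliser of `a` and `b` is
transitive on the remaining 21 neighbours of `a`.
-/

namespace Cfsg.Agent.H82.R3

open Equiv Cfsg.Agent.H33.R3

universe u

theorem two (hT : StT) : StTwo.{u} := by
  intro Ω _ G a b c hyp M P _ _ _ hP hM hTr ⟨e⟩ q q' hq hq' hqb hq'b
  classical
  have hsmul : ∀ (t : ↥(MulAction.stabilizer (↥G) a)) (x : Ω),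
      t • x = ((t : ↥G) : Perm Ω) x := fun _ _ => rfl
  have hta : ∀ t : ↥(MulAction.stabilizer (↥G) a), ((t : ↥G) : Perm Ω) a = a := fun t => t.2
  have horb : MulAction.orbit ↥(MulAction.stabilizer (↥G) a) b = {y | Rel G a b a y} := by
    ext y
    constructor
    · rintro ⟨s, rfl⟩
      exact ⟨((s : ↥G) : Perm Ω), (s : ↥G).2, hta s, rfl⟩
    · rintro ⟨g, hg, hga, rfl⟩
      exact ⟨⟨⟨g, hg⟩, hga⟩, rfl⟩
  have hKidx : (MulAction.stabilizer ↥(MulAction.stabilizer (↥G) a) b).index = 22 := by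
    rw [MulAction.index_stabilizer, horb]
    exact hyp.nb
  have hK'idx : ((MulAction.stabilizer ↥(MulAction.stabilizer (↥G) a) b).map
      (e : ↥(MulAction.stabilizer (↥G) a) →* M)).index = 22 := by
    rw [Subgroup.index_map_equiv]
    exact hKidx
  obtain ⟨p₀, hp₀⟩ := hT hP hM hTr _ hK'idx
  have hmem : ∀ t : ↥(MulAction.stabilizer (↥G) a), e t • p₀ = p₀ ↔
      ((t : ↥G) : Perm Ω) b = b := by
    intro t
    rw [← MulAction.mem_stabilizer_iff, ← hp₀]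
    constructor
    · rintro ⟨k, hk, hkt⟩
      have hkt' : k = t := e.injective hkt
      rw [← hkt']
      exact hk
    · intro ht
      exact ⟨t, ht, rfl⟩
  obtain ⟨g, hg, hga, rfl⟩ := hq
  obtain ⟨g', hg', hg'a, rfl⟩ := hq'
  have hsp : e ⟨⟨g, hg⟩, hga⟩ • p₀ ≠ p₀ := fun h => hqb ((hmem _).mp h)
  have hs'p : e ⟨⟨g', hg'⟩, hg'a⟩ • p₀ ≠ p₀ := fun h => hq'b ((hmem _).mp h)
  have hthird : ∀ x y : P, ∃ r : P, r ≠ x ∧ r ≠ y := by
    intro x y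
    by_contra h
    push Not at h
    have h1 : (Finset.univ : Finset P) ⊆ {x, y} := by
      intro r _
      by_cases hrx : r = x
      · simp [hrx]
      · simp [h r hrx]
    have h2 := Finset.card_le_card h1
    rw [Finset.card_univ, hP] at h2
    have h3 : ({x, y} : Finset P).card ≤ 2 := Finset.card_le_two
    omega
  obtain ⟨r, hr1, hr2⟩ := hthird p₀ (e ⟨⟨g, hg⟩, hga⟩ • p₀)
  obtain ⟨r', hr'1, hr'2⟩ := hthird p₀ (e ⟨⟨g', hg'⟩, hg'a⟩ • p₀)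
  obtain ⟨κ, hκ1, hκ2, -⟩ := hTr p₀ (e ⟨⟨g, hg⟩, hga⟩ • p₀) r p₀ (e ⟨⟨g', hg'⟩, hg'a⟩ • p₀) r'
    (Ne.symm hsp) (Ne.symm hr1) (Ne.symm hr2) (Ne.symm hs'p) (Ne.symm hr'1) (Ne.symm hr'2)
  obtain ⟨k, hkκ⟩ := e.surjective κ
  have hkb : ((k : ↥G) : Perm Ω) b = b := by
    rw [← hmem, hkκ]
    exact hκ1
  have h3 : e ((⟨⟨g', hg'⟩, hg'a⟩ : ↥(MulAction.stabilizer (↥G) a))⁻¹ * k * ⟨⟨g, hg⟩, hga⟩) • p₀ =
      p₀ := by
    rw [map_mul, map_mul, map_inv, mul_smul, mul_smul, hkκ, hκ2, inv_smul_smul]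
  have h4 := (hmem _).mp h3
  have h5 : g'⁻¹ (((k : ↥G) : Perm Ω) (g b)) = b := h4
  refine ⟨((k : ↥G) : Perm Ω), (k : ↥G).2, hta k, hkb, ?_⟩
  have h6 := congrArg (fun x => g' x) h5
  simpa using h6

end Cfsg.Agent.H82.R3
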