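import Cfsg.Agent.H52.SrDefs
import Cfsg.Agent.H82.JtDich

/-!
# SR-PERM: a subgroup generated by elements of odd order, normalizing every member of a family
of four-groups generating `V`, with `[V, A]` of order 4, has `[V, A]` in the family (abstract)
-/

set_option autoImplicit false
open Cfsg

namespace Cfsg.Agent.H82.Sr

universe u

/-- An element of odd order is a power of its square. -/
theorem perm_odd_pow {X : Type u} [Group X] (y : X) (ho : Odd (orderOf y)) :
    ∃ n : ℕ, (y * y) ^ n = y := by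
  obtain ⟨k, hk⟩ := ho
  refine ⟨k + 1, ?_⟩
  have h2 : 2 * (k + 1) = orderOf y + 1 := by omega
  calc (y * y) ^ (k + 1) = y ^ (orderOf y + 1) := by rw [← pow_two, ← pow_mul, h2]
    _ = y := by rw [pow_succ, pow_orderOf_eq_one, one_mul]

/-- An element of odd order normalizing a group of order 4 and centralizing a nontrivial
element of it centralizes it. -/
theorem perm_fix {X : Type u} [Group X] (H : Subgroup X) (hc : Nat.card ↥H = 4) (y : X)
    (hyo : Odd (orderOf y)) (hσ : ∀ x ∈ H, y * x * y⁻¹ ∈ H) (w : X) (hw : w ∈ H) (hw1 : w ≠ 1)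
    (hwy : w * y = y * w) (x₀ : X) (hx₀ : x₀ ∈ H) : x₀ * y = y * x₀ := by
  by_contra hx₀y
  have hx01 : x₀ ≠ 1 := by rintro rfl; exact hx₀y (by simp)
  have hx0w : x₀ ≠ w := by rintro rfl; exact hx₀y hwy
  obtain ⟨x₁, hx₁⟩ : ∃ x₁, x₁ = y * x₀ * y⁻¹ := ⟨_, rfl⟩
  have hx1mem : x₁ ∈ H := hx₁ ▸ hσ x₀ hx₀
  have hinj : ∀ a b : X, y * a * y⁻¹ = y * b * y⁻¹ → a = b := by
    intro a b h
    have := congrArg (fun t => y⁻¹ * t * y) h
    simpa [mul_assoc] using this
  have hx10 : x₁ ≠ x₀ := by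
    intro h
    apply hx₀y
    have : y * x₀ = x₀ * y := by
      rw [hx₁] at h
      calc y * x₀ = (y * x₀ * y⁻¹) * y := by group
        _ = x₀ * y := by rw [h]
    exact this.symm
  have hx11 : x₁ ≠ 1 := by
    intro h
    apply hx01
    apply hinj
    rw [← hx₁, h]; group
  have hwfix : y * w * y⁻¹ = w := by
    rw [← hwy]; group
  have hx1w : x₁ ≠ w := by
    intro h
    apply hx0w
    apply hinj
    rw [← hx₁, h, hwfix]
  have hx2mem : y * x₁ * y⁻¹ ∈ H := hσ x₁ hx1mem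
  rcases Cfsg.Agent.H82.Jt.four_elems H hc w x₀ x₁ hw hx₀ hx1mem hw1 hx01 hx11
    (Ne.symm hx0w) (Ne.symm hx1w) (Ne.symm hx10) _ hx2mem with h | h | h | h
  · exact hx11 (hinj x₁ 1 (by rw [h]; group))
  · exact hx1w (hinj x₁ w (by rw [h, hwfix]))
  · apply hx₀y
    have hyy : (y * y) * x₀ = x₀ * (y * y) := by
      rw [hx₁] at h
      calc (y * y) * x₀ = (y * (y * x₀ * y⁻¹) * y⁻¹) * (y * y) := by group
        _ = x₀ * (y * y) := by rw [h]
    obtain ⟨n, hn⟩ := perm_odd_pow y hyo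
    have hcomm : Commute (y * y) x₀ := hyy
    have h3 := hcomm.pow_left n
    rw [hn] at h3
    exact h3.eq.symm
  · exact hx10 (hinj x₁ x₀ (h.trans hx₁))

theorem perm : Cfsg.Agent.H52.Sr.StPerm.{u} := by
  intro X _ _ ι V W A hsup hcard hgen hnorm hVA
  have h1 : ∃ i, ∃ y ∈ A, Odd (orderOf y) ∧ ∃ w ∈ W i, w * y ≠ y * w := by
    by_contra hcon
    push_neg at hcon
    have hle : V ≤ Subgroup.centralizer (A : Set X) := by
      rw [← hsup]
      refine iSup_le fun i => ?_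
      rw [Subgroup.le_centralizer_iff, ← hgen, Subgroup.closure_le]
      rintro g ⟨hgA, hgo⟩
      rw [SetLike.mem_coe, Subgroup.mem_centralizer_iff]
      intro w hw
      exact hcon i g hgA hgo w hw
    have hbot : ⁅V, A⁆ = ⊥ := (Subgroup.commutator_eq_bot_iff_le_centralizer).mpr hle
    rw [hbot] at hVA
    simp at hVA
  obtain ⟨i, y, hyA, hyo, x₀, hx₀, hx₀y⟩ := h1
  have hyN : y ∈ Subgroup.normalizer (W i : Set X) := hnorm i hyA
  have hσ : ∀ x ∈ W i, y * x * y⁻¹ ∈ W i := fun x hx =>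
    (Subgroup.mem_normalizer_iff.mp hyN x).mp hx
  have h2 : ∀ w ∈ W i, w * y = y * w → w = 1 := by
    intro w hw hwy
    by_contra hw1
    exact hx₀y (perm_fix (W i) (hcard i) y hyo hσ w hw hw1 hwy x₀ hx₀)
  have hc : ∀ x ∈ W i, x * y * x⁻¹ * y⁻¹ ∈ W i := by
    intro x hx
    have : x * y * x⁻¹ * y⁻¹ = x * (y * x⁻¹ * y⁻¹) := by group
    rw [this]
    exact (W i).mul_mem hx (hσ _ ((W i).inv_mem hx))
  let c : ↥(W i) → ↥(W i) := fun x => ⟨(x : X) * y * (x : X)⁻¹ * y⁻¹, hc x x.2⟩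
  have hcinj : Function.Injective c := by
    intro a b hab
    have h : (a : X) * y * (a : X)⁻¹ * y⁻¹ = (b : X) * y * (b : X)⁻¹ * y⁻¹ :=
      congrArg Subtype.val hab
    have h3 : (a : X) * y * (a : X)⁻¹ = (b : X) * y * (b : X)⁻¹ := mul_right_cancel h
    have h' : ((b : X)⁻¹ * a) * y = y * ((b : X)⁻¹ * a) := by
      calc ((b : X)⁻¹ * a) * y = (b : X)⁻¹ * ((a : X) * y * (a : X)⁻¹) * a := by group
        _ = (b : X)⁻¹ * ((b : X) * y * (b : X)⁻¹) * a := by rw [h3]
        _ = y * ((b : X)⁻¹ * a) := by group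
    have h4 := h2 _ ((W i).mul_mem ((W i).inv_mem b.2) a.2) h'
    exact Subtype.ext (inv_mul_eq_one.mp h4).symm
  have hcsurj : Function.Surjective c := Finite.injective_iff_surjective.mp hcinj
  have hle : W i ≤ ⁅V, A⁆ := by
    intro x hx
    obtain ⟨a, ha⟩ := hcsurj ⟨x, hx⟩
    have hax : (a : X) * y * (a : X)⁻¹ * y⁻¹ = x := congrArg Subtype.val ha
    rw [← hax, ← commutatorElement_def]
    have haV : (a : X) ∈ V := hsup ▸ (le_iSup W i) a.2
    exact Subgroup.commutator_mem_commutator haV hyA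
  refine ⟨i, ?_⟩
  exact (Subgroup.eq_of_le_of_card_ge hle (by rw [hVA, hcard i])).symm

example : Cfsg.Agent.H52.Sr.StPerm.{u} := perm

end Cfsg.Agent.H82.Sr
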