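import Cfsg.Agent.H74.TsDefs
import Cfsg.Agent.H82.JxCore
import Cfsg.Agent.H12.JxSq
import Cfsg.Agent.H53.JxFun
import Cfsg.Agent.H51.JcNORM
import Cfsg.Agent.H14.Thompson

/-! TS-W4 (helper82, for helper74's S2948): `|W_K| ∈ {1, 4}` and `W_K` has exponent 2, from the
JX core `Cfsg.Agent.H82.Jx.w_core` with `P := O₂(K)`. -/

set_option autoImplicit false
open Cfsg
open scoped commutatorElement

namespace Cfsg.Agent.H82.Ts

universe u

theorem w4 : Cfsg.Agent.H74.Ts.StW4.{u} := by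
  intro G _ _ T K hT2 h3 hPT hKJ
  obtain ⟨hPK, hKnP, hP2⟩ := Cfsg.Agent.H51.Jc.pCoreOf_facts K
  have hJN : thompsonSubgroupOf 2 T ≤ Subgroup.normalizer (K : Set G) :=
    Cfsg.Agent.H51.Jc.le_normalizer_of_comm hKJ
  have hNP : Subgroup.normalizer (K : Set G) ≤ Subgroup.normalizer (pCoreOf 2 K : Set G) :=
    Cfsg.Agent.H31.X.H54.normalizer_le_normalizer_pCoreOf K
  have hNPc : ∀ g ∈ Subgroup.normalizer (K : Set G), ∀ p ∈ pCoreOf 2 K, g * p * g⁻¹ ∈ pCoreOf 2 K :=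
    fun g hg p hp => (Subgroup.mem_normalizer_iff.mp (hNP hg) p).mp hp
  have hNKc : ∀ g ∈ Subgroup.normalizer (K : Set G), ∀ k ∈ K, g * k * g⁻¹ ∈ K :=
    fun g hg k hk => (Subgroup.mem_normalizer_iff.mp hg k).mp hk
  have hPn : ∀ k ∈ K, ∀ p ∈ pCoreOf 2 K, k * p * k⁻¹ ∈ pCoreOf 2 K :=
    fun k hk => hNPc k (Subgroup.le_normalizer hk)
  have hexp : ∀ w ∈ wOf K, w * w = 1 := by
    intro w hw
    exact Cfsg.Agent.H82.Jx.core_Z_sq (pCoreOf 2 K) w
      (Cfsg.Agent.H82.Jx.core_W_le _ K (Cfsg.Agent.H82.Jx.core_KZ K (pCoreOf 2 K) hPn) hw)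
  refine ⟨?_, hexp⟩
  -- the subgroup of elements of N(K) centralizing K / P
  let S₀ : Subgroup G :=
    { carrier := {g | g ∈ Subgroup.normalizer (K : Set G) ∧
        ∀ k ∈ K, g * k * g⁻¹ * k⁻¹ ∈ pCoreOf 2 K}
      mul_mem' := by
        rintro g h ⟨hg1, hg2⟩ ⟨hh1, hh2⟩
        refine ⟨Subgroup.mul_mem _ hg1 hh1, ?_⟩
        intro k hk
        have e : g * h * k * (g * h)⁻¹ * k⁻¹ =
            (g * (h * k * h⁻¹ * k⁻¹) * g⁻¹) * (g * k * g⁻¹ * k⁻¹) := by group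
        rw [e]
        exact Subgroup.mul_mem _ (hNPc g hg1 _ (hh2 k hk)) (hg2 k hk)
      one_mem' := by
        refine ⟨Subgroup.one_mem _, ?_⟩
        intro k hk
        simp
      inv_mem' := by
        rintro g ⟨hg1, hg2⟩
        refine ⟨Subgroup.inv_mem _ hg1, ?_⟩
        intro k hk
        have e : g⁻¹ * k * g⁻¹⁻¹ * k⁻¹ = g⁻¹ * (g * k * g⁻¹ * k⁻¹)⁻¹ * g⁻¹⁻¹ := by group
        rw [e]
        exact hNPc g⁻¹ (Subgroup.inv_mem _ hg1) _ (Subgroup.inv_mem _ (hg2 k hk)) }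
  -- some largest elementary abelian subgroup is not inside S₀
  have hex : ∃ A' ∈ maxElementaryAbelianSubgroups 2 ↥T, ¬ A'.map T.subtype ≤ S₀ := by
    by_contra hcon
    push_neg at hcon
    have hJS : thompsonSubgroupOf 2 T ≤ S₀ := by
      unfold thompsonSubgroupOf thompsonSubgroup
      rw [Subgroup.map_le_iff_le_comap]
      apply sSup_le
      intro A' hA'
      rw [← Subgroup.map_le_iff_le_comap]
      exact hcon A' hA'
    have hc : ⁅K, thompsonSubgroupOf 2 T⁆ ≤ pCoreOf 2 K := by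
      rw [Subgroup.commutator_le]
      intro k hk j hj
      have h1 := (hJS hj).2 k hk
      have e : ⁅k, j⁆ = (j * k * j⁻¹ * k⁻¹)⁻¹ := by rw [commutatorElement_def]; group
      rw [e]
      exact Subgroup.inv_mem _ h1
    have hKP : K ≤ pCoreOf 2 K := by
      rw [hKJ] at hc
      exact hc
    have : (pCoreOf 2 K).relIndex K = 1 := Subgroup.relIndex_eq_one.mpr hKP
    omega
  obtain ⟨A', hA', hnot⟩ := hex
  have hAJ : A'.map T.subtype ≤ thompsonSubgroupOf 2 T := by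
    unfold thompsonSubgroupOf thompsonSubgroup
    exact Subgroup.map_mono (le_sSup hA')
  have hAN : A'.map T.subtype ≤ Subgroup.normalizer (K : Set G) := hAJ.trans hJN
  obtain ⟨a, haA, haS⟩ := SetLike.not_le_iff_exists.mp hnot
  have haN := hAN haA
  have hax0 : ∃ k ∈ K, a * k * a⁻¹ * k⁻¹ ∉ pCoreOf 2 K := by
    by_contra hcon
    push_neg at hcon
    exact haS ⟨haN, hcon⟩
  obtain ⟨x, hxK, hxa⟩ := hax0
  have hxP : x ∉ pCoreOf 2 K := by
    intro h
    apply hxa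
    exact Subgroup.mul_mem _ (hNPc a haN x h) (Subgroup.inv_mem _ h)
  obtain ⟨-, hcos⟩ := Cfsg.Agent.H82.Jx.core_cosets K (pCoreOf 2 K) hPn h3 x hxK hxP
  have hax : a * x * a⁻¹ * x ∈ pCoreOf 2 K := by
    rcases hcos (a * x * a⁻¹) (hNKc a haN x hxK) with h | h | h
    · exfalso
      apply hxP
      have := hNPc a⁻¹ (Subgroup.inv_mem _ haN) _ h
      have e : a⁻¹ * (a * x * a⁻¹) * a⁻¹⁻¹ = x := by group
      rwa [e] at this
    · exact absurd h hxa
    · exact h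
  have hAel : IsElementaryAbelian 2 (A'.map T.subtype) := Cfsg.Agent.H14.elemAb_map' hA'.1 _
  have hAmax : ∀ B : Subgroup G, B ≤ T → IsElementaryAbelian 2 B →
      Nat.card ↥B ≤ Nat.card ↥(A'.map T.subtype) := by
    intro B hBT hB
    have h1 := hA'.2 (B.subgroupOf T)
      (Cfsg.Agent.H14.elemAb_comap' hB T.subtype T.subtype_injective)
    rw [Subgroup.card_subtype]
    rw [Nat.card_congr (Subgroup.subgroupOfEquivOfLe hBT).toEquiv] at h1
    exact h1
  have hcore := Cfsg.Agent.H82.Jx.w_core Cfsg.Agent.H12.Jx.sq Cfsg.Agent.H53.Jx.fn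
    T (A'.map T.subtype) K (pCoreOf 2 K) a x hPn h3 hPT (Subgroup.map_subtype_le _) hAel hAmax
    (fun b hb => hNKc b (hAN hb)) (fun b hb => hNPc b (hAN hb)) haA hxK hxP hax
  rcases hcore with h | h
  · right; exact h
  · left; exact h

example : Cfsg.Agent.H74.Ts.StW4.{u} := w4

end Cfsg.Agent.H82.Ts

#print axioms Cfsg.Agent.H82.Ts.w4
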