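import Cfsg.Agent.H25.SxSylJ

/-!
# Frattini argument for the Thompson subgroup (S2950 / UQ tool)

`T` a Sylow 2-subgroup of `X`, `N ≤ X` normalized by `X` with `J(T) ≤ N`: then `X = N · N_X(J(T))`.
-/

set_option autoImplicit false
open Cfsg
open scoped Pointwise

namespace Cfsg.Agent.H82.Uq

universe u

/-- Frattini for `J(T)`: every `x ∈ X` is `n * y` with `n ∈ N`, `y ∈ X ∩ N_G(J(T))`. -/
theorem frattini_J {G : Type u} [Group G] [Finite G] (T X N : Subgroup G) (hT : IsSylowTwoIn T X)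
    (hNX : N ≤ X) (hnorm : X ≤ Subgroup.normalizer (N : Set G))
    (hJN : thompsonSubgroupOf 2 T ≤ N) (x : G) (hx : x ∈ X) :
    ∃ n ∈ N, ∃ y ∈ X, y ∈ Subgroup.normalizer (thompsonSubgroupOf 2 T : Set G) ∧ x = n * y := by
  classical
  haveI : Fact (Nat.Prime 2) := ⟨Nat.prime_two⟩
  have hJT : thompsonSubgroupOf 2 T ≤ T := by
    unfold Cfsg.thompsonSubgroupOf
    exact Subgroup.map_subtype_le _
  have hJ2 : IsPGroup 2 ↥(thompsonSubgroupOf 2 T) := hT.2.1.to_le hJT
  have hJN2 : IsPGroup 2 ↥((thompsonSubgroupOf 2 T).subgroupOf N) := hJ2.comap_subtype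
  obtain ⟨P, hP⟩ := hJN2.exists_le_sylow
  have hQN : (P : Subgroup ↥N).map N.subtype ≤ N := Subgroup.map_subtype_le _
  have hQ2 : IsPGroup 2 ↥((P : Subgroup ↥N).map N.subtype) := P.isPGroup'.map N.subtype
  have hJQ : thompsonSubgroupOf 2 T ≤ (P : Subgroup ↥N).map N.subtype := by
    intro j hj
    exact ⟨⟨j, hJN hj⟩, hP (Subgroup.mem_subgroupOf.mpr hj), rfl⟩
  have hJQeq : thompsonSubgroupOf 2 ((P : Subgroup ↥N).map N.subtype) = thompsonSubgroupOf 2 T :=
    Cfsg.Agent.H25.Sx.sylJ T X _ hT (hQN.trans hNX) hQ2 hJQ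
  have hxN : x ∈ Subgroup.normalizer (N : Set G) := hnorm hx
  have hQxN : ((P : Subgroup ↥N).map N.subtype).map (MulAut.conj x).toMonoidHom ≤ N := by
    rintro _ ⟨q, hq, rfl⟩
    exact (Subgroup.mem_normalizer_iff.mp hxN q).mp (hQN hq)
  have hQx2 : IsPGroup 2 ↥(((P : Subgroup ↥N).map N.subtype).map (MulAut.conj x).toMonoidHom) :=
    hQ2.map _
  obtain ⟨P'', hP''⟩ := (hQx2.comap_subtype :
    IsPGroup 2 ↥((((P : Subgroup ↥N).map N.subtype).map (MulAut.conj x).toMonoidHom).subgroupOf N)).exists_le_sylow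
  obtain ⟨n, hn⟩ := MulAction.exists_smul_eq ↥N P'' P
  -- `y := n * x` normalizes `Q`
  have hcard1 : Nat.card ↥((((P : Subgroup ↥N).map N.subtype).map
      (MulAut.conj x).toMonoidHom).subgroupOf N) = Nat.card ↥(P : Subgroup ↥N) := by
    rw [Nat.card_congr (Subgroup.subgroupOfEquivOfLe hQxN).toEquiv, Cfsg.Agent.H25.Sx.card_map_conj,
      Subgroup.card_map_of_injective N.subtype_injective]
  have hcard2 : Nat.card ↥(P'' : Subgroup ↥N) = Nat.card ↥(P : Subgroup ↥N) :=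
    Sylow.card_eq_multiplicity P'' ▸ (Sylow.card_eq_multiplicity P).symm ▸ rfl
  have heq : (((P : Subgroup ↥N).map N.subtype).map (MulAut.conj x).toMonoidHom).subgroupOf N
      = (P'' : Subgroup ↥N) :=
    Subgroup.eq_of_le_of_card_ge hP'' (by rw [hcard1, hcard2])
  have hmem : ∀ z : ↥N, z ∈ (P'' : Subgroup ↥N) → n * z * n⁻¹ ∈ (P : Subgroup ↥N) := by
    intro z hz
    have h1 : MulAut.conj n • z ∈ MulAut.conj n • (P'' : Subgroup ↥N) :=
      Subgroup.smul_mem_pointwise_smul z (MulAut.conj n) _ hz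
    rw [← Sylow.coe_subgroup_smul, hn] at h1
    simpa [MulAut.smul_def] using h1
  -- `y := n * x` maps `Q` into `Q`
  have hle : ((P : Subgroup ↥N).map N.subtype).map (MulAut.conj ((n : G) * x)).toMonoidHom ≤
      (P : Subgroup ↥N).map N.subtype := by
    rintro _ ⟨q, hq, rfl⟩
    have hq1 : x * q * x⁻¹ ∈ ((P : Subgroup ↥N).map N.subtype).map (MulAut.conj x).toMonoidHom :=
      ⟨q, hq, by simp [MulAut.conj_apply]⟩
    have hq2 : (⟨x * q * x⁻¹, hQxN hq1⟩ : ↥N) ∈ (P'' : Subgroup ↥N) := by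
      rw [← heq]; exact Subgroup.mem_subgroupOf.mpr hq1
    refine ⟨n * ⟨x * q * x⁻¹, hQxN hq1⟩ * n⁻¹, hmem _ hq2, ?_⟩
    simp [MulAut.conj_apply, mul_assoc]
  have hQy : ((P : Subgroup ↥N).map N.subtype).map (MulAut.conj ((n : G) * x)).toMonoidHom =
      (P : Subgroup ↥N).map N.subtype :=
    Subgroup.eq_of_le_of_card_ge hle (by rw [Cfsg.Agent.H25.Sx.card_map_conj])
  have hJy : (thompsonSubgroupOf 2 T).map (MulAut.conj ((n : G) * x)).toMonoidHom =
      thompsonSubgroupOf 2 T := by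
    rw [← hJQeq, ← Cfsg.Agent.H25.Sx.thompson_map_conj, hQy]
  refine ⟨(n : G)⁻¹, N.inv_mem n.2, (n : G) * x, X.mul_mem (hNX n.2) hx, ?_, by group⟩
  rw [Subgroup.mem_normalizer_iff]
  intro h
  constructor
  · intro hh
    rw [← hJy]
    exact ⟨h, hh, rfl⟩
  · intro hh
    rw [← hJy] at hh
    obtain ⟨j, hj, hje⟩ := hh
    have : j = h := by
      have h2 : (n : G) * x * j * ((n : G) * x)⁻¹ = (n : G) * x * h * ((n : G) * x)⁻¹ := hje
      exact mul_left_cancel (mul_right_cancel h2)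
    rw [← this]; exact hj

/-- The normal closure of `J(T)` in `X`: generated by the `X`-conjugates of `J(T)`. -/
def jClosure {G : Type u} [Group G] (T X : Subgroup G) : Subgroup G :=
  ⨆ x : ↥X, (thompsonSubgroupOf 2 T).map (MulAut.conj (x : G)).toMonoidHom

theorem jClosure_conj_le {G : Type u} [Group G] (T X : Subgroup G) (y : G) (hy : y ∈ X) :
    (jClosure T X).map (MulAut.conj y).toMonoidHom ≤ jClosure T X := by
  unfold jClosure
  rw [Subgroup.map_iSup]
  apply iSup_le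
  intro x
  refine le_trans ?_ (le_iSup _ (⟨y * x, X.mul_mem hy x.2⟩ : ↥X))
  rintro _ ⟨_, ⟨j, hj, rfl⟩, rfl⟩
  exact ⟨j, hj, by simp [MulAut.conj_apply, mul_assoc]⟩

theorem le_jClosure {G : Type u} [Group G] (T X : Subgroup G) :
    thompsonSubgroupOf 2 T ≤ jClosure T X := by
  unfold jClosure
  refine le_trans ?_ (le_iSup _ (1 : ↥X))
  intro j hj
  exact ⟨j, hj, by simp⟩

theorem jClosure_le {G : Type u} [Group G] (T X : Subgroup G) (hTX : T ≤ X) :
    jClosure T X ≤ X := by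
  unfold jClosure
  apply iSup_le
  rintro x _ ⟨j, hj, rfl⟩
  have hJT : thompsonSubgroupOf 2 T ≤ T := by
    unfold Cfsg.thompsonSubgroupOf
    exact Subgroup.map_subtype_le _
  exact X.mul_mem (X.mul_mem x.2 (hTX (hJT hj))) (X.inv_mem x.2)

theorem le_normalizer_jClosure {G : Type u} [Group G] (T X : Subgroup G) :
    X ≤ Subgroup.normalizer (jClosure T X : Set G) := by
  intro y hy
  rw [Subgroup.mem_normalizer_iff]
  intro h
  constructor
  · intro hh
    exact jClosure_conj_le T X y hy ⟨h, hh, rfl⟩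
  · intro hh
    have := jClosure_conj_le T X y⁻¹ (X.inv_mem hy) ⟨_, hh, rfl⟩
    simpa [MulAut.conj_apply, mul_assoc] using this

/-- Frattini: `X = ⟨J(T)^X⟩ · N_X(J(T))` for `T` a Sylow 2-subgroup of `X`. -/
theorem frattini_jClosure {G : Type u} [Group G] [Finite G] (T X : Subgroup G)
    (hT : IsSylowTwoIn T X) (x : G) (hx : x ∈ X) :
    ∃ n ∈ jClosure T X, ∃ y ∈ X,
      y ∈ Subgroup.normalizer (thompsonSubgroupOf 2 T : Set G) ∧ x = n * y :=
  frattini_J T X (jClosure T X) hT (jClosure_le T X hT.1) (le_normalizer_jClosure T X)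
    (le_jClosure T X) x hx

/-- If a subgroup `U` is normalized by `N_X(J(T))` and by every `X`-conjugate of `J(T)` (`T` a Sylow
2-subgroup of `X`), then `X` normalizes `U`. -/
theorem le_normalizer_of_frattini {G : Type u} [Group G] [Finite G] (T X U : Subgroup G)
    (hT : IsSylowTwoIn T X)
    (h1 : X ⊓ Subgroup.normalizer (thompsonSubgroupOf 2 T : Set G) ≤ Subgroup.normalizer (U : Set G))
    (h2 : ∀ x ∈ X, (thompsonSubgroupOf 2 T).map (MulAut.conj x).toMonoidHom ≤
      Subgroup.normalizer (U : Set G)) :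
    X ≤ Subgroup.normalizer (U : Set G) := by
  intro x hx
  obtain ⟨n, hn, y, hy, hyJ, rfl⟩ := frattini_jClosure T X hT x hx
  have hN : jClosure T X ≤ Subgroup.normalizer (U : Set G) := by
    unfold jClosure
    apply iSup_le
    intro z
    exact h2 z z.2
  exact Subgroup.mul_mem _ (hN hn) (h1 ⟨hy, hyJ⟩)

end Cfsg.Agent.H82.Uq
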