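import Cfsg.Agent.H58.UqDefs
import Cfsg.Agent.H82.UqFrat

/-!
# UQ-FRAT (piece of S2950): the Frattini argument for `J(T)`
-/

set_option autoImplicit false
open Cfsg

namespace Cfsg.Agent.H82.Uq

universe u

/-- UQ-FRAT. -/
theorem frat : Cfsg.Agent.H58.Uq.StFrat.{u} := by
  intro G _ _ T L U hT h2 h1
  exact le_normalizer_of_frattini T L U hT h1 h2

example : ∀ {G : Type u} [Group G] [Finite G] (T L U : Subgroup G),
  IsSylowTwoIn T L →
  (∀ l ∈ L, (thompsonSubgroupOf 2 T).map (MulAut.conj l).toMonoidHom ≤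
      Subgroup.normalizer (U : Set G)) →
  L ⊓ Subgroup.normalizer (thompsonSubgroupOf 2 T : Set G) ≤ Subgroup.normalizer (U : Set G) →
  L ≤ Subgroup.normalizer (U : Set G) := frat

end Cfsg.Agent.H82.Uq
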