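import Mathlib
import Cfsg.Prelude.Def_Characters
import Cfsg.Agent.H4.CharBasic
import Cfsg.Agent.H4.Chars
import Cfsg.Agent.H5.Galois2

/-!
# Zeros of characters: Galois norms and the AM-GM counting argument

For a character `F` of a finite group `G` and `g : G`, the product of `F (g ^ u)` over the units
`u` of `ZMod (Nat.card G)` is an integer, nonzero when `F g ≠ 0`.  Consequently, on any set `S`
of elements closed under these power maps on which `F` does not vanish, the sum of `‖F g‖ ^ k`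
is at least the cardinality of `S`.
-/

set_option autoImplicit false

namespace Cfsg.Agent.H82

open Cfsg.Agent.H4 Cfsg.Agent.H5

section Zeros

variable {G : Type*} [Group G] [Finite G] [NeZero (Nat.card G)]

/-- The Galois norm of a character value is an integer. -/
theorem char_prod_units_int {F : G → ℂ} (hF : Cfsg.IsCharacter G F) (g : G) :
    ∃ z : ℤ, ∏ u : (ZMod (Nat.card G))ˣ, F (g ^ (u : ZMod (Nat.card G)).val) = z ∧
      (F g ≠ 0 → z ≠ 0) := by
  obtain ⟨n, ρ, rfl⟩ := hF
  have hS : ∀ μ ∈ eigFinset ρ g, μ ^ Nat.card G = 1 := by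
    intro μ hμ
    obtain ⟨d, hd⟩ := orderOf_dvd_natCard g
    rw [hd, pow_mul, eigFinset_pow_orderOf ρ hμ, one_pow]
  obtain ⟨z, hz, hz0⟩ := rootsOfUnity_norm_int (Nat.card G) (eigFinset ρ g) (eigMult ρ g) hS
  refine ⟨z, ?_, fun h => hz0 ?_⟩
  · rw [← hz]
    exact Finset.prod_congr rfl fun u _ => character_pow ρ g _
  · rw [← character_eq_sum]; exact h

/-- Non-vanishing of a character propagates along the power maps by units. -/
theorem char_pow_unit_ne_zero {F : G → ℂ} (hF : Cfsg.IsCharacter G F) {g : G} (hg : F g ≠ 0)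
    (u : (ZMod (Nat.card G))ˣ) : F (g ^ (u : ZMod (Nat.card G)).val) ≠ 0 := by
  obtain ⟨z, hz, hz0⟩ := char_prod_units_int hF g
  have h1 : ∏ u : (ZMod (Nat.card G))ˣ, F (g ^ (u : ZMod (Nat.card G)).val) ≠ 0 := by
    rw [hz]; exact_mod_cast hz0 hg
  exact (Finset.prod_ne_zero_iff.mp h1) u (Finset.mem_univ u)

omit [Finite G] in
theorem pow_unit_injective (u : (ZMod (Nat.card G))ˣ) :
    Function.Injective (fun g : G => g ^ (u : ZMod (Nat.card G)).val) :=
  (powCoprime (ZMod.val_coe_unit_coprime u).symm).injective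

omit [Finite G] in
/-- A subgroup contains `g` as soon as it contains a unit power of `g`. -/
theorem mem_of_pow_unit_mem (H : Subgroup G) (u : (ZMod (Nat.card G))ˣ) {g : G}
    (hg : g ^ (u : ZMod (Nat.card G)).val ∈ H) : g ∈ H := by
  have h := (powCoprime (ZMod.val_coe_unit_coprime u).symm).symm_apply_apply g
  change (g ^ (u : ZMod (Nat.card G)).val) ^ ((Nat.card G).gcdB (u : ZMod (Nat.card G)).val) = g
    at h
  rw [← h]
  exact H.zpow_mem hg _

/-- AM-GM counting: a nonnegative function whose products along unit-power orbits are at least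
one has sum at least the cardinality, on any set closed under unit powers. -/
theorem card_le_sum_of_units_closed (a : G → ℝ) (ha : ∀ g, 0 ≤ a g) (S : Finset G)
    (hS : ∀ g ∈ S, ∀ u : (ZMod (Nat.card G))ˣ, g ^ (u : ZMod (Nat.card G)).val ∈ S)
    (hprod : ∀ g ∈ S, 1 ≤ ∏ u : (ZMod (Nat.card G))ˣ, a (g ^ (u : ZMod (Nat.card G)).val)) :
    (S.card : ℝ) ≤ ∑ g ∈ S, a g := by
  classical
  have hperm : ∀ u : (ZMod (Nat.card G))ˣ,
      ∑ g ∈ S, a (g ^ (u : ZMod (Nat.card G)).val) = ∑ g ∈ S, a g := by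
    intro u
    refine Finset.sum_nbij (fun g => g ^ (u : ZMod (Nat.card G)).val) (fun g hg => hS g hg u)
      ((pow_unit_injective u).injOn) ?_ (fun g _ => rfl)
    exact Finset.surjOn_of_injOn_of_card_le _ (fun g hg => hS g hg u)
      ((pow_unit_injective u).injOn) le_rfl
  have hU : (0 : ℝ) < Fintype.card (ZMod (Nat.card G))ˣ := by exact_mod_cast Fintype.card_pos
  have h1 : (S.card : ℝ) * (Fintype.card (ZMod (Nat.card G))ˣ : ℝ) ≤
      ∑ g ∈ S, ∑ u : (ZMod (Nat.card G))ˣ, a (g ^ (u : ZMod (Nat.card G)).val) := by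
    rw [← nsmul_eq_mul, ← Finset.sum_const]
    exact Finset.sum_le_sum fun g hg =>
      card_le_sum_of_one_le_prod _ (fun u => ha _) (hprod g hg)
  rw [Finset.sum_comm] at h1
  simp only [hperm] at h1
  rw [Finset.sum_const, Finset.card_univ, nsmul_eq_mul, mul_comm] at h1
  exact le_of_mul_le_mul_left h1 hU

/-- On a set closed under unit powers where the character `F` has no zero, the sum of
`‖F g‖ ^ k` is at least the number of elements. -/
theorem card_le_sum_norm_pow {F : G → ℂ} (hF : Cfsg.IsCharacter G F) (k : ℕ) (S : Finset G)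
    (hS : ∀ g ∈ S, ∀ u : (ZMod (Nat.card G))ˣ, g ^ (u : ZMod (Nat.card G)).val ∈ S)
    (hne : ∀ g ∈ S, F g ≠ 0) : (S.card : ℝ) ≤ ∑ g ∈ S, ‖F g‖ ^ k := by
  apply card_le_sum_of_units_closed (fun g => ‖F g‖ ^ k) (fun g => by positivity) S hS
  intro g hg
  obtain ⟨z, hz, hz0⟩ := char_prod_units_int hF g
  have hz1 : z ≠ 0 := hz0 (hne g hg)
  rw [Finset.prod_pow, ← norm_prod, hz]
  have h2 : (1 : ℝ) ≤ ‖(z : ℂ)‖ := by
    rw [Complex.norm_intCast]
    exact_mod_cast Int.one_le_abs hz1
  exact one_le_pow₀ h2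

end Zeros

end Cfsg.Agent.H82
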